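import Cfsg.Agent.Lib.H4.OG.Siegel

/-!
# A subgroup containing two opposite root groups contains all Siegel elements (helper4)

Let `e, f` be a hyperbolic pair of the nondegenerate quadratic form `Q` and let `H` be a subgroup
of the isometry group containing `T_{e,v}` and `T_{f,v}` for all `v ⊥ e, f`.  If `⟨e,f⟩^⊥` contains
a nonsingular vector, then `H` is transitive on the singular points and contains every `T_{u,v}`.
-/

set_option autoImplicit false
set_option linter.unusedSectionVars false

namespace Cfsg.Agent.Lib.H4.OG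

open Matrix

variable {F : Type*} [Field F] {ι : Type} [Fintype ι] [DecidableEq ι]
variable (Q : QuadraticForm F (ι → F))

set_option quotPrecheck false in
local notation "B" => QuadraticMap.polar (⇑Q)

section finish

variable (e f : ι → F) (H : Subgroup ↥(Cfsg.isometryGroup F ⇑Q))

/-- the orbit of the point `⟨e⟩` -/
def Orb (x : ι → F) : Prop := ∃ h ∈ H, ∃ c : F, c ≠ 0 ∧ x = c • act Q h e

theorem orb_act {x : ι → F} (hx : Orb Q e H x) {g : ↥(Cfsg.isometryGroup F ⇑Q)} (hg : g ∈ H) :
    Orb Q e H (act Q g x) := by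
  obtain ⟨h, hh, c, hc, rfl⟩ := hx
  exact ⟨g * h, H.mul_mem hg hh, c, hc, by rw [act_smul, act_mul]⟩

theorem orb_smul {x : ι → F} (hx : Orb Q e H x) {a : F} (ha : a ≠ 0) : Orb Q e H (a • x) := by
  obtain ⟨h, hh, c, hc, rfl⟩ := hx
  exact ⟨h, hh, a * c, mul_ne_zero ha hc, by rw [smul_smul]⟩

/-- a singular vector not orthogonal to `e` is a multiple of an image of `f` under a root element -/
theorem exists_Tel_map (he : Q e = 0) (hf : Q f = 0) (hef : B e f = 1) (x : ι → F) (hx : Q x = 0) (hxe : B e x ≠ 0) :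
    ∃ (v : ι → F) (h1 : B e v = 0), B f v = 0 ∧
      x = (B e x) • act Q (Tel Q e v he h1) f := by
  set c := B e x with hc
  set a := c⁻¹ * B f x with ha
  set z := c⁻¹ • x - f - a • e with hz
  have hfe : B f e = 1 := by rw [polar_comm' Q f e]; exact hef
  have hee : B e e = 0 := polar_self_of_sing Q he
  have hff : B f f = 0 := polar_self_of_sing Q hf
  have h1 : B e z = 0 := by
    rw [hz, polar_sub_right', polar_sub_right', polar_smul_right', polar_smul_right', hef, hee,
      ← hc]
    field_simp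
    ring
  have h2 : B f z = 0 := by
    rw [hz, polar_sub_right', polar_sub_right', polar_smul_right', polar_smul_right', hff, hfe, ha]
    ring
  -- `c⁻¹ x = f + a e + z`
  have hx' : c⁻¹ • x = f + a • e + z := by
    rw [hz]; abel
  have hQ : Q z + a = 0 := by
    have h0 : Q (c⁻¹ • x) = 0 := by rw [Q_smul', hx, mul_zero]
    rw [hx', Q_add', Q_add', Q_smul', he, hf, polar_smul_right', hfe, polar_add_left',
      polar_smul_left', h1, h2] at h0
    linear_combination h0
  have h1' : B e (-z) = 0 := by rw [QuadraticMap.polar_neg_right, h1, neg_zero]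
  have h2' : B f (-z) = 0 := by rw [QuadraticMap.polar_neg_right, h2, neg_zero]
  refine ⟨-z, h1', h2', ?_⟩
  rw [act_Tel, hef, polar_comm' Q (-z) f, h2', QuadraticMap.map_neg]
  have : x = c • (c⁻¹ • x) := by rw [smul_smul, mul_inv_cancel₀ hxe, one_smul]
  conv_lhs => rw [this, hx']
  congr 1
  have ha' : a = -Q z := by linear_combination hQ
  rw [ha']
  ext i
  simp only [Pi.add_apply, Pi.sub_apply, Pi.smul_apply, smul_eq_mul, Pi.neg_apply]
  ring

/-- a singular vector not orthogonal to `e` lies in `F^* H f` -/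
theorem mem_orb_f_of_polar_e (he : Q e = 0) (hf : Q f = 0) (hef : B e f = 1)
    (hE : ∀ (v : ι → F) (h1 : B e v = 0), B f v = 0 → Tel Q e v he h1 ∈ H) (x : ι → F) (hx : Q x = 0) (hxe : B e x ≠ 0) :
    Orb Q f H x := by
  obtain ⟨v, h1, h2, hxv⟩ := exists_Tel_map Q e f he hf hef x hx hxe
  exact ⟨_, hE v h1 h2, B e x, hxe, hxv⟩

/-- a singular vector not orthogonal to `f` lies in `F^* H e` -/
theorem mem_orb_e_of_polar_f (he : Q e = 0) (hf : Q f = 0) (hef : B e f = 1)
    (hF : ∀ (v : ι → F) (h1 : B f v = 0), B e v = 0 → Tel Q f v hf h1 ∈ H) (x : ι → F) (hx : Q x = 0) (hxf : B f x ≠ 0) :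
    Orb Q e H x := by
  have hfe : B f e = 1 := by rw [polar_comm' Q f e]; exact hef
  obtain ⟨v, h1, h2, hxv⟩ := exists_Tel_map Q f e hf he hfe x hx hxf
  exact ⟨_, hF v h1 h2, B f x, hxf, hxv⟩

/-- `f` lies in the orbit of `e` -/
theorem f_mem_orb (he : Q e = 0) (hf : Q f = 0) (hef : B e f = 1)
    (hE : ∀ (v : ι → F) (h1 : B e v = 0), B f v = 0 → Tel Q e v he h1 ∈ H)
    (hF : ∀ (v : ι → F) (h1 : B f v = 0), B e v = 0 → Tel Q f v hf h1 ∈ H)
    (z : ι → F) (hz1 : B e z = 0) (hz2 : B f z = 0) (hz : Q z ≠ 0) : Orb Q e H f := by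
  have hfe : B f e = 1 := by rw [polar_comm' Q f e]; exact hef
  have hee : B e e = 0 := polar_self_of_sing Q he
  have hff : B f f = 0 := polar_self_of_sing Q hf
  set x₀ := f - (Q z) • e + z with hx₀
  have hQx : Q x₀ = 0 := by
    rw [hx₀, Q_add', Q_sub', Q_smul', he, hf, polar_smul_right', hfe, polar_sub_left',
      polar_smul_left', hz1, hz2]
    ring
  have h1 : B e x₀ = 1 := by
    rw [hx₀, polar_add_right', polar_sub_right', polar_smul_right', hef, hee, hz1]; ring
  have h2 : B f x₀ = -Q z := by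
    rw [hx₀, polar_add_right', polar_sub_right', polar_smul_right', hff, hfe, hz2]; ring
  have ho1 : Orb Q f H x₀ :=
    mem_orb_f_of_polar_e Q e f H he hf hef hE x₀ hQx (by rw [h1]; exact one_ne_zero)
  have ho2 : Orb Q e H x₀ :=
    mem_orb_e_of_polar_f Q e f H he hf hef hF x₀ hQx (by rw [h2]; exact neg_ne_zero.2 hz)
  obtain ⟨h, hh, c, hc, hx⟩ := ho1
  -- `f = c⁻¹ • act h⁻¹ x₀`
  have : f = c⁻¹ • act Q h⁻¹ x₀ := by
    rw [hx, act_smul, act_inv_act, smul_smul, inv_mul_cancel₀ hc, one_smul]
  rw [this]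
  exact orb_smul Q e H (orb_act Q e H ho2 (H.inv_mem hh)) (inv_ne_zero hc)

/-- transitivity on singular vectors up to scalars -/
theorem mem_orb_of_sing (he : Q e = 0) (hf : Q f = 0) (hef : B e f = 1)
    (hE : ∀ (v : ι → F) (h1 : B e v = 0), B f v = 0 → Tel Q e v he h1 ∈ H)
    (hF : ∀ (v : ι → F) (h1 : B f v = 0), B e v = 0 → Tel Q f v hf h1 ∈ H)
    (z : ι → F) (hz1 : B e z = 0) (hz2 : B f z = 0) (hz : Q z ≠ 0)
    (hnd : (QuadraticMap.polarBilin Q).Nondegenerate)
    (x : ι → F) (hx0 : x ≠ 0) (hx : Q x = 0) : Orb Q e H x := by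
  have hfe : B f e = 1 := by rw [polar_comm' Q f e]; exact hef
  have hee : B e e = 0 := polar_self_of_sing Q he
  have hff : B f f = 0 := polar_self_of_sing Q hf
  have hfo := f_mem_orb Q e f H he hf hef hE hF z hz1 hz2 hz
  -- vectors not orthogonal to `e`
  have key1 : ∀ y : ι → F, Q y = 0 → B e y ≠ 0 → Orb Q e H y := by
    intro y hy hye
    obtain ⟨h, hh, c, hc, hyv⟩ := mem_orb_f_of_polar_e Q e f H he hf hef hE y hy hye
    rw [hyv]
    exact orb_smul Q e H (orb_act Q e H hfo hh) hc
  by_cases hxe : B e x = 0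
  · by_cases hxf : B f x = 0
    · -- `x ⊥ e, f`
      obtain ⟨y₀, hy₀⟩ : ∃ y₀, B x y₀ ≠ 0 := by
        by_contra hcon
        push Not at hcon
        apply hx0
        have := hnd.1 x (fun y => by
          rw [QuadraticMap.polarBilin_apply_apply]; exact hcon y)
        exact this
      set z' := y₀ - (B f y₀) • e - (B e y₀) • f with hz'
      have hz'1 : B e z' = 0 := by
        rw [hz', polar_sub_right', polar_sub_right', polar_smul_right', polar_smul_right', hee, hef]
        ring
      have hz'2 : B f z' = 0 := by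
        rw [hz', polar_sub_right', polar_sub_right', polar_smul_right', polar_smul_right', hff, hfe]
        ring
      have hxz' : B x z' ≠ 0 := by
        rw [hz', polar_sub_right', polar_sub_right', polar_smul_right', polar_smul_right',
          polar_comm' Q x e, polar_comm' Q x f, hxe, hxf]
        simpa using hy₀
      set y := f - (Q z') • e + z' with hy
      have hQy : Q y = 0 := by
        rw [hy, Q_add', Q_sub', Q_smul', he, hf, polar_smul_right', hfe, polar_sub_left',
          polar_smul_left', hz'1, hz'2]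
        ring
      have hye : B e y = 1 := by
        rw [hy, polar_add_right', polar_sub_right', polar_smul_right', hef, hee, hz'1]; ring
      have hyx : B y x ≠ 0 := by
        rw [hy, polar_add_left', polar_sub_left', polar_smul_left', hxe, hxf,
          polar_comm' Q z' x]
        simpa using hxz'
      obtain ⟨h, hh, c, hc, hyv⟩ := key1 y hQy (by rw [hye]; exact one_ne_zero)
      -- `x' = h⁻¹ x` is not orthogonal to `e`
      have hx' : B e (act Q h⁻¹ x) ≠ 0 := by
        rw [← polar_act_left Q h e x]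
        have : act Q h e = c⁻¹ • y := by
          rw [hyv, smul_smul, inv_mul_cancel₀ hc, one_smul]
        rw [this, polar_smul_left']
        exact mul_ne_zero (inv_ne_zero hc) hyx
      have := key1 (act Q h⁻¹ x) (by rw [Q_act, hx]) hx'
      have h3 := orb_act Q e H this hh
      rwa [act_act_inv] at h3
    · exact mem_orb_e_of_polar_f Q e f H he hf hef hF x hx hxf
  · exact key1 x hx hxe

/-- **Finishing lemma**: `H` contains every Siegel element. -/
theorem Tel_mem_of_rootGroups (he : Q e = 0) (hf : Q f = 0) (hef : B e f = 1)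
    (hE : ∀ (v : ι → F) (h1 : B e v = 0), B f v = 0 → Tel Q e v he h1 ∈ H)
    (hF : ∀ (v : ι → F) (h1 : B f v = 0), B e v = 0 → Tel Q f v hf h1 ∈ H)
    (z : ι → F) (hz1 : B e z = 0) (hz2 : B f z = 0) (hz : Q z ≠ 0)
    (hnd : (QuadraticMap.polarBilin Q).Nondegenerate)
    (u v : ι → F) (hu : Q u = 0) (huv : B u v = 0) : Tel Q u v hu huv ∈ H := by
  have hee : B e e = 0 := polar_self_of_sing Q he
  by_cases hu0 : u = 0
  · subst hu0
    have : Tel Q 0 v hu huv = 1 := by
      apply act_ext
      intro x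
      rw [act_Tel, act_one, QuadraticMap.polar_zero_left]
      simp
    rw [this]
    exact H.one_mem
  obtain ⟨h, hh, c, hc, huh⟩ := mem_orb_of_sing Q e f H he hf hef hE hF z hz1 hz2 hz hnd u hu0 hu
  -- `w = c • h⁻¹ v`
  obtain ⟨w, hw⟩ : ∃ w, w = c • act Q h⁻¹ v := ⟨_, rfl⟩
  have hew : B e w = 0 := by
    rw [hw, polar_smul_right', ← polar_act_left Q h e v]
    have : act Q h e = c⁻¹ • u := by rw [huh, smul_smul, inv_mul_cancel₀ hc, one_smul]
    rw [this, polar_smul_left', huv]
    ring
  obtain ⟨w₀, hw₀⟩ : ∃ w₀, w₀ = w - (B f w) • e := ⟨_, rfl⟩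
  have h1 : B e w₀ = 0 := by
    rw [hw₀, polar_sub_right', polar_smul_right', hew, hee]; ring
  have h2 : B f w₀ = 0 := by
    rw [hw₀, polar_sub_right', polar_smul_right', polar_comm' Q f e, hef]; ring
  have hmem : Tel Q e w he hew ∈ H := by
    have h3 := Tel_add_smul Q (B f w) e w₀ he h1
    have h4 : w₀ + (B f w) • e = w := by rw [hw₀]; abel
    rw [Tel_congr Q he _ rfl h4] at h3
    rw [h3]
    exact hE w₀ h1 h2
  -- conjugate
  have hconj := conj_Tel Q h e w he hew
  have e1 : act Q h w = c • v := by rw [hw, act_smul, act_act_inv]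
  have h5 : Tel Q u v hu huv = h * Tel Q e w he hew * h⁻¹ := by
    rw [hconj]
    have h6 := Tel_smul_left Q c (act Q h e) v (by rw [Q_act, he]) (by
      have : act Q h e = c⁻¹ • u := by rw [huh, smul_smul, inv_mul_cancel₀ hc, one_smul]
      rw [this, polar_smul_left', huv, mul_zero])
    rw [Tel_congr Q hu huv huh rfl, h6]
    exact Tel_congr Q _ _ rfl e1.symm
  rw [h5]
  exact H.mul_mem (H.mul_mem hh hmem) (H.inv_mem hh)

end finish

end Cfsg.Agent.Lib.H4.OG
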