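import Cfsg.Agent.Lib.H4.OG.RootEl

/-!
# Two special elements attached to a pair of hyperbolic planes of a frame (helper4)

For a frame `(e, f)` and indices `c ≠ d`:
* `yel = T_{e_c - f_d, e_d + f_c}`, a root element (of order `p`) not stabilising `⟨e_i⟩`;
* `zel = T_{e_c, e_d} T_{f_d, f_c}`, of order dividing `3` in characteristic `2` and dividing `4`
  in characteristic `3`.
-/

set_option autoImplicit false
set_option linter.unusedSectionVars false
set_option linter.unusedSimpArgs false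

namespace Cfsg.Agent.Lib.H4.OG

open Matrix

variable {F : Type*} [Field F] {ι : Type} [Fintype ι] [DecidableEq ι]
variable (Q : QuadraticForm F (ι → F))

set_option quotPrecheck false in
local notation "B" => QuadraticMap.polar (⇑Q)

variable {κ : Type} {e f : κ → ι → F}

/-! ### The element `yel` -/

/-- the root element `T_{e_c - f_d, e_d + f_c}` -/
noncomputable def yel (e f : κ → ι → F) (c d : κ) : ↥(Cfsg.isometryGroup F ⇑Q) :=
  Tl Q (e c - f d) (e d + f c)

theorem Frame.Q_yu (hfr : Frame Q e f) {c d : κ} (hcd : c ≠ d) : Q (e c - f d) = 0 := by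
  rw [Q_sub', hfr.Qe, hfr.Qf, hfr.ef_ne c d hcd]; ring

theorem Frame.Q_yv (hfr : Frame Q e f) {c d : κ} (hcd : c ≠ d) : Q (e d + f c) = 0 := by
  rw [Q_add', hfr.Qe, hfr.Qf, hfr.ef_ne d c (Ne.symm hcd)]; ring

theorem Frame.B_yuv (hfr : Frame Q e f) {c d : κ} (_hcd : c ≠ d) :
    B (e c - f d) (e d + f c) = 0 := by
  rw [polar_sub_left', polar_add_right', polar_add_right', hfr.ee, hfr.ef_same, hfr.fe_same,
    hfr.ff]; ring

theorem Frame.act_yel (hfr : Frame Q e f) {c d : κ} (hcd : c ≠ d) (x : ι → F) :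
    act Q (yel Q e f c d) x =
      x + (B (e d) x + B (f c) x) • (e c - f d) - (B (e c) x - B (f d) x) • (e d + f c) := by
  unfold yel
  rw [act_Tl_of_sing Q (hfr.Q_yu Q hcd) (hfr.B_yuv Q hcd) (hfr.Q_yv Q hcd), polar_add_left',
    polar_sub_left']

theorem Frame.yel_fix_e (hfr : Frame Q e f) {c d a : κ} (hcd : c ≠ d) (hac : a ≠ c) (had : a ≠ d) :
    act Q (yel Q e f c d) (e a) = e a := by
  rw [hfr.act_yel Q hcd, hfr.ee, hfr.ee, hfr.fe_ne Q c a (Ne.symm hac),
    hfr.fe_ne Q d a (Ne.symm had)]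
  simp

theorem Frame.yel_fix_f (hfr : Frame Q e f) {c d a : κ} (hcd : c ≠ d) (hac : a ≠ c) (had : a ≠ d) :
    act Q (yel Q e f c d) (f a) = f a := by
  rw [hfr.act_yel Q hcd, hfr.ff, hfr.ff, hfr.ef_ne c a (Ne.symm hac),
    hfr.ef_ne d a (Ne.symm had)]
  simp

theorem Frame.yel_fc (hfr : Frame Q e f) {c d : κ} (hcd : c ≠ d) :
    act Q (yel Q e f c d) (f c) = (0 : F) • f c + (-1 : F) • e d := by
  rw [hfr.act_yel Q hcd, hfr.ff, hfr.ff, hfr.ef_ne d c (Ne.symm hcd), hfr.ef_same]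
  ext i
  simp only [Pi.add_apply, Pi.sub_apply, Pi.smul_apply, smul_eq_mul]
  ring

theorem Frame.yel_ec (hfr : Frame Q e f) {c d : κ} (hcd : c ≠ d) :
    act Q (yel Q e f c d) (e c) = (2 : F) • e c + (-1 : F) • f d := by
  rw [hfr.act_yel Q hcd, hfr.ee, hfr.ee, hfr.fe_ne Q d c (Ne.symm hcd), hfr.fe_same]
  ext i
  simp only [Pi.add_apply, Pi.sub_apply, Pi.smul_apply, smul_eq_mul]
  ring

theorem Frame.yel_pow (hfr : Frame Q e f) {c d : κ} (hcd : c ≠ d) (p : ℕ) (hp : (p : F) = 0) :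
    (yel Q e f c d) ^ p = 1 := by
  unfold yel
  rw [Tl_pow Q (hfr.Q_yu Q hcd) (hfr.B_yuv Q hcd), hp, zero_smul, Tl_zero Q (hfr.Q_yu Q hcd)]

theorem Frame.yel_comm (hfr : Frame Q e f) {c d : κ} (hcd : c ≠ d)
    (g : ↥(Cfsg.isometryGroup F ⇑Q)) (h1 : act Q g (e c) = e c) (h2 : act Q g (e d) = e d)
    (h3 : act Q g (f c) = f c) (h4 : act Q g (f d) = f d) :
    g * yel Q e f c d = yel Q e f c d * g := by
  have h := conj_Tl Q g (hfr.Q_yu Q hcd) (hfr.B_yuv Q hcd)
  rw [act_sub, act_add, h1, h2, h3, h4] at h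
  unfold yel
  calc g * Tl Q (e c - f d) (e d + f c)
      = (g * Tl Q (e c - f d) (e d + f c) * g⁻¹) * g := by group
    _ = Tl Q (e c - f d) (e d + f c) * g := by rw [h]

/-! ### The element `zel` -/

/-- the element `T_{e_c, e_d} T_{f_d, f_c}` -/
noncomputable def zel (e f : κ → ι → F) (c d : κ) : ↥(Cfsg.isometryGroup F ⇑Q) :=
  Tl Q (e c) (e d) * Tl Q (f d) (f c)

theorem Frame.act_zel (hfr : Frame Q e f) {c d : κ} (_hcd : c ≠ d) (x : ι → F) :
    act Q (zel Q e f c d) x =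
      x + (B (e d) x + B (f c) x) • e c + (B (f d) x - B (e c) x) • e d - (B (f d) x) • f c +
        (B (f c) x) • f d := by
  unfold zel
  rw [act_mul, act_Tl_of_sing Q (hfr.Qf d) (hfr.ff d c) (hfr.Qf c),
    act_Tl_of_sing Q (hfr.Qe c) (hfr.ee c d) (hfr.Qe d)]
  rw [polar_sub_right', polar_sub_right', polar_add_right', polar_add_right',
    polar_smul_right', polar_smul_right', polar_smul_right', polar_smul_right',
    hfr.ef_same, hfr.ef_same, hfr.ef_ne c d _hcd, hfr.ef_ne d c (Ne.symm _hcd)]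
  ext i
  simp only [Pi.add_apply, Pi.sub_apply, Pi.smul_apply, smul_eq_mul]
  ring

theorem Frame.zel_fix_e (hfr : Frame Q e f) {c d a : κ} (hcd : c ≠ d) (hac : a ≠ c) (had : a ≠ d) :
    act Q (zel Q e f c d) (e a) = e a := by
  rw [hfr.act_zel Q hcd, hfr.ee, hfr.ee, hfr.fe_ne Q c a (Ne.symm hac),
    hfr.fe_ne Q d a (Ne.symm had)]
  simp

theorem Frame.zel_fix_f (hfr : Frame Q e f) {c d a : κ} (hcd : c ≠ d) (hac : a ≠ c) (had : a ≠ d) :
    act Q (zel Q e f c d) (f a) = f a := by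
  rw [hfr.act_zel Q hcd, hfr.ff, hfr.ff, hfr.ef_ne c a (Ne.symm hac),
    hfr.ef_ne d a (Ne.symm had)]
  simp

/-- the action on `⟨e_c, f_d⟩` -/
theorem Frame.zel_W1 (hfr : Frame Q e f) {c d : κ} (hcd : c ≠ d) (α β : F) :
    act Q (zel Q e f c d) (α • e c + β • f d) = (2 * α + β) • e c + (α + β) • f d := by
  rw [hfr.act_zel Q hcd]
  simp only [polar_add_right', polar_smul_right', hfr.ee, hfr.ff, hfr.ef_same, hfr.fe_same,
    hfr.ef_ne c d hcd, hfr.ef_ne d c (Ne.symm hcd), hfr.fe_ne Q c d hcd,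
    hfr.fe_ne Q d c (Ne.symm hcd)]
  ext i
  simp only [Pi.add_apply, Pi.sub_apply, Pi.smul_apply, smul_eq_mul]
  ring

/-- the action on `⟨e_d, f_c⟩` -/
theorem Frame.zel_W2 (hfr : Frame Q e f) {c d : κ} (hcd : c ≠ d) (α β : F) :
    act Q (zel Q e f c d) (α • e d + β • f c) = (2 * α - β) • e d + (β - α) • f c := by
  rw [hfr.act_zel Q hcd]
  simp only [polar_add_right', polar_smul_right', hfr.ee, hfr.ff, hfr.ef_same, hfr.fe_same,
    hfr.ef_ne c d hcd, hfr.ef_ne d c (Ne.symm hcd), hfr.fe_ne Q c d hcd,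
    hfr.fe_ne Q d c (Ne.symm hcd)]
  ext i
  simp only [Pi.add_apply, Pi.sub_apply, Pi.smul_apply, smul_eq_mul]
  ring

theorem Frame.zel_fc (hfr : Frame Q e f) {c d : κ} (hcd : c ≠ d) :
    act Q (zel Q e f c d) (f c) = (1 : F) • f c + (-1 : F) • e d := by
  have h := hfr.zel_W2 Q hcd 0 1
  rw [zero_smul, zero_add, one_smul] at h
  rw [h]
  ext i
  simp only [Pi.add_apply, Pi.smul_apply, smul_eq_mul]
  ring

theorem Frame.zel_ec (hfr : Frame Q e f) {c d : κ} (hcd : c ≠ d) :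
    act Q (zel Q e f c d) (e c) = (2 : F) • e c + (1 : F) • f d := by
  have h := hfr.zel_W1 Q hcd 1 0
  rw [zero_smul, add_zero, one_smul] at h
  rw [h]
  ext i
  simp only [Pi.add_apply, Pi.smul_apply, smul_eq_mul]
  ring

theorem Frame.zel_fix_perp (hfr : Frame Q e f) {c d : κ} (hcd : c ≠ d) (x : ι → F)
    (h1 : B (e c) x = 0) (h2 : B (e d) x = 0) (h3 : B (f c) x = 0) (h4 : B (f d) x = 0) :
    act Q (zel Q e f c d) x = x := by
  rw [hfr.act_zel Q hcd, h1, h2, h3, h4]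
  simp

/-- an isometry fixing `e_c, e_d, f_c, f_d` and their common orthogonal complement is trivial -/
theorem Frame.eq_one_of_fix4 (hfr : Frame Q e f) {c d : κ} (hcd : c ≠ d)
    (g : ↥(Cfsg.isometryGroup F ⇑Q)) (h1 : act Q g (e c) = e c) (h2 : act Q g (e d) = e d)
    (h3 : act Q g (f c) = f c) (h4 : act Q g (f d) = f d)
    (h5 : ∀ x, B (e c) x = 0 → B (e d) x = 0 → B (f c) x = 0 → B (f d) x = 0 → act Q g x = x) :
    g = 1 := by
  apply act_ext
  intro x
  rw [act_one]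
  obtain ⟨π, hπ⟩ : ∃ π, π = (B (f c) x) • e c + (B (f d) x) • e d + (B (e c) x) • f c +
    (B (e d) x) • f d := ⟨_, rfl⟩
  have hx : x = (x - π) + π := by abel
  have hg : act Q g π = π := by
    rw [hπ, act_add, act_add, act_add, act_smul, act_smul, act_smul, act_smul, h1, h2, h3, h4]
  have p1 : B (e c) (x - π) = 0 := by
    rw [polar_sub_right', hπ]
    simp only [polar_add_right', polar_smul_right', hfr.ee, hfr.ef_same, hfr.ef_ne c d hcd]
    ring
  have p2 : B (e d) (x - π) = 0 := by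
    rw [polar_sub_right', hπ]
    simp only [polar_add_right', polar_smul_right', hfr.ee, hfr.ef_same,
      hfr.ef_ne d c (Ne.symm hcd)]
    ring
  have p3 : B (f c) (x - π) = 0 := by
    rw [polar_sub_right', hπ]
    simp only [polar_add_right', polar_smul_right', hfr.ff, hfr.fe_same, hfr.fe_ne Q c d hcd]
    ring
  have p4 : B (f d) (x - π) = 0 := by
    rw [polar_sub_right', hπ]
    simp only [polar_add_right', polar_smul_right', hfr.ff, hfr.fe_same,
      hfr.fe_ne Q d c (Ne.symm hcd)]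
    ring
  conv_lhs => rw [hx]
  rw [act_add, hg, h5 _ p1 p2 p3 p4]
  abel

theorem smul_pair_eq_left {M : Type*} [AddCommGroup M] [Module F M] (a b : F) (u v : M)
    (ha : a = 1) (hb : b = 0) : a • u + b • v = u := by
  rw [ha, hb, one_smul, zero_smul, add_zero]

theorem smul_pair_eq_right {M : Type*} [AddCommGroup M] [Module F M] (a b : F) (u v : M)
    (ha : a = 0) (hb : b = 1) : a • u + b • v = v := by
  rw [ha, hb, one_smul, zero_smul, zero_add]

/-- in characteristic `2`, `zel ^ 3 = 1` -/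
theorem Frame.zel_pow_three (hfr : Frame Q e f) {c d : κ} (hcd : c ≠ d) (h2 : (2 : F) = 0) :
    (zel Q e f c d) ^ 3 = 1 := by
  have hpow : ∀ x, act Q ((zel Q e f c d) ^ 3) x =
      act Q (zel Q e f c d) (act Q (zel Q e f c d) (act Q (zel Q e f c d) x)) := by
    intro x
    rw [pow_succ, pow_succ, pow_one, act_mul, act_mul]
  apply hfr.eq_one_of_fix4 Q hcd
  · have h0 : e c = (1 : F) • e c + (0 : F) • f d := by rw [one_smul, zero_smul, add_zero]
    rw [hpow]
    conv_lhs => rw [h0]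
    rw [hfr.zel_W1 Q hcd, hfr.zel_W1 Q hcd, hfr.zel_W1 Q hcd]
    apply smul_pair_eq_left
    · linear_combination (6 : F) * h2
    · linear_combination (4 : F) * h2
  · have h0 : e d = (1 : F) • e d + (0 : F) • f c := by rw [one_smul, zero_smul, add_zero]
    rw [hpow]
    conv_lhs => rw [h0]
    rw [hfr.zel_W2 Q hcd, hfr.zel_W2 Q hcd, hfr.zel_W2 Q hcd]
    apply smul_pair_eq_left
    · linear_combination (6 : F) * h2
    · linear_combination (-4 : F) * h2
  · have h0 : f c = (0 : F) • e d + (1 : F) • f c := by rw [one_smul, zero_smul, zero_add]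
    rw [hpow]
    conv_lhs => rw [h0]
    rw [hfr.zel_W2 Q hcd, hfr.zel_W2 Q hcd, hfr.zel_W2 Q hcd]
    apply smul_pair_eq_right
    · linear_combination (-4 : F) * h2
    · linear_combination (2 : F) * h2
  · have h0 : f d = (0 : F) • e c + (1 : F) • f d := by rw [one_smul, zero_smul, zero_add]
    rw [hpow]
    conv_lhs => rw [h0]
    rw [hfr.zel_W1 Q hcd, hfr.zel_W1 Q hcd, hfr.zel_W1 Q hcd]
    apply smul_pair_eq_right
    · linear_combination (4 : F) * h2
    · linear_combination (2 : F) * h2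
  · intro x p1 p2 p3 p4
    rw [hpow, hfr.zel_fix_perp Q hcd x p1 p2 p3 p4, hfr.zel_fix_perp Q hcd x p1 p2 p3 p4,
      hfr.zel_fix_perp Q hcd x p1 p2 p3 p4]

/-- in characteristic `3`, `zel ^ 4 = 1` -/
theorem Frame.zel_pow_four (hfr : Frame Q e f) {c d : κ} (hcd : c ≠ d) (h3 : (3 : F) = 0) :
    (zel Q e f c d) ^ 4 = 1 := by
  have hpow : ∀ x, act Q ((zel Q e f c d) ^ 4) x =
      act Q (zel Q e f c d) (act Q (zel Q e f c d) (act Q (zel Q e f c d)
        (act Q (zel Q e f c d) x))) := by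
    intro x
    rw [pow_succ, pow_succ, pow_succ, pow_one, act_mul, act_mul, act_mul]
  apply hfr.eq_one_of_fix4 Q hcd
  · have h0 : e c = (1 : F) • e c + (0 : F) • f d := by rw [one_smul, zero_smul, add_zero]
    rw [hpow]
    conv_lhs => rw [h0]
    rw [hfr.zel_W1 Q hcd, hfr.zel_W1 Q hcd, hfr.zel_W1 Q hcd, hfr.zel_W1 Q hcd]
    apply smul_pair_eq_left
    · linear_combination (11 : F) * h3
    · linear_combination (7 : F) * h3
  · have h0 : e d = (1 : F) • e d + (0 : F) • f c := by rw [one_smul, zero_smul, add_zero]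
    rw [hpow]
    conv_lhs => rw [h0]
    rw [hfr.zel_W2 Q hcd, hfr.zel_W2 Q hcd, hfr.zel_W2 Q hcd, hfr.zel_W2 Q hcd]
    apply smul_pair_eq_left
    · linear_combination (11 : F) * h3
    · linear_combination (-7 : F) * h3
  · have h0 : f c = (0 : F) • e d + (1 : F) • f c := by rw [one_smul, zero_smul, zero_add]
    rw [hpow]
    conv_lhs => rw [h0]
    rw [hfr.zel_W2 Q hcd, hfr.zel_W2 Q hcd, hfr.zel_W2 Q hcd, hfr.zel_W2 Q hcd]
    apply smul_pair_eq_right
    · linear_combination (-7 : F) * h3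
    · linear_combination (4 : F) * h3
  · have h0 : f d = (0 : F) • e c + (1 : F) • f d := by rw [one_smul, zero_smul, zero_add]
    rw [hpow]
    conv_lhs => rw [h0]
    rw [hfr.zel_W1 Q hcd, hfr.zel_W1 Q hcd, hfr.zel_W1 Q hcd, hfr.zel_W1 Q hcd]
    apply smul_pair_eq_right
    · linear_combination (7 : F) * h3
    · linear_combination (4 : F) * h3
  · intro x p1 p2 p3 p4
    rw [hpow, hfr.zel_fix_perp Q hcd x p1 p2 p3 p4, hfr.zel_fix_perp Q hcd x p1 p2 p3 p4,
      hfr.zel_fix_perp Q hcd x p1 p2 p3 p4, hfr.zel_fix_perp Q hcd x p1 p2 p3 p4]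

theorem Frame.zel_comm (hfr : Frame Q e f) {c d : κ} (_hcd : c ≠ d)
    (g : ↥(Cfsg.isometryGroup F ⇑Q)) (h1 : act Q g (e c) = e c) (h2 : act Q g (e d) = e d)
    (h3 : act Q g (f c) = f c) (h4 : act Q g (f d) = f d) :
    g * zel Q e f c d = zel Q e f c d * g := by
  have ha := conj_Tl Q g (hfr.Qe c) (hfr.ee c d)
  have hb := conj_Tl Q g (hfr.Qf d) (hfr.ff d c)
  rw [h1, h2] at ha
  rw [h3, h4] at hb
  unfold zel
  calc g * (Tl Q (e c) (e d) * Tl Q (f d) (f c))
      = (g * Tl Q (e c) (e d) * g⁻¹) * (g * Tl Q (f d) (f c) * g⁻¹) * g := by group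
    _ = Tl Q (e c) (e d) * Tl Q (f d) (f c) * g := by rw [ha, hb]

/-! ### Levi root elements fix most frame vectors -/

theorem Frame.levi_fix_e (hfr : Frame Q e f) {i j a : κ} (hij : i ≠ j) (haj : a ≠ j) (t : F) :
    act Q (Tl Q (e i) (t • f j)) (e a) = e a := by
  rw [act_Tl_of_sing Q (hfr.Qe i) (by rw [polar_smul_right', hfr.ef_ne i j hij, mul_zero])
    (by rw [Q_smul', hfr.Qf, mul_zero]), polar_smul_left', hfr.fe_ne Q j a (Ne.symm haj), hfr.ee]
  simp

theorem Frame.levi_fix_f (hfr : Frame Q e f) {i j a : κ} (hij : i ≠ j) (hai : a ≠ i) (t : F) :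
    act Q (Tl Q (e i) (t • f j)) (f a) = f a := by
  rw [act_Tl_of_sing Q (hfr.Qe i) (by rw [polar_smul_right', hfr.ef_ne i j hij, mul_zero])
    (by rw [Q_smul', hfr.Qf, mul_zero]), polar_smul_left', hfr.ff, hfr.ef_ne i a (Ne.symm hai)]
  simp

end Cfsg.Agent.Lib.H4.OG
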