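import Cfsg.Agent.Lib.H4.OG.MinusKey

/-!
# Short root elements relative to a frame, and mixing elements (helper4)
-/

set_option autoImplicit false
set_option linter.unusedSectionVars false

namespace Cfsg.Agent.Lib.H4.OG

open Matrix Cfsg.Agent.Lib.H13 Cfsg.Agent.Lib.H13.PlusLevi Cfsg.Agent.Lib.H13.OrthSum

section general

variable {F : Type*} [Field F] {ι : Type} [Fintype ι] [DecidableEq ι]
variable (Q : QuadraticForm F (ι → F))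

set_option quotPrecheck false in
local notation "B" => QuadraticMap.polar (⇑Q)

theorem act_sum (g : ↥(Cfsg.isometryGroup F ⇑Q)) {α : Type*} (s : Finset α) (v : α → ι → F) :
    act Q g (∑ i ∈ s, v i) = ∑ i ∈ s, act Q g (v i) := by
  classical
  induction s using Finset.induction_on with
  | empty => rw [Finset.sum_empty, Finset.sum_empty, act_zero]
  | insert a s ha ih => rw [Finset.sum_insert ha, Finset.sum_insert ha, act_add, ih]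

/-- `T_{u,v} ∈ Ω` when a hyperbolic pair is orthogonal to `u` and `v` -/
theorem Tl_mem_commutator_of_pair [Fintype F] (hQ : (QuadraticMap.polarBilin Q).Nondegenerate)
    (hcard : 7 ≤ Fintype.card ι) (u v e' f' : ι → F) (hu : Q u = 0) (huv : B u v = 0)
    (he' : Q e' = 0) (hf' : Q f' = 0) (hef : B e' f' = 1) (hue : B u e' = 0) (huf : B u f' = 0)
    (hve : B v e' = 0) (hvf : B v f' = 0) :
    Tl Q u v ∈ commutator ↥(Cfsg.isometryGroup F ⇑Q) := by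
  have h1 : B u (v + e' - Q v • f') = 0 := by
    rw [polar_sub_right', polar_add_right', polar_smul_right', huv, hue, huf]; ring
  have h2 : B u (-e') = 0 := by rw [QuadraticMap.polar_neg_right, hue, neg_zero]
  have h3 : B u (Q v • f') = 0 := by rw [polar_smul_right', huf, mul_zero]
  have h23 : B u (-e' + Q v • f') = 0 := by rw [polar_add_right', h2, h3, add_zero]
  have q1 : Q (v + e' - Q v • f') = 0 := by
    rw [Q_sub', Q_add', he', Q_smul', hf', hve, polar_add_left', polar_smul_right',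
      polar_smul_right', hvf, hef]
    ring
  have q2 : Q (-e') = 0 := by rw [QuadraticMap.map_neg, he']
  have q3 : Q (Q v • f') = 0 := by rw [Q_smul', hf', mul_zero]
  have hv : v = (v + e' - Q v • f') + (-e' + Q v • f') := by abel
  rw [hv, ← Tl_mul Q hu h1 h23, ← Tl_mul Q hu h2 h3]
  refine Subgroup.mul_mem _ ?_ (Subgroup.mul_mem _ ?_ ?_)
  · rw [Tl_eq Q hu h1]
    exact Tel_mem_commutator_of_sing Q hQ hcard _ _ hu h1 q1
  · rw [Tl_eq Q hu h2]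
    exact Tel_mem_commutator_of_sing Q hQ hcard _ _ hu h2 q2
  · rw [Tl_eq Q hu h3]
    exact Tel_mem_commutator_of_sing Q hQ hcard _ _ hu h3 q3

variable {κ : Type} {e f : κ → ι → F}

/-! ### short root elements `T_{e_c, r}` with `r` orthogonal to the frame -/

theorem Frame.short_e (hfr : Frame Q e f) (c j : κ) (r : ι → F) (hre : ∀ i, B (e i) r = 0) :
    act Q (Tl Q (e c) r) (e j) = e j := by
  rw [act_Tl Q (hfr.Qe c) (hre c), hfr.ee, polar_comm' Q r, hre]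
  simp

theorem Frame.short_f_ne (hfr : Frame Q e f) {c j : κ} (hjc : j ≠ c) (r : ι → F)
    (hre : ∀ i, B (e i) r = 0) (hrf : ∀ i, B (f i) r = 0) :
    act Q (Tl Q (e c) r) (f j) = f j := by
  rw [act_Tl Q (hfr.Qe c) (hre c), hfr.ef_ne c j (Ne.symm hjc), polar_comm' Q r, hrf]
  simp

theorem Frame.short_f (hfr : Frame Q e f) (c : κ) (r : ι → F)
    (hre : ∀ i, B (e i) r = 0) (hrf : ∀ i, B (f i) r = 0) :
    act Q (Tl Q (e c) r) (f c) = f c - r - Q r • e c := by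
  rw [act_Tl Q (hfr.Qe c) (hre c), hfr.ef_same, polar_comm' Q r, hrf]
  simp

theorem Frame.short_r (hfr : Frame Q e f) (c : κ) (r r' : ι → F)
    (hre : ∀ i, B (e i) r = 0) (hre' : ∀ i, B (e i) r' = 0) :
    act Q (Tl Q (e c) r) r' = r' + B r r' • e c := by
  rw [act_Tl Q (hfr.Qe c) (hre c), hre']
  simp

/-- an element fixing `e_c` and `r` commutes with `T_{e_c, r}` -/
theorem commute_Tl_of_fix (g : ↥(Cfsg.isometryGroup F ⇑Q)) {u v : ι → F} (hu : Q u = 0)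
    (huv : B u v = 0) (h1 : act Q g u = u) (h2 : act Q g v = v) :
    Commute g (Tl Q u v) := by
  have h := conj_Tl Q g hu huv
  rw [h1, h2] at h
  show g * Tl Q u v = Tl Q u v * g
  calc g * Tl Q u v = (g * Tl Q u v * g⁻¹) * g := by group
    _ = Tl Q u v * g := by rw [h]

end general

section sum

variable {F : Type*} [Field F] {k : ℕ} {ι₂ : Type} [Fintype ι₂] [DecidableEq ι₂]
variable (Q₂ : QuadraticForm F (ι₂ → F))

theorem ιR_sub (w w' : ι₂ → F) : (ιR (w - w') : K k ⊕ ι₂ → F) = ιR w - ιR w' := by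
  rw [sub_eq_add_neg, ιR_add, ιR_neg, ← sub_eq_add_neg]

/-- the short root elements -/
noncomputable def Xel (c : Fin k) (w : ι₂ → F) : ↥(Cfsg.isometryGroup F ⇑(QM k Q₂)) :=
  Tl (QM k Q₂) (eM c) (ιR w)

noncomputable def Yel (c : Fin k) (w : ι₂ → F) : ↥(Cfsg.isometryGroup F ⇑(QM k Q₂)) :=
  Tl (QM k Q₂) (fM c) (ιR w)

theorem Xel_e (c j : Fin k) (w : ι₂ → F) : act (QM k Q₂) (Xel Q₂ c w) (eM j) = eM j :=
  (frameM Q₂).short_e _ c j _ (fun i => polar_eM_ιR Q₂ i w)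

theorem Xel_f_ne {c j : Fin k} (hjc : j ≠ c) (w : ι₂ → F) :
    act (QM k Q₂) (Xel Q₂ c w) (fM j) = fM j :=
  (frameM Q₂).short_f_ne _ hjc _ (fun i => polar_eM_ιR Q₂ i w) (fun i => polar_fM_ιR Q₂ i w)

theorem Xel_f (c : Fin k) (w : ι₂ → F) :
    act (QM k Q₂) (Xel Q₂ c w) (fM c) = fM c - ιR w - Q₂ w • eM c := by
  have h := (frameM Q₂).short_f _ c (ιR w) (fun i => polar_eM_ιR Q₂ i w)
    (fun i => polar_fM_ιR Q₂ i w)
  rw [Q_ιR] at h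
  exact h

theorem Xel_r (c : Fin k) (w w' : ι₂ → F) :
    act (QM k Q₂) (Xel Q₂ c w) (ιR w') = ιR w' + QuadraticMap.polar (⇑Q₂) w w' • eM c := by
  have h := (frameM Q₂).short_r _ c (ιR w) (ιR w') (fun i => polar_eM_ιR Q₂ i w)
    (fun i => polar_eM_ιR Q₂ i w')
  rw [polar_ιR_ιR] at h
  exact h

theorem Yel_f (c j : Fin k) (w : ι₂ → F) : act (QM k Q₂) (Yel Q₂ c w) (fM j) = fM j :=
  (frameM Q₂).swap.short_e _ c j _ (fun i => polar_fM_ιR Q₂ i w)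

theorem Yel_e_ne {c j : Fin k} (hjc : j ≠ c) (w : ι₂ → F) :
    act (QM k Q₂) (Yel Q₂ c w) (eM j) = eM j :=
  (frameM Q₂).swap.short_f_ne _ hjc _ (fun i => polar_fM_ιR Q₂ i w) (fun i => polar_eM_ιR Q₂ i w)

theorem Yel_e (c : Fin k) (w : ι₂ → F) :
    act (QM k Q₂) (Yel Q₂ c w) (eM c) = eM c - ιR w - Q₂ w • fM c := by
  have h := (frameM Q₂).swap.short_f _ c (ιR w) (fun i => polar_fM_ιR Q₂ i w)
    (fun i => polar_eM_ιR Q₂ i w)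
  rw [Q_ιR] at h
  exact h

theorem Yel_r (c : Fin k) (w w' : ι₂ → F) :
    act (QM k Q₂) (Yel Q₂ c w) (ιR w') = ιR w' + QuadraticMap.polar (⇑Q₂) w w' • fM c := by
  have h := (frameM Q₂).swap.short_r _ c (ιR w) (ιR w') (fun i => polar_fM_ιR Q₂ i w)
    (fun i => polar_fM_ιR Q₂ i w')
  rw [polar_ιR_ιR] at h
  exact h

theorem Xel_inv (c : Fin k) (w : ι₂ → F) : (Xel Q₂ c w)⁻¹ = Xel Q₂ c (-w) := by
  unfold Xel
  rw [Tl_inv _ (Q_eM Q₂ c) (polar_eM_ιR Q₂ c w), ιR_neg]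

theorem Xel_mem_omega [Fintype F] (hnd : (QuadraticMap.polarBilin (QM k Q₂)).Nondegenerate)
    (hcard : 7 ≤ Fintype.card (K k ⊕ ι₂)) {c d : Fin k} (hdc : d ≠ c) (w : ι₂ → F) :
    Xel Q₂ c w ∈ Cfsg.Omega F ⇑(QM k Q₂) := by
  have hfr := frameM (F := F) (k := k) Q₂
  exact Tl_mem_commutator_of_pair _ hnd hcard (eM c) (ιR w) (eM d) (fM d) (hfr.Qe c)
    (polar_eM_ιR Q₂ c w) (hfr.Qe d) (hfr.Qf d) (hfr.ef_same d) (hfr.ee c d)
    (hfr.ef_ne c d (Ne.symm hdc)) (polar_ιR_eM Q₂ d w) (polar_ιR_fM Q₂ d w)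

theorem Yel_mem_omega [Fintype F] (hnd : (QuadraticMap.polarBilin (QM k Q₂)).Nondegenerate)
    (hcard : 7 ≤ Fintype.card (K k ⊕ ι₂)) {c d : Fin k} (hdc : d ≠ c) (w : ι₂ → F) :
    Yel Q₂ c w ∈ Cfsg.Omega F ⇑(QM k Q₂) := by
  have hfr := frameM (F := F) (k := k) Q₂
  exact Tl_mem_commutator_of_pair _ hnd hcard (fM c) (ιR w) (eM d) (fM d) (hfr.Qf c)
    (polar_fM_ιR Q₂ c w) (hfr.Qe d) (hfr.Qf d) (hfr.ef_same d)
    (hfr.fe_ne _ c d (Ne.symm hdc)) (hfr.ff c d) (polar_ιR_eM Q₂ d w) (polar_ιR_fM Q₂ d w)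

theorem commute_Xel (g : ↥(Cfsg.isometryGroup F ⇑(QM k Q₂))) (c : Fin k) (w : ι₂ → F)
    (h1 : act (QM k Q₂) g (eM c) = eM c) (h2 : act (QM k Q₂) g (ιR w) = ιR w) :
    Commute g (Xel Q₂ c w) :=
  commute_Tl_of_fix _ g (Q_eM Q₂ c) (polar_eM_ιR Q₂ c w) h1 h2

theorem commute_Yel (g : ↥(Cfsg.isometryGroup F ⇑(QM k Q₂))) (c : Fin k) (w : ι₂ → F)
    (h1 : act (QM k Q₂) g (fM c) = fM c) (h2 : act (QM k Q₂) g (ιR w) = ιR w) :
    Commute g (Yel Q₂ c w) :=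
  commute_Tl_of_fix _ g (Q_fM Q₂ c) (polar_fM_ιR Q₂ c w) h1 h2

/-! ### the two-factor mixing element -/

theorem z2_e (c : Fin k) (w₁ w₂ : ι₂ → F) :
    act (QM k Q₂) (Xel Q₂ c w₁ * Yel Q₂ c w₂) (eM c) =
      (1 - QuadraticMap.polar (⇑Q₂) w₁ w₂ + Q₂ w₁ * Q₂ w₂) • eM c + (-Q₂ w₂) • fM c +
        ιR (Q₂ w₂ • w₁ - w₂) := by
  rw [act_mul, Yel_e, act_sub, act_sub, act_smul, Xel_e, Xel_r, Xel_f, ιR_sub, ιR_smul]
  module

theorem z2_f (c : Fin k) (w₁ w₂ : ι₂ → F) :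
    act (QM k Q₂) (Xel Q₂ c w₁ * Yel Q₂ c w₂) (fM c) =
      (1 : F) • fM c + (-Q₂ w₁) • eM c + ιR (-w₁) := by
  rw [act_mul, Yel_f, Xel_f, ιR_neg]
  module

theorem z2_r (c : Fin k) (w₁ w₂ w : ι₂ → F) :
    act (QM k Q₂) (Xel Q₂ c w₁ * Yel Q₂ c w₂) (ιR w) =
      ιR w + QuadraticMap.polar (⇑Q₂) w₁ w • eM c +
        QuadraticMap.polar (⇑Q₂) w₂ w • (fM c - ιR w₁ - Q₂ w₁ • eM c) := by
  rw [act_mul, Yel_r, act_add, act_smul, Xel_r, Xel_f]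

theorem z2_fix_e {c j : Fin k} (hjc : j ≠ c) (w₁ w₂ : ι₂ → F) :
    act (QM k Q₂) (Xel Q₂ c w₁ * Yel Q₂ c w₂) (eM j) = eM j := by
  rw [act_mul, Yel_e_ne Q₂ hjc, Xel_e]

theorem z2_fix_f {c j : Fin k} (hjc : j ≠ c) (w₁ w₂ : ι₂ → F) :
    act (QM k Q₂) (Xel Q₂ c w₁ * Yel Q₂ c w₂) (fM j) = fM j := by
  rw [act_mul, Yel_f, Xel_f_ne Q₂ hjc]

/-! ### the conjugate mixing element -/

theorem z3_e (c : Fin k) (w₁ w₂ : ι₂ → F) :
    act (QM k Q₂) (Xel Q₂ c w₁ * Yel Q₂ c w₂ * (Xel Q₂ c w₁)⁻¹) (eM c) =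
      (1 - QuadraticMap.polar (⇑Q₂) w₁ w₂ + Q₂ w₁ * Q₂ w₂) • eM c + (-Q₂ w₂) • fM c +
        ιR (Q₂ w₂ • w₁ - w₂) := by
  rw [act_mul, Xel_inv, Xel_e, z2_e]

theorem z3_f (c : Fin k) (w₁ w₂ : ι₂ → F) :
    act (QM k Q₂) (Xel Q₂ c w₁ * Yel Q₂ c w₂ * (Xel Q₂ c w₁)⁻¹) (fM c) =
      (1 + QuadraticMap.polar (⇑Q₂) w₁ w₂ + Q₂ w₁ * Q₂ w₂) • fM c +
        (-(Q₂ w₁ * Q₂ w₁ * Q₂ w₂)) • eM c +
        ιR ((-(QuadraticMap.polar (⇑Q₂) w₁ w₂ + Q₂ w₁ * Q₂ w₂)) • w₁ + Q₂ w₁ • w₂) := by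
  have hself : QuadraticMap.polar (⇑Q₂) w₁ w₁ = 2 * Q₂ w₁ := Cfsg.Agent.Lib.H4.polar_self _ _
  rw [act_mul, Xel_inv, Xel_f, QuadraticMap.map_neg, ιR_neg, sub_neg_eq_add, act_sub, act_add,
    act_smul, z2_e, z2_f, z2_r, hself, ιR_add, ιR_smul, ιR_smul, ιR_sub, ιR_smul, ιR_neg,
    QuadraticMap.polar_comm (⇑Q₂) w₂ w₁]
  module

theorem z3_fix_e {c j : Fin k} (hjc : j ≠ c) (w₁ w₂ : ι₂ → F) :
    act (QM k Q₂) (Xel Q₂ c w₁ * Yel Q₂ c w₂ * (Xel Q₂ c w₁)⁻¹) (eM j) = eM j := by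
  rw [act_mul, Xel_inv, Xel_e, z2_fix_e Q₂ hjc]

theorem z3_fix_f {c j : Fin k} (hjc : j ≠ c) (w₁ w₂ : ι₂ → F) :
    act (QM k Q₂) (Xel Q₂ c w₁ * Yel Q₂ c w₂ * (Xel Q₂ c w₁)⁻¹) (fM j) = fM j := by
  rw [act_mul, Xel_inv, Xel_f_ne Q₂ hjc, z2_fix_f Q₂ hjc]

theorem z3_pow (c : Fin k) (w₁ w₂ : ι₂ → F) (p : ℕ) (hp : ((p : ℕ) : F) = 0) :
    (Xel Q₂ c w₁ * Yel Q₂ c w₂ * (Xel Q₂ c w₁)⁻¹) ^ p = 1 := by
  rw [conj_pow]
  have : Yel Q₂ c w₂ ^ p = 1 := by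
    unfold Yel
    rw [Tl_pow _ (Q_fM Q₂ c) (polar_fM_ιR Q₂ c w₂), hp, zero_smul, Tl_zero _ (Q_fM Q₂ c)]
  rw [this, mul_one, mul_inv_cancel]

end sum

end Cfsg.Agent.Lib.H4.OG
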