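import Cfsg.Agent.Lib.H4.OG.MinusPow
import Cfsg.Agent.S0288

/-!
# `Ω⁻_{2m}(q)`, `m ≥ 4`, is generated by two elements (helper4)
-/

set_option autoImplicit false
set_option linter.unusedSectionVars false

namespace Cfsg.Agent.Lib.H4.OG

open Matrix Cfsg.Agent.Lib.H13 Cfsg.Agent.Lib.H13.PlusLevi Cfsg.Agent.Lib.H13.OrthSum

variable {F : Type*} [Field F]

/-- the binary form `z₁² + a z₁ z₂ + b z₂²` -/
noncomputable def binQF (a b : F) : QuadraticForm F (Fin 2 → F) :=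
  QuadraticMap.linMulLin (LinearMap.proj (R := F) (φ := fun _ : Fin 2 => F) 0)
      (LinearMap.proj (R := F) (φ := fun _ : Fin 2 => F) 0) +
    a • QuadraticMap.linMulLin (LinearMap.proj (R := F) (φ := fun _ : Fin 2 => F) 0)
      (LinearMap.proj (R := F) (φ := fun _ : Fin 2 => F) 1) +
    b • QuadraticMap.linMulLin (LinearMap.proj (R := F) (φ := fun _ : Fin 2 => F) 1)
      (LinearMap.proj (R := F) (φ := fun _ : Fin 2 => F) 1)

theorem binQF_apply (a b : F) (w : Fin 2 → F) :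
    binQF a b w = w 0 ^ 2 + a * w 0 * w 1 + b * w 1 ^ 2 := by
  simp [binQF]
  ring

theorem polar_binQF (a b : F) (w w' : Fin 2 → F) :
    QuadraticMap.polar (⇑(binQF a b)) w w' =
      2 * w 0 * w' 0 + a * (w 0 * w' 1 + w 1 * w' 0) + 2 * b * w 1 * w' 1 := by
  unfold QuadraticMap.polar
  rw [binQF_apply, binQF_apply, binQF_apply]
  simp only [Pi.add_apply]
  ring

theorem coe_QM_bin (k : ℕ) (a b : F) :
    ⇑(QM k (binQF a b)) = Cfsg.quadFormMinus k F a b := by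
  funext v
  rw [QM_apply, plusQF_apply, binQF_apply]
  rfl

theorem QM_bin_eq (k : ℕ) (a b : F) : QM k (binQF a b) = minusQF F k a b := by
  apply DFunLike.coe_injective
  rw [coe_QM_bin, Cfsg.Agent.S0288.coe_minusQF]

theorem nondeg_QM_bin [Finite F] (a b : F)
    (hab : ∀ z₁ z₂ : F, z₁ ^ 2 + a * z₁ * z₂ + b * z₂ ^ 2 = 0 → z₁ = 0 ∧ z₂ = 0) (k : ℕ) :
    (QuadraticMap.polarBilin (QM k (binQF a b))).Nondegenerate := by
  rw [QM_bin_eq]
  exact Cfsg.Agent.S0288.nondeg a b hab k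

theorem bin_aniso (a b : F)
    (hab : ∀ z₁ z₂ : F, z₁ ^ 2 + a * z₁ * z₂ + b * z₂ ^ 2 = 0 → z₁ = 0 ∧ z₂ = 0)
    (w : Fin 2 → F) (hw : binQF a b w = 0) : w = 0 := by
  rw [binQF_apply] at hw
  obtain ⟨h0, h1⟩ := hab _ _ hw
  funext i
  fin_cases i
  · exact h0
  · exact h1

theorem span_change {M : Type*} [AddCommGroup M] [Module F M] (w₁ w₂ w₃ w₄ : M)
    (p₁ p₂ q₁ q₂ : F) (h3 : w₃ = p₁ • w₁ + p₂ • w₂) (h4 : w₄ = q₁ • w₁ + q₂ • w₂)
    (hD : p₁ * q₂ - p₂ * q₁ ≠ 0) (hspan : ∀ w : M, ∃ x y : F, w = x • w₁ + y • w₂) :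
    ∀ w : M, ∃ s t : F, w = s • w₃ + t • w₄ := by
  intro w
  obtain ⟨x, y, rfl⟩ := hspan w
  obtain ⟨D, hD'⟩ : ∃ D, D = p₁ * q₂ - p₂ * q₁ := ⟨_, rfl⟩
  rw [← hD'] at hD
  obtain ⟨s, hs⟩ : ∃ s, s = (x * q₂ - y * q₁) / D := ⟨_, rfl⟩
  obtain ⟨t, ht⟩ : ∃ t, t = (y * p₁ - x * p₂) / D := ⟨_, rfl⟩
  have e1 : s * p₁ + t * q₁ = x := by
    rw [hs, ht]; field_simp; rw [hD']; ring
  have e2 : s * p₂ + t * q₂ = y := by
    rw [hs, ht]; field_simp; rw [hD']; ring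
  refine ⟨s, t, ?_⟩
  rw [h3, h4, ← e1, ← e2]
  module

theorem span_std (w₂0 : F) : ∀ w : Fin 2 → F, ∃ x y : F, w = x • ![(1 : F), 0] + y • ![w₂0, 1] := by
  intro w
  refine ⟨w 0 - w₂0 * w 1, w 1, ?_⟩
  funext i
  fin_cases i
  · simp
    ring
  · simp

variable [Fintype F]

/-- the core of the argument -/
theorem two_gen_core (a b : F)
    (hab : ∀ z₁ z₂ : F, z₁ ^ 2 + a * z₁ * z₂ + b * z₂ ^ 2 = 0 → z₁ = 0 ∧ z₂ = 0)
    (n : ℕ) (hn : 2 ≤ n) (g₁ g₂ : Matrix.SpecialLinearGroup (Fin (n + 1)) F)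
    (hgen : Subgroup.closure ({g₁, g₂} : Set (Matrix.SpecialLinearGroup (Fin (n + 1)) F)) = ⊤)
    (z : ↥(Cfsg.isometryGroup F ⇑(QM (n + 1) (binQF a b))))
    (hzΩ : z ∈ Cfsg.Omega F ⇑(QM (n + 1) (binQF a b)))
    (hcomm : Commute (leviM (binQF a b) (n + 1) g₁) z) (mT mz : ℕ)
    (hT : (leviM (binQF a b) (n + 1) g₁) ^ mT = 1) (hz : z ^ mz = 1) (hcop : Nat.Coprime mT mz)
    (c₀ c : Fin (n + 1)) (hac : c₀ ≠ c) (lam nu mu nu' : F) (w₃ w₄ : Fin 2 → F)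
    (hnu : nu ≠ 0) (hnu' : nu' ≠ 0)
    (hz1 : act (QM (n + 1) (binQF a b)) z (eM c₀) = eM c₀)
    (hz3 : act (QM (n + 1) (binQF a b)) z (fM c₀) = fM c₀)
    (hz2 : act (QM (n + 1) (binQF a b)) z (fM c) = lam • fM c + nu • eM c + ιR w₃)
    (hz4 : act (QM (n + 1) (binQF a b)) z (eM c) = mu • eM c + nu' • fM c + ιR w₄)
    (hspan : ∀ w : Fin 2 → F, ∃ s t : F, w = s • w₃ + t • w₄) :
    ∃ A B : ↥(Cfsg.isometryGroup F ⇑(QM (n + 1) (binQF a b))),
      A ∈ Cfsg.Omega F ⇑(QM (n + 1) (binQF a b)) ∧ B ∈ Cfsg.Omega F ⇑(QM (n + 1) (binQF a b)) ∧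
      Cfsg.Omega F ⇑(QM (n + 1) (binQF a b)) ≤ Subgroup.closure {A, B} := by
  have hnd := nondeg_QM_bin a b hab (n + 1)
  set A := leviM (binQF a b) (n + 1) g₂ with hA
  set T := leviM (binQF a b) (n + 1) g₁ with hT'
  have hmem := mem_zpowers_mul_of_coprime T z hcomm _ _ hT hz hcop
  refine ⟨A, T * z, leviM_mem_omega _ (by omega) g₂,
    Subgroup.mul_mem _ (leviM_mem_omega _ (by omega) g₁) hzΩ, ?_⟩
  set H := Subgroup.closure ({A, T * z} :
    Set ↥(Cfsg.isometryGroup F ⇑(QM (n + 1) (binQF a b)))) with hH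
  have hAH : A ∈ H := Subgroup.subset_closure (by simp)
  have hBH : T * z ∈ H := Subgroup.subset_closure (by simp)
  have hzp : Subgroup.zpowers (T * z) ≤ H := by
    rw [Subgroup.zpowers_le]; exact hBH
  have hTH : T ∈ H := hzp hmem.1
  have hzH : z ∈ H := hzp hmem.2
  have hL : ∀ s : Matrix.SpecialLinearGroup (Fin (n + 1)) F,
      leviM (binQF a b) (n + 1) s ∈ H := by
    have hle : Subgroup.closure ({g₁, g₂} : Set (Matrix.SpecialLinearGroup (Fin (n + 1)) F)) ≤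
        H.comap (leviM (binQF a b) (n + 1)) := by
      rw [Subgroup.closure_le]
      rintro s (rfl | rfl)
      · exact hTH
      · exact hAH
    rw [hgen] at hle
    intro s
    exact hle (Subgroup.mem_top s)
  apply omega_le_minus (binQF a b) (by omega) hnd H ?_ z hzH c₀ c hac lam nu mu nu' w₃ w₄ hnu hnu'
    hz1 hz3 hz2 hz4 hspan
  intro i j hij t
  rw [← leviM_transvection _ hij t]
  exact hL _

theorem exists_pair_large (a b : F)
    (hab : ∀ z₁ z₂ : F, z₁ ^ 2 + a * z₁ * z₂ + b * z₂ ^ 2 = 0 → z₁ = 0 ∧ z₂ = 0) :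
    ∃ w₁ w₂ : Fin 2 → F, QuadraticMap.polar (⇑(binQF a b)) w₁ w₂ ≠ 0 ∧
      ∀ w : Fin 2 → F, ∃ x y : F, w = x • w₁ + y • w₂ := by
  by_cases ha : a = 0
  · have h2 : (2 : F) ≠ 0 := by
      intro h2
      obtain ⟨c, hc⟩ := FiniteField.isSquare_of_char_two (F := F) (by
        exact CharP.ringChar_of_prime_eq_zero Nat.prime_two (by exact_mod_cast h2)) b
      have := hab c 1 (by rw [ha]; linear_combination (-1 : F) * hc + b * h2)
      exact one_ne_zero this.2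
    refine ⟨![1, 0], ![1, 1], ?_, span_std 1⟩
    rw [polar_binQF, ha]
    simpa using h2
  · refine ⟨![1, 0], ![0, 1], ?_, span_std 0⟩
    rw [polar_binQF]
    simpa using ha

theorem two_gen_minus_large (hF : 3 < Fintype.card F) (a b : F)
    (hab : ∀ z₁ z₂ : F, z₁ ^ 2 + a * z₁ * z₂ + b * z₂ ^ 2 = 0 → z₁ = 0 ∧ z₂ = 0)
    (n : ℕ) (hn : 2 ≤ n) :
    ∃ A B : ↥(Cfsg.isometryGroup F ⇑(QM (n + 1) (binQF a b))),
      A ∈ Cfsg.Omega F ⇑(QM (n + 1) (binQF a b)) ∧ B ∈ Cfsg.Omega F ⇑(QM (n + 1) (binQF a b)) ∧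
      Cfsg.Omega F ⇑(QM (n + 1) (binQF a b)) ≤ Subgroup.closure {A, B} := by
  obtain ⟨κ, h, g, hκ0, hh, hgen⟩ := exists_gen_large hF n hn
  obtain ⟨p, hpp, hp0, hcop⟩ := char_facts (F := F)
  obtain ⟨w₁, w₂, hβ, hsp⟩ := exists_pair_large a b hab
  have hnd := nondeg_QM_bin a b hab (n + 1)
  have hcard7 : 7 ≤ Fintype.card (K (n + 1) ⊕ Fin 2) := by
    rw [Fintype.card_sum, Fintype.card_sum, Fintype.card_fin, Fintype.card_fin]
    omega
  obtain ⟨c, hc⟩ : ∃ c : Fin (n + 1), c.val = 2 := ⟨⟨2, by omega⟩, rfl⟩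
  have h0c : (0 : Fin (n + 1)) ≠ c := by
    intro h'
    have := congrArg Fin.val h'
    rw [hc] at this
    simp at this
  have hw₁ : w₁ ≠ 0 := by
    intro h'; apply hβ; rw [h', QuadraticMap.polar_zero_left]
  have hw₂ : w₂ ≠ 0 := by
    intro h'; apply hβ; rw [h', QuadraticMap.polar_zero_right]
  have hα₁ : binQF a b w₁ ≠ 0 := fun h' => hw₁ (bin_aniso a b hab w₁ h')
  have hα₂ : binQF a b w₂ ≠ 0 := fun h' => hw₂ (bin_aniso a b hab w₂ h')
  set T := leviM (binQF a b) (n + 1) h with hT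
  have hδ := torW_mul_inv n κ hκ0
  have hcfix : torW n κ c = 1 := torW_of_two_le n κ c (by omega)
  have hTe : act (QM (n + 1) (binQF a b)) T (eM c) = eM c := by
    rw [eM, hT, leviM_ιL, leviSL_diag_fix_e h _ _ hh hδ c hcfix]
  have hTf : act (QM (n + 1) (binQF a b)) T (fM c) = fM c := by
    rw [fM, hT, leviM_ιL, leviSL_diag_fix_f h _ _ hh hδ c hcfix]
  have hTR : ∀ w : Fin 2 → F, act (QM (n + 1) (binQF a b)) T (ιR w) = ιR w :=
    fun w => leviM_ιR _ _ w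
  have hcX := commute_Xel (binQF a b) T c w₁ hTe (hTR w₁)
  have hcY := commute_Yel (binQF a b) T c w₂ hTf (hTR w₂)
  have hcomm : Commute T (Xel (binQF a b) c w₁ * Yel (binQF a b) c w₂ *
      (Xel (binQF a b) c w₁)⁻¹) := (hcX.mul_right hcY).mul_right hcX.inv_right
  have hTpow : T ^ (Fintype.card F - 1) = 1 := by
    rw [hT, ← map_pow, diag_pow_card_sub_one h _ hh (torW_ne_zero n κ hκ0), map_one]
  have hzΩ : Xel (binQF a b) c w₁ * Yel (binQF a b) c w₂ * (Xel (binQF a b) c w₁)⁻¹ ∈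
      Cfsg.Omega F ⇑(QM (n + 1) (binQF a b)) :=
    Subgroup.mul_mem _ (Subgroup.mul_mem _ (Xel_mem_omega _ hnd hcard7 h0c w₁)
      (Yel_mem_omega _ hnd hcard7 h0c w₂)) (Subgroup.inv_mem _ (Xel_mem_omega _ hnd hcard7 h0c w₁))
  refine two_gen_core a b hab n hn h g hgen _ hzΩ hcomm _ _ hTpow
    (z3_pow (binQF a b) c w₁ w₂ p hp0) hcop 0 c h0c _ _ _ _ _ _ ?_ ?_
    (z3_fix_e (binQF a b) h0c w₁ w₂) (z3_fix_f (binQF a b) h0c w₁ w₂)
    (z3_f (binQF a b) c w₁ w₂) (z3_e (binQF a b) c w₁ w₂) ?_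
  · exact neg_ne_zero.mpr (mul_ne_zero (mul_ne_zero hα₁ hα₁) hα₂)
  · exact neg_ne_zero.mpr hα₂
  · refine span_change w₁ w₂ _ _ _ _ (binQF a b w₂) (-1) rfl ?_ ?_ hsp
    · rw [neg_one_smul, sub_eq_add_neg]
    · intro h'
      apply hβ
      linear_combination h'

theorem exists_pair_small (hF : Fintype.card F ≤ 3) (a b : F)
    (hab : ∀ z₁ z₂ : F, z₁ ^ 2 + a * z₁ * z₂ + b * z₂ ^ 2 = 0 → z₁ = 0 ∧ z₂ = 0) :
    ∃ w₁ w₂ : Fin 2 → F, binQF a b w₁ = 1 ∧ binQF a b w₂ = 1 ∧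
      (((2 : F) = 0 ∧ QuadraticMap.polar (⇑(binQF a b)) w₁ w₂ = 1) ∨
        ((3 : F) = 0 ∧ QuadraticMap.polar (⇑(binQF a b)) w₁ w₂ = 0)) ∧
      ∀ w : Fin 2 → F, ∃ x y : F, w = x • w₁ + y • w₂ := by
  have hcard0 : ((Fintype.card F : ℕ) : F) = 0 := FiniteField.cast_card_eq_zero F
  have hcard2 : 2 ≤ Fintype.card F := Fintype.one_lt_card
  have h1 : binQF a b ![1, 0] = 1 := by
    rw [binQF_apply]; simp
  have hw₂ : (![a, 1] : Fin 2 → F) ≠ 0 := by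
    intro h'
    have := congrFun h' 1
    simp at this
  have hw₁₂ : (![1, 0] + ![a, 1] : Fin 2 → F) ≠ 0 := by
    intro h'
    have := congrFun h' 1
    simp at this
  have hα₂ : binQF a b ![a, 1] ≠ 0 := fun h' => hw₂ (bin_aniso a b hab _ h')
  have hsum : binQF a b (![1, 0] + ![a, 1]) ≠ 0 := fun h' => hw₁₂ (bin_aniso a b hab _ h')
  rw [Q_add', h1] at hsum
  have hβ : QuadraticMap.polar (⇑(binQF a b)) ![1, 0] ![a, 1] = 3 * a := by
    rw [polar_binQF]; simp; ring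
  refine ⟨![1, 0], ![a, 1], h1, ?_, ?_, span_std a⟩
  · rcases Nat.lt_or_ge (Fintype.card F) 3 with h3 | h3
    · have hc2 : Fintype.card F = 2 := by omega
      have := FiniteField.pow_card_sub_one_eq_one _ hα₂
      rw [hc2] at this
      simpa using this
    · have hc3 : Fintype.card F = 3 := by omega
      rw [hc3] at hcard0
      have h3' : (3 : F) = 0 := by exact_mod_cast hcard0
      have hsq := FiniteField.pow_card_sub_one_eq_one _ hα₂
      rw [hc3] at hsq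
      have hfac : (binQF a b ![a, 1] - 1) * (binQF a b ![a, 1] + 1) = 0 := by
        linear_combination hsq
      rcases mul_eq_zero.mp hfac with h' | h'
      · exact sub_eq_zero.mp h'
      · exfalso
        apply hsum
        rw [hβ]
        linear_combination h' + a * h3'
  · rcases Nat.lt_or_ge (Fintype.card F) 3 with h3 | h3
    · left
      have hc2 : Fintype.card F = 2 := by omega
      rw [hc2] at hcard0
      have h2' : (2 : F) = 0 := by exact_mod_cast hcard0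
      refine ⟨h2', ?_⟩
      have hα₂1 : binQF a b ![a, 1] = 1 := by
        have := FiniteField.pow_card_sub_one_eq_one _ hα₂
        rw [hc2] at this
        simpa using this
      have hne : QuadraticMap.polar (⇑(binQF a b)) ![1, 0] ![a, 1] ≠ 0 := by
        intro h'
        apply hsum
        rw [h', hα₂1]
        linear_combination h2'
      have := FiniteField.pow_card_sub_one_eq_one _ hne
      rw [hc2] at this
      simpa using this
    · right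
      have hc3 : Fintype.card F = 3 := by omega
      rw [hc3] at hcard0
      have h3' : (3 : F) = 0 := by exact_mod_cast hcard0
      refine ⟨h3', ?_⟩
      rw [hβ, h3', zero_mul]

theorem two_gen_minus_small (hF : Fintype.card F ≤ 3) (a b : F)
    (hab : ∀ z₁ z₂ : F, z₁ ^ 2 + a * z₁ * z₂ + b * z₂ ^ 2 = 0 → z₁ = 0 ∧ z₂ = 0)
    (n : ℕ) (hn : 2 ≤ n) :
    ∃ A B : ↥(Cfsg.isometryGroup F ⇑(QM (n + 1) (binQF a b))),
      A ∈ Cfsg.Omega F ⇑(QM (n + 1) (binQF a b)) ∧ B ∈ Cfsg.Omega F ⇑(QM (n + 1) (binQF a b)) ∧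
      Cfsg.Omega F ⇑(QM (n + 1) (binQF a b)) ≤ Subgroup.closure {A, B} := by
  obtain ⟨w, hgen⟩ := exists_gen_small hF n hn
  obtain ⟨w₁, w₂, h1, h2, hcase, hsp⟩ := exists_pair_small hF a b hab
  have h01 := fin_zero_ne_one n (by omega)
  have hfr := frameM (F := F) (k := n + 1) (binQF a b)
  have hnd := nondeg_QM_bin a b hab (n + 1)
  have hcard7 : 7 ≤ Fintype.card (K (n + 1) ⊕ Fin 2) := by
    rw [Fintype.card_sum, Fintype.card_sum, Fintype.card_fin, Fintype.card_fin]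
    omega
  obtain ⟨c, hc⟩ : ∃ c : Fin (n + 1), c.val = 2 := ⟨⟨2, by omega⟩, rfl⟩
  have h0c : (0 : Fin (n + 1)) ≠ c := by
    intro h'
    have := congrArg Fin.val h'
    rw [hc] at this
    simp at this
  have hv1 : (1 : Fin (n + 1)).val = 1 := by
    rw [Fin.val_one']; exact Nat.mod_eq_of_lt (by omega)
  have h1c : (1 : Fin (n + 1)) ≠ c := by
    intro h'
    have := congrArg Fin.val h'
    rw [hv1, hc] at this
    simp at this
  set T := leviM (binQF a b) (n + 1) (Matrix.SpecialLinearGroup.transvection h01 (1 : F)) with hT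
  have hTl : T = Tl (QM (n + 1) (binQF a b)) (eM 0) ((1 : F) • fM 1) :=
    leviM_transvection _ h01 1
  have hTe : act (QM (n + 1) (binQF a b)) T (eM c) = eM c := by
    rw [hTl]; exact hfr.levi_fix_e _ h01 (Ne.symm h1c) 1
  have hTf : act (QM (n + 1) (binQF a b)) T (fM c) = fM c := by
    rw [hTl]; exact hfr.levi_fix_f _ h01 (Ne.symm h0c) 1
  have hTR : ∀ w : Fin 2 → F, act (QM (n + 1) (binQF a b)) T (ιR w) = ιR w :=
    fun w => leviM_ιR _ _ w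
  have hcX := commute_Xel (binQF a b) T c w₁ hTe (hTR w₁)
  have hcY := commute_Yel (binQF a b) T c w₂ hTf (hTR w₂)
  have hcomm : Commute T (Xel (binQF a b) c w₁ * Yel (binQF a b) c w₂) := hcX.mul_right hcY
  have hTpow : ∀ q : ℕ, ((q : ℕ) : F) = 0 → T ^ q = 1 := by
    intro q hq
    rw [hTl, Tl_pow _ (hfr.Qe 0) (by rw [polar_smul_right', hfr.ef_ne 0 1 h01, mul_zero]), hq,
      zero_smul, Tl_zero _ (hfr.Qe 0)]
  have hzΩ : Xel (binQF a b) c w₁ * Yel (binQF a b) c w₂ ∈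
      Cfsg.Omega F ⇑(QM (n + 1) (binQF a b)) :=
    Subgroup.mul_mem _ (Xel_mem_omega _ hnd hcard7 h0c w₁) (Yel_mem_omega _ hnd hcard7 h0c w₂)
  have hnu : -binQF a b w₁ ≠ 0 := by rw [h1]; simp
  have hnu' : -binQF a b w₂ ≠ 0 := by rw [h2]; simp
  have hspan : ∀ w : Fin 2 → F, ∃ s t : F, w = s • (-w₁) + t • (binQF a b w₂ • w₁ - w₂) := by
    refine span_change w₁ w₂ _ _ (-1) 0 (binQF a b w₂) (-1) ?_ ?_ ?_ hsp
    · rw [neg_one_smul, zero_smul, add_zero]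
    · rw [neg_one_smul, sub_eq_add_neg]
    · simp
  rcases hcase with ⟨h2c, hβ⟩ | ⟨h3c, hβ⟩
  · exact two_gen_core a b hab n hn _ w hgen _ hzΩ hcomm 2 5 (hTpow 2 (by exact_mod_cast h2c))
      (z2_pow_five_two (binQF a b) h2c c w₁ w₂ h1 h2 hβ hsp) (by norm_num) 0 c h0c _ _ _ _ _ _
      hnu hnu' (z2_fix_e (binQF a b) h0c w₁ w₂) (z2_fix_f (binQF a b) h0c w₁ w₂)
      (z2_f (binQF a b) c w₁ w₂) (z2_e (binQF a b) c w₁ w₂) hspan
  · exact two_gen_core a b hab n hn _ w hgen _ hzΩ hcomm 3 5 (hTpow 3 (by exact_mod_cast h3c))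
      (z2_pow_five_three (binQF a b) h3c c w₁ w₂ h1 h2 hβ hsp) (by norm_num) 0 c h0c _ _ _ _ _ _
      hnu hnu' (z2_fix_e (binQF a b) h0c w₁ w₂) (z2_fix_f (binQF a b) h0c w₁ w₂)
      (z2_f (binQF a b) c w₁ w₂) (z2_e (binQF a b) c w₁ w₂) hspan

/-- `PΩ⁻_{2m}(q)`, `m ≥ 4`, is generated by two elements -/
theorem two_gen_minus (m : ℕ) (hm : 4 ≤ m) (a b : F)
    (hab : ∀ z₁ z₂ : F, z₁ ^ 2 + a * z₁ * z₂ + b * z₂ ^ 2 = 0 → z₁ = 0 ∧ z₂ = 0) :
    ∃ x y : Cfsg.POmega F ⇑(QM (m - 1) (binQF a b)),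
      Subgroup.closure ({x, y} : Set (Cfsg.POmega F ⇑(QM (m - 1) (binQF a b)))) = ⊤ := by
  obtain ⟨n, rfl⟩ : ∃ n, m = n + 2 := ⟨m - 2, by omega⟩
  have hn : 2 ≤ n := by omega
  rw [show n + 2 - 1 = n + 1 by omega]
  rcases Nat.lt_or_ge 3 (Fintype.card F) with hF | hF
  · obtain ⟨A, B, hA, hB, hle⟩ := two_gen_minus_large hF a b hab n hn
    exact two_gen_quot (Cfsg.Omega F ⇑(QM (n + 1) (binQF a b))) A B hA hB hle
  · obtain ⟨A, B, hA, hB, hle⟩ := two_gen_minus_small hF a b hab n hn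
    exact two_gen_quot (Cfsg.Omega F ⇑(QM (n + 1) (binQF a b))) A B hA hB hle

end Cfsg.Agent.Lib.H4.OG
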