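import Cfsg.Agent.Lib.H4.OG.SumLift

/-!
# Subgroups of `O(H^k ⊥ Q₂)` containing the Levi root elements and a mixing element (helper4)
-/

set_option autoImplicit false
set_option linter.unusedSectionVars false

namespace Cfsg.Agent.Lib.H4.OG

open Matrix Cfsg.Agent.Lib.H13 Cfsg.Agent.Lib.H13.PlusLevi Cfsg.Agent.Lib.H13.OrthSum

section general

variable {F : Type*} [Field F] {ι : Type} [Fintype ι] [DecidableEq ι]
variable (Q : QuadraticForm F (ι → F))

set_option quotPrecheck false in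
local notation "B" => QuadraticMap.polar (⇑Q)

/-- the vectors `v ⊥ u` all of whose multiples give root elements `T_{u, t v}` in `H` -/
def rootSub (H : Subgroup ↥(Cfsg.isometryGroup F ⇑Q)) (u : ι → F) (hu : Q u = 0) :
    Submodule F (ι → F) where
  carrier := {v | B u v = 0 ∧ ∀ t : F, Tl Q u (t • v) ∈ H}
  add_mem' := by
    rintro v w ⟨hv1, hv2⟩ ⟨hw1, hw2⟩
    refine ⟨by rw [polar_add_right', hv1, hw1, add_zero], fun t => ?_⟩
    rw [smul_add, ← Tl_mul Q hu (by rw [polar_smul_right', hv1, mul_zero])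
      (by rw [polar_smul_right', hw1, mul_zero])]
    exact H.mul_mem (hv2 t) (hw2 t)
  zero_mem' := ⟨QuadraticMap.polar_zero_right _ u, fun t => by
    rw [smul_zero, Tl_zero Q hu]; exact H.one_mem⟩
  smul_mem' := by
    rintro c v ⟨hv1, hv2⟩
    refine ⟨by rw [polar_smul_right', hv1, mul_zero], fun t => ?_⟩
    rw [smul_smul]
    exact hv2 _

theorem mem_rootSub (H : Subgroup ↥(Cfsg.isometryGroup F ⇑Q)) (u : ι → F) (hu : Q u = 0)
    (v : ι → F) : v ∈ rootSub Q H u hu ↔ B u v = 0 ∧ ∀ t : F, Tl Q u (t • v) ∈ H := Iff.rfl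

theorem rootSub_act (H : Subgroup ↥(Cfsg.isometryGroup F ⇑Q)) (u : ι → F) (hu : Q u = 0)
    (g : ↥(Cfsg.isometryGroup F ⇑Q)) (hg : g ∈ H) (hgu : act Q g u = u) (v : ι → F)
    (hv : v ∈ rootSub Q H u hu) : act Q g v ∈ rootSub Q H u hu := by
  obtain ⟨hv1, hv2⟩ := hv
  have h1 : B u (act Q g v) = 0 := by
    conv_lhs => rw [← hgu]
    rw [polar_act, hv1]
  refine ⟨h1, fun t => ?_⟩
  have h2 := conj_Tl Q g hu (show B u (t • v) = 0 by rw [polar_smul_right', hv1, mul_zero])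
  rw [hgu, act_smul] at h2
  rw [← h2]
  exact H.mul_mem (H.mul_mem hg (hv2 t)) (H.inv_mem hg)

theorem Tl_mem_of_mem_rootSub (H : Subgroup ↥(Cfsg.isometryGroup F ⇑Q)) (u : ι → F)
    (hu : Q u = 0) (v : ι → F) (hv : v ∈ rootSub Q H u hu) : Tl Q u v ∈ H := by
  have := hv.2 1
  rwa [one_smul] at this

variable {κ : Type} {e f : κ → ι → F}

/-- one side of the extraction -/
theorem Frame.side (hfr : Frame Q e f) (H : Subgroup ↥(Cfsg.isometryGroup F ⇑Q))
    (hX : ∀ i j, i ≠ j → ∀ t : F, Tl Q (e i) (t • f j) ∈ H)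
    (hthird : ∀ a b : κ, ∃ c, c ≠ a ∧ c ≠ b)
    (z : ↥(Cfsg.isometryGroup F ⇑Q)) (hz : z ∈ H) (a c : κ) (hac : a ≠ c) (lam nu : F)
    (r : ι → F) (hnu : nu ≠ 0) (hre : ∀ i, B (e i) r = 0) (hrf : ∀ i, B (f i) r = 0)
    (hz1 : act Q z (e a) = e a) (hz2 : act Q z (f c) = lam • f c + nu • e c + r) :
    (∀ j, j ≠ a → f j ∈ rootSub Q H (e a) (hfr.Qe a)) ∧
    (∀ j, j ≠ a → e j ∈ rootSub Q H (e a) (hfr.Qe a)) ∧ r ∈ rootSub Q H (e a) (hfr.Qe a) := by
  set W := rootSub Q H (e a) (hfr.Qe a) with hW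
  have hf : ∀ j, j ≠ a → f j ∈ W := by
    intro j hj
    refine ⟨hfr.ef_ne a j (Ne.symm hj), fun t => hX a j (Ne.symm hj) t⟩
  obtain ⟨b, hba, hbc⟩ := hthird a c
  -- the vector `p = nu • e c + r`
  have hp : nu • e c + r ∈ W := by
    have h1 : act Q z (f c) ∈ W := rootSub_act Q H _ _ z hz hz1 _ (hf c (Ne.symm hac))
    rw [hz2] at h1
    have h2 : lam • f c ∈ W := W.smul_mem _ (hf c (Ne.symm hac))
    have h3 := W.sub_mem h1 h2
    have h4 : lam • f c + nu • e c + r - lam • f c = nu • e c + r := by abel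
    rwa [h4] at h3
  -- move it by a Levi element
  have hg : Tl Q (e b) ((1 : F) • f c) ∈ H := hX b c hbc 1
  have hga : act Q (Tl Q (e b) ((1 : F) • f c)) (e a) = e a := hfr.levi_fix_e Q hbc hac 1
  have hu : Q (e b) = 0 := hfr.Qe b
  have huv : B (e b) ((1 : F) • f c) = 0 := by rw [polar_smul_right', hfr.ef_ne b c hbc, mul_zero]
  have hv : Q ((1 : F) • f c) = 0 := by rw [Q_smul', hfr.Qf, mul_zero]
  have hgc : act Q (Tl Q (e b) ((1 : F) • f c)) (e c) = e c + e b := by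
    rw [act_Tl_of_sing Q hu huv hv, polar_smul_left', hfr.fe_same, hfr.ee, zero_smul, sub_zero,
      mul_one, one_smul]
  have hgr : act Q (Tl Q (e b) ((1 : F) • f c)) r = r := by
    rw [act_Tl_of_sing Q hu huv hv, polar_smul_left', hrf, hre, zero_smul, sub_zero,
      mul_zero, zero_smul, add_zero]
  have hp2 : nu • (e c + e b) + r ∈ W := by
    have h1 := rootSub_act Q H _ _ _ hg hga _ hp
    rwa [act_add, act_smul, hgc, hgr] at h1
  have heb : e b ∈ W := by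
    have h3 := W.sub_mem hp2 hp
    have h4 : nu • (e c + e b) + r - (nu • e c + r) = nu • e b := by
      rw [smul_add]; abel
    rw [h4] at h3
    have h5 := W.smul_mem nu⁻¹ h3
    rwa [smul_smul, inv_mul_cancel₀ hnu, one_smul] at h5
  have he : ∀ j, j ≠ a → e j ∈ W := by
    intro j hj
    by_cases hjb : j = b
    · rw [hjb]; exact heb
    · have hg' : Tl Q (e j) ((1 : F) • f b) ∈ H := hX j b hjb 1
      have hga' : act Q (Tl Q (e j) ((1 : F) • f b)) (e a) = e a :=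
        hfr.levi_fix_e Q hjb (Ne.symm hba) 1
      have huv' : B (e j) ((1 : F) • f b) = 0 := by
        rw [polar_smul_right', hfr.ef_ne j b hjb, mul_zero]
      have hv' : Q ((1 : F) • f b) = 0 := by rw [Q_smul', hfr.Qf, mul_zero]
      have hgb : act Q (Tl Q (e j) ((1 : F) • f b)) (e b) = e b + e j := by
        rw [act_Tl_of_sing Q (hfr.Qe j) huv' hv', polar_smul_left', hfr.fe_same, hfr.ee, zero_smul,
          sub_zero, mul_one, one_smul]
      have h1 := rootSub_act Q H _ _ _ hg' hga' _ heb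
      rw [hgb] at h1
      have h2 := W.sub_mem h1 heb
      rwa [add_sub_cancel_left] at h2
  refine ⟨hf, he, ?_⟩
  have h1 := W.sub_mem hp (W.smul_mem nu (he c (Ne.symm hac)))
  rwa [add_sub_cancel_left] at h1

end general

section sum

variable {F : Type*} [Field F] {k : ℕ} {ι₂ : Type} [Fintype ι₂] [DecidableEq ι₂]
variable (Q₂ : QuadraticForm F (ι₂ → F))

theorem ιL_eq_sum (u : K k → F) :
    (ιL u : K k ⊕ ι₂ → F) = ∑ i : Fin k, u (Sum.inl i) • eM i + ∑ i : Fin k, u (Sum.inr i) • fM i := by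
  funext s
  rcases s with (i | i) | i
  · simp [Finset.sum_apply, eM, fM, ιL, eP, fP, Pi.single_apply]
  · simp [Finset.sum_apply, eM, fM, ιL, eP, fP, Pi.single_apply]
  · simp [Finset.sum_apply, eM, fM, ιL]

/-- membership in a submodule of the orthogonal complement of `e_a, f_a` -/
theorem mem_of_frame_mem (W : Submodule F (K k ⊕ ι₂ → F)) (a : Fin k)
    (he : ∀ j, j ≠ a → (eM j : K k ⊕ ι₂ → F) ∈ W) (hf : ∀ j, j ≠ a → (fM j : K k ⊕ ι₂ → F) ∈ W)
    (hR : ∀ w : ι₂ → F, (ιR w : K k ⊕ ι₂ → F) ∈ W) (v : K k ⊕ ι₂ → F)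
    (h1 : v (Sum.inl (Sum.inl a)) = 0) (h2 : v (Sum.inl (Sum.inr a)) = 0) : v ∈ W := by
  rw [decomp v, ιL_eq_sum]
  refine W.add_mem (W.add_mem (W.sum_mem fun i _ => ?_) (W.sum_mem fun i _ => ?_)) (hR _)
  · by_cases hi : i = a
    · rw [hi]
      show v (Sum.inl (Sum.inl a)) • _ ∈ W
      rw [h1, zero_smul]
      exact W.zero_mem
    · exact W.smul_mem _ (he i hi)
  · by_cases hi : i = a
    · rw [hi]
      show v (Sum.inl (Sum.inr a)) • _ ∈ W
      rw [h2, zero_smul]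
      exact W.zero_mem
    · exact W.smul_mem _ (hf i hi)

/-- **Key theorem**: a subgroup containing the Levi root elements and a suitable mixing element
contains `Ω`. -/
theorem omega_le_minus [Fintype F] (hk : 3 ≤ k)
    (hnd : (QuadraticMap.polarBilin (QM k Q₂)).Nondegenerate)
    (H : Subgroup ↥(Cfsg.isometryGroup F ⇑(QM k Q₂)))
    (hX : ∀ i j : Fin k, i ≠ j → ∀ t : F, Tl (QM k Q₂) (eM i) (t • fM j) ∈ H)
    (z : ↥(Cfsg.isometryGroup F ⇑(QM k Q₂))) (hz : z ∈ H) (a c : Fin k) (hac : a ≠ c)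
    (lam nu mu nu' : F) (w₃ w₄ : ι₂ → F) (hnu : nu ≠ 0) (hnu' : nu' ≠ 0)
    (hz1 : act (QM k Q₂) z (eM a) = eM a) (hz3 : act (QM k Q₂) z (fM a) = fM a)
    (hz2 : act (QM k Q₂) z (fM c) = lam • fM c + nu • eM c + ιR w₃)
    (hz4 : act (QM k Q₂) z (eM c) = mu • eM c + nu' • fM c + ιR w₄)
    (hspan : ∀ w : ι₂ → F, ∃ s t : F, w = s • w₃ + t • w₄) :
    commutator ↥(Cfsg.isometryGroup F ⇑(QM k Q₂)) ≤ H := by
  have hfr := frameM (F := F) (k := k) Q₂
  have hthird := exists_third_fin (m := k) hk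
  have hX' : ∀ i j : Fin k, i ≠ j → ∀ t : F, Tl (QM k Q₂) (fM i) (t • eM j) ∈ H := by
    intro i j hij t
    have := hX j i (Ne.symm hij) (-t)
    rwa [hfr.levi_symm _ j i (Ne.symm hij), neg_neg] at this
  -- the `e`-side
  obtain ⟨hEf, hEe, hE3⟩ := hfr.side _ H hX hthird z hz a c hac lam nu (ιR w₃) hnu
    (fun i => polar_eM_ιR Q₂ i w₃) (fun i => polar_fM_ιR Q₂ i w₃) hz1 hz2
  have hE4 : (ιR w₄ : K k ⊕ ι₂ → F) ∈ rootSub (QM k Q₂) H (eM a) (hfr.Qe a) := by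
    have h1 := rootSub_act _ H _ (hfr.Qe a) z hz hz1 _ (hEe c (Ne.symm hac))
    rw [hz4] at h1
    have h2 := Submodule.sub_mem _ h1 (Submodule.add_mem _
      (Submodule.smul_mem _ mu (hEe c (Ne.symm hac)))
      (Submodule.smul_mem _ nu' (hEf c (Ne.symm hac))))
    rwa [add_sub_cancel_left] at h2
  have hER : ∀ w : ι₂ → F,
      (ιR w : K k ⊕ ι₂ → F) ∈ rootSub (QM k Q₂) H (eM a) (hfr.Qe a) := by
    intro w
    obtain ⟨s, t, rfl⟩ := hspan w
    rw [ιR_add, ιR_smul, ιR_smul]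
    exact Submodule.add_mem _ (Submodule.smul_mem _ s hE3) (Submodule.smul_mem _ t hE4)
  -- the `f`-side
  have hz4' : act (QM k Q₂) z (eM c) = mu • eM c + nu' • fM c + ιR w₄ := hz4
  obtain ⟨hFe, hFf, hF4⟩ := hfr.swap.side _ H hX' hthird z hz a c hac mu nu' (ιR w₄) hnu'
    (fun i => polar_fM_ιR Q₂ i w₄) (fun i => polar_eM_ιR Q₂ i w₄) hz3 hz4'
  have hF3 : (ιR w₃ : K k ⊕ ι₂ → F) ∈ rootSub (QM k Q₂) H (fM a) (hfr.Qf a) := by
    have h1 := rootSub_act _ H _ (hfr.Qf a) z hz hz3 _ (hFf c (Ne.symm hac))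
    rw [hz2] at h1
    have h2 := Submodule.sub_mem _ h1 (Submodule.add_mem _
      (Submodule.smul_mem _ lam (hFf c (Ne.symm hac)))
      (Submodule.smul_mem _ nu (hFe c (Ne.symm hac))))
    rwa [add_sub_cancel_left] at h2
  have hFR : ∀ w : ι₂ → F,
      (ιR w : K k ⊕ ι₂ → F) ∈ rootSub (QM k Q₂) H (fM a) (hfr.Qf a) := by
    intro w
    obtain ⟨s, t, rfl⟩ := hspan w
    rw [ιR_add, ιR_smul, ιR_smul]
    exact Submodule.add_mem _ (Submodule.smul_mem _ s hF3) (Submodule.smul_mem _ t hF4)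
  -- the two root groups
  have hE : ∀ (v : K k ⊕ ι₂ → F) (h1 : QuadraticMap.polar (⇑(QM k Q₂)) (eM a) v = 0),
      QuadraticMap.polar (⇑(QM k Q₂)) (fM a) v = 0 →
      Tel (QM k Q₂) (eM a) v (Q_eM Q₂ a) h1 ∈ H := by
    intro v h1 h2
    rw [← Tl_eq]
    rw [polar_eM] at h1
    rw [polar_fM] at h2
    exact Tl_mem_of_mem_rootSub _ H _ (hfr.Qe a) v (mem_of_frame_mem _ a hEe hEf hER v h2 h1)
  have hF : ∀ (v : K k ⊕ ι₂ → F) (h1 : QuadraticMap.polar (⇑(QM k Q₂)) (fM a) v = 0),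
      QuadraticMap.polar (⇑(QM k Q₂)) (eM a) v = 0 →
      Tel (QM k Q₂) (fM a) v (Q_fM Q₂ a) h1 ∈ H := by
    intro v h1 h2
    rw [← Tl_eq]
    rw [polar_fM] at h1
    rw [polar_eM] at h2
    exact Tl_mem_of_mem_rootSub _ H _ (hfr.Qf a) v (mem_of_frame_mem _ a hFe hFf hFR v h1 h2)
  -- the nonsingular vector
  have hz1' : QuadraticMap.polar (⇑(QM k Q₂)) (eM a) (eM c + fM c) = 0 := by
    rw [polar_add_right', hfr.ee, hfr.ef_ne a c hac, add_zero]
  have hz2' : QuadraticMap.polar (⇑(QM k Q₂)) (fM a) (eM c + fM c) = 0 := by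
    rw [polar_add_right', hfr.ff, hfr.fe_ne _ a c hac, add_zero]
  have hzne : QM k Q₂ (eM c + fM c) ≠ 0 := by
    rw [Q_add', hfr.Qe, hfr.Qf, hfr.ef_same]
    simp
  have hall := Tel_mem_of_rootGroups (QM k Q₂) (eM a) (fM a) H (Q_eM Q₂ a) (Q_fM Q₂ a)
    (hfr.ef_same a) hE hF (eM c + fM c) hz1' hz2' hzne hnd
  refine le_trans (commutator_le_closure_TelSet (QM k Q₂) hnd ?_) ?_
  · rw [Fintype.card_sum, Fintype.card_sum, Fintype.card_fin]
    omega
  · rw [Subgroup.closure_le]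
    rintro g ⟨u, v, hu, huv, rfl⟩
    exact hall u v hu huv

end sum

end Cfsg.Agent.Lib.H4.OG
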