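import Cfsg.Agent.Lib.H4.OG.MinusEl

/-!
# The two-factor mixing element has order five over the fields with two and three elements
(helper4)
-/

set_option autoImplicit false
set_option linter.unusedSectionVars false

namespace Cfsg.Agent.Lib.H4.OG

open Matrix Cfsg.Agent.Lib.H13 Cfsg.Agent.Lib.H13.PlusLevi Cfsg.Agent.Lib.H13.OrthSum

variable {F : Type*} [Field F] {k : ℕ} {ι₂ : Type} [Fintype ι₂] [DecidableEq ι₂]
variable (Q₂ : QuadraticForm F (ι₂ → F))

/-- an isometry fixing the frame and the second summand is trivial -/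
theorem eq_one_of_fix_all (g : ↥(Cfsg.isometryGroup F ⇑(QM k Q₂)))
    (he : ∀ j, act (QM k Q₂) g (eM j) = eM j) (hf : ∀ j, act (QM k Q₂) g (fM j) = fM j)
    (hR : ∀ w : ι₂ → F, act (QM k Q₂) g (ιR w) = ιR w) : g = 1 := by
  apply act_ext
  intro x
  rw [act_one]
  conv_lhs => rw [decomp x, ιL_eq_sum]
  rw [act_add, act_add, act_sum, act_sum, hR]
  simp only [act_smul, he, hf]
  rw [← ιL_eq_sum, ← decomp]

theorem act_pow_fix {ι : Type} [Fintype ι] [DecidableEq ι] (Q : QuadraticForm F (ι → F))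
    (g : ↥(Cfsg.isometryGroup F ⇑Q)) (x : ι → F) (h : act Q g x = x) (n : ℕ) :
    act Q (g ^ n) x = x := by
  induction n with
  | zero => rw [pow_zero, act_one]
  | succ m ih => rw [pow_succ, act_mul, h, ih]

/-- the coordinate vector in the four-dimensional space spanned by `e_c, f_c, w₁, w₂` -/
def phi4 (c : Fin k) (w₁ w₂ : ι₂ → F) (p r s t : F) : K k ⊕ ι₂ → F :=
  p • eM c + r • fM c + s • ιR w₁ + t • ιR w₂

theorem phi4_congr (c : Fin k) (w₁ w₂ : ι₂ → F) {p r s t p' r' s' t' : F} (h1 : p = p')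
    (h2 : r = r') (h3 : s = s') (h4 : t = t') :
    (phi4 c w₁ w₂ p r s t : K k ⊕ ι₂ → F) = phi4 c w₁ w₂ p' r' s' t' := by
  rw [h1, h2, h3, h4]

theorem z2_phi (c : Fin k) (w₁ w₂ : ι₂ → F) (α₁ α₂ β : F) (h1 : Q₂ w₁ = α₁) (h2 : Q₂ w₂ = α₂)
    (hβ : QuadraticMap.polar (⇑Q₂) w₁ w₂ = β) (p r s t : F) :
    act (QM k Q₂) (Xel Q₂ c w₁ * Yel Q₂ c w₂) (phi4 c w₁ w₂ p r s t) =
      phi4 c w₁ w₂ ((1 - β + α₁ * α₂) * p - α₁ * r + (2 * α₁ - β * α₁) * s + (β - 2 * α₁ * α₂) * t)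
        (-α₂ * p + r + β * s + 2 * α₂ * t) (α₂ * p - r + (1 - β) * s - 2 * α₂ * t) (-p + t) := by
  have hs1 : QuadraticMap.polar (⇑Q₂) w₁ w₁ = 2 * Q₂ w₁ := Cfsg.Agent.Lib.H4.polar_self _ _
  have hs2 : QuadraticMap.polar (⇑Q₂) w₂ w₂ = 2 * Q₂ w₂ := Cfsg.Agent.Lib.H4.polar_self _ _
  unfold phi4
  rw [act_add, act_add, act_add, act_smul, act_smul, act_smul, act_smul, z2_e, z2_f, z2_r, z2_r,
    hs1, hs2, QuadraticMap.polar_comm (⇑Q₂) w₂ w₁, ιR_sub, ιR_smul, ιR_neg, h1, h2, hβ]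
  module

/-- fixing the four coordinate vectors and the rest of the frame is enough -/
theorem eq_one_of_fix_phi (g : ↥(Cfsg.isometryGroup F ⇑(QM k Q₂))) (c : Fin k)
    (w₁ w₂ : ι₂ → F) (hspan : ∀ w : ι₂ → F, ∃ s t : F, w = s • w₁ + t • w₂)
    (he : ∀ j, j ≠ c → act (QM k Q₂) g (eM j) = eM j)
    (hf : ∀ j, j ≠ c → act (QM k Q₂) g (fM j) = fM j)
    (h4 : ∀ p r s t : F, act (QM k Q₂) g (phi4 c w₁ w₂ p r s t) = phi4 c w₁ w₂ p r s t) :
    g = 1 := by
  apply eq_one_of_fix_all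
  · intro j
    by_cases hj : j = c
    · have := h4 1 0 0 0
      unfold phi4 at this
      rw [one_smul, zero_smul, zero_smul, zero_smul, add_zero, add_zero, add_zero] at this
      rw [hj]; exact this
    · exact he j hj
  · intro j
    by_cases hj : j = c
    · have := h4 0 1 0 0
      unfold phi4 at this
      rw [one_smul, zero_smul, zero_smul, zero_smul, zero_add, add_zero, add_zero] at this
      rw [hj]; exact this
    · exact hf j hj
  · intro w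
    obtain ⟨s, t, rfl⟩ := hspan w
    have := h4 0 0 s t
    unfold phi4 at this
    rw [zero_smul, zero_smul, zero_add, zero_add] at this
    rw [ιR_add, ιR_smul, ιR_smul]
    exact this

theorem z2_pow_five_two (h2 : (2 : F) = 0) (c : Fin k) (w₁ w₂ : ι₂ → F) (h1 : Q₂ w₁ = 1)
    (h2' : Q₂ w₂ = 1) (hβ : QuadraticMap.polar (⇑Q₂) w₁ w₂ = 1)
    (hspan : ∀ w : ι₂ → F, ∃ s t : F, w = s • w₁ + t • w₂) :
    (Xel Q₂ c w₁ * Yel Q₂ c w₂) ^ 5 = 1 := by
  set z := Xel Q₂ c w₁ * Yel Q₂ c w₂ with hz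
  have hphi : ∀ p r s t : F, act (QM k Q₂) z (phi4 c w₁ w₂ p r s t) =
      phi4 c w₁ w₂ (p - r + s - t) (-p + r + s + 2 * t) (p - r - 2 * t) (-p + t) := by
    intro p r s t
    rw [hz, z2_phi Q₂ c w₁ w₂ 1 1 1 h1 h2' hβ]
    apply phi4_congr <;> ring
  apply eq_one_of_fix_phi Q₂ _ c w₁ w₂ hspan
  · intro j hj
    exact act_pow_fix _ _ _ (z2_fix_e Q₂ hj w₁ w₂) 5
  · intro j hj
    exact act_pow_fix _ _ _ (z2_fix_f Q₂ hj w₁ w₂) 5
  · intro p r s t
    rw [pow_succ, pow_succ, pow_succ, pow_succ, pow_one, act_mul, act_mul, act_mul, act_mul,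
      hphi, hphi, hphi, hphi, hphi]
    apply phi4_congr
    · linear_combination ((54) * p + (-32) * r + (8) * s + (-68) * t) * h2
    · linear_combination ((-32) * p + (18) * r + (-4) * s + (40) * t) * h2
    · linear_combination ((48) * p + (-28) * r + (6) * s + (-60) * t) * h2
    · linear_combination ((-28) * p + (16) * r + (-4) * s + (34) * t) * h2

theorem z2_pow_five_three (h3 : (3 : F) = 0) (c : Fin k) (w₁ w₂ : ι₂ → F) (h1 : Q₂ w₁ = 1)
    (h2' : Q₂ w₂ = 1) (hβ : QuadraticMap.polar (⇑Q₂) w₁ w₂ = 0)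
    (hspan : ∀ w : ι₂ → F, ∃ s t : F, w = s • w₁ + t • w₂) :
    (Xel Q₂ c w₁ * Yel Q₂ c w₂) ^ 5 = 1 := by
  set z := Xel Q₂ c w₁ * Yel Q₂ c w₂ with hz
  have hphi : ∀ p r s t : F, act (QM k Q₂) z (phi4 c w₁ w₂ p r s t) =
      phi4 c w₁ w₂ (2 * p - r + 2 * s - 2 * t) (-p + r + 2 * t) (p - r + s - 2 * t) (-p + t) := by
    intro p r s t
    rw [hz, z2_phi Q₂ c w₁ w₂ 1 1 0 h1 h2' hβ]
    apply phi4_congr <;> ring
  apply eq_one_of_fix_phi Q₂ _ c w₁ w₂ hspan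
  · intro j hj
    exact act_pow_fix _ _ _ (z2_fix_e Q₂ hj w₁ w₂) 5
  · intro j hj
    exact act_pow_fix _ _ _ (z2_fix_f Q₂ hj w₁ w₂) 5
  · intro p r s t
    rw [pow_succ, pow_succ, pow_succ, pow_succ, pow_one, act_mul, act_mul, act_mul, act_mul,
      hphi, hphi, hphi, hphi, hphi]
    apply phi4_congr
    · linear_combination ((256) * p + (-123) * r + (154) * s + (-320) * t) * h3
    · linear_combination ((-123) * p + (59) * r + (-74) * s + (154) * t) * h3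
    · linear_combination ((160) * p + (-77) * r + (96) * s + (-200) * t) * h3
    · linear_combination ((-77) * p + (37) * r + (-46) * s + (96) * t) * h3

end Cfsg.Agent.Lib.H4.OG
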