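import Cfsg.Agent.Lib.H4.OG.MinusGen

/-!
# The form `H^k ⊥ ⟨1⟩` in odd characteristic: basics and transport (helper4)
-/

set_option autoImplicit false
set_option linter.unusedSectionVars false

namespace Cfsg.Agent.Lib.H4.OG

open Matrix Cfsg.Agent.Lib.H13 Cfsg.Agent.Lib.H13.PlusLevi Cfsg.Agent.Lib.H13.OrthSum

variable {F : Type*} [Field F]

/-- the unary form `x²` -/
noncomputable def sqQF : QuadraticForm F (Unit → F) :=
  QuadraticMap.linMulLin (LinearMap.proj (R := F) (φ := fun _ : Unit => F) ())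
    (LinearMap.proj (R := F) (φ := fun _ : Unit => F) ())

theorem sqQF_apply (w : Unit → F) : sqQF w = w () ^ 2 := by
  simp [sqQF]
  ring

theorem polar_sqQF (w w' : Unit → F) :
    QuadraticMap.polar (⇑(sqQF (F := F))) w w' = 2 * w () * w' () := by
  unfold QuadraticMap.polar
  rw [sqQF_apply, sqQF_apply, sqQF_apply]
  simp only [Pi.add_apply]
  ring

/-- the unit vector -/
def u0 : Unit → F := fun _ => 1

theorem sqQF_u0 : sqQF (u0 : Unit → F) = 1 := by
  rw [sqQF_apply]; simp [u0]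

theorem sqQF_smul_u0 (t : F) : sqQF (t • (u0 : Unit → F)) = t * t := by
  rw [sqQF_apply]; simp [u0]; ring

theorem polar_u0 (s t : F) :
    QuadraticMap.polar (⇑(sqQF (F := F))) (s • u0) (t • u0) = 2 * s * t := by
  rw [polar_sqQF]; simp [u0]

theorem eq_smul_u0 (w : Unit → F) : w = w () • u0 := by
  funext i
  simp [u0]

theorem nondeg_sqQF (h2 : (2 : F) ≠ 0) :
    (QuadraticMap.polarBilin (sqQF (F := F))).Nondegenerate := by
  have key : ∀ x : Unit → F,
      (∀ y, QuadraticMap.polar (⇑(sqQF (F := F))) x y = 0) → x = 0 := by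
    intro x hx
    have := hx u0
    rw [polar_sqQF] at this
    simp [u0, h2] at this
    funext i
    exact this
  constructor
  · intro x hx
    exact key x hx
  · intro y hy
    apply key y
    intro x
    have := hy x
    rw [QuadraticMap.polarBilin_apply_apply] at this
    rw [QuadraticMap.polar_comm]
    exact this

theorem nondeg_QM_sq [Finite F] (h2 : (2 : F) ≠ 0) (k : ℕ) :
    (QuadraticMap.polarBilin (QM k (sqQF (F := F)))).Nondegenerate :=
  nondeg_sumQF _ _ (Cfsg.Agent.S0287.nondeg (F := F) k) (nondeg_sqQF h2)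

theorem two_ne_zero_of_odd [Fintype F] (hodd : Odd (Fintype.card F)) : (2 : F) ≠ 0 := by
  intro h2
  have h : ringChar F ∣ 2 := (ringChar.spec F 2).1 (by exact_mod_cast h2)
  have hc : ringChar F ∣ Fintype.card F := by
    rw [← ringChar.spec F]
    exact FiniteField.cast_card_eq_zero F
  rcases (Nat.dvd_prime Nat.prime_two).1 h with h1 | h1
  · have := ringChar.charP F
    exact CharP.ringChar_ne_one (R := F) h1
  · rw [h1] at hc
    exact (Nat.not_even_iff_odd.2 hodd) (even_iff_two_dvd.2 hc)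

/-- the transported form is the odd-dimensional standard form -/
theorem tr_QM_sq (m : ℕ) :
    Cfsg.Agent.Lib.H11.IsoReindex.tr (Equiv.sumComm (K m) Unit) ⇑(QM m (sqQF (F := F))) =
      Cfsg.quadFormOdd m F := by
  funext v
  unfold Cfsg.Agent.Lib.H11.IsoReindex.tr
  rw [QM_apply, plusQF_apply, sqQF_apply]
  unfold Cfsg.quadFormPlus Cfsg.quadFormOdd
  rw [add_comm]
  rfl

/-- transport of two-generation along a group isomorphism -/
theorem two_gen_transport {G G' : Type*} [Group G] [Group G'] (φ : G ≃* G')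
    (h : ∃ A B : G, A ∈ commutator G ∧ B ∈ commutator G ∧
      commutator G ≤ Subgroup.closure {A, B}) :
    ∃ A' B' : G', A' ∈ commutator G' ∧ B' ∈ commutator G' ∧
      commutator G' ≤ Subgroup.closure {A', B'} := by
  obtain ⟨A, B, hA, hB, hle⟩ := h
  refine ⟨φ A, φ B, (Cfsg.Agent.Lib.H11.IsoReindex.mem_commutator_iff φ A).2 hA,
    (Cfsg.Agent.Lib.H11.IsoReindex.mem_commutator_iff φ B).2 hB, ?_⟩
  intro g' hg'
  have h1 : φ.symm g' ∈ commutator G := by
    rw [← Cfsg.Agent.Lib.H11.IsoReindex.mem_commutator_iff φ, MulEquiv.apply_symm_apply]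
    exact hg'
  have h2 := hle h1
  have h3 : φ (φ.symm g') ∈ (Subgroup.closure ({A, B} : Set G)).map φ.toMonoidHom :=
    Subgroup.mem_map_of_mem _ h2
  rw [MulEquiv.apply_symm_apply, MonoidHom.map_closure, Set.image_pair] at h3
  exact h3

/-- two-generation of `PΩ` of the odd-dimensional form from the sum form -/
theorem two_gen_odd_of_QM [Fintype F] (m : ℕ)
    (h : ∃ A B : ↥(Cfsg.isometryGroup F ⇑(QM m (sqQF (F := F)))),
      A ∈ Cfsg.Omega F ⇑(QM m (sqQF (F := F))) ∧ B ∈ Cfsg.Omega F ⇑(QM m (sqQF (F := F))) ∧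
      Cfsg.Omega F ⇑(QM m (sqQF (F := F))) ≤ Subgroup.closure {A, B}) :
    ∃ a b : Cfsg.POmega F (Cfsg.quadFormOdd m F),
      Subgroup.closure ({a, b} : Set (Cfsg.POmega F (Cfsg.quadFormOdd m F))) = ⊤ := by
  have h1 := two_gen_transport
    (Cfsg.Agent.Lib.H11.IsoReindex.isoEquiv (Equiv.sumComm (K m) Unit) ⇑(QM m (sqQF (F := F)))) h
  rw [tr_QM_sq] at h1
  obtain ⟨A, B, hA, hB, hle⟩ := h1
  exact two_gen_quot (Cfsg.Omega F (Cfsg.quadFormOdd m F)) A B hA hB hle

variable [Fintype F] {ι₂ : Type} [Fintype ι₂] [DecidableEq ι₂]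

/-- the core of the argument, for a general second summand -/
theorem two_gen_core' (Q₂ : QuadraticForm F (ι₂ → F)) (n : ℕ) (hn : 2 ≤ n)
    (hnd : (QuadraticMap.polarBilin (QM (n + 1) Q₂)).Nondegenerate)
    (g₁ g₂ : Matrix.SpecialLinearGroup (Fin (n + 1)) F)
    (hgen : Subgroup.closure ({g₁, g₂} : Set (Matrix.SpecialLinearGroup (Fin (n + 1)) F)) = ⊤)
    (z : ↥(Cfsg.isometryGroup F ⇑(QM (n + 1) Q₂)))
    (hzΩ : z ∈ Cfsg.Omega F ⇑(QM (n + 1) Q₂))
    (hcomm : Commute (leviM Q₂ (n + 1) g₁) z) (mT mz : ℕ)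
    (hT : (leviM Q₂ (n + 1) g₁) ^ mT = 1) (hz : z ^ mz = 1) (hcop : Nat.Coprime mT mz)
    (c₀ c : Fin (n + 1)) (hac : c₀ ≠ c) (lam nu mu nu' : F) (w₃ w₄ : ι₂ → F)
    (hnu : nu ≠ 0) (hnu' : nu' ≠ 0)
    (hz1 : act (QM (n + 1) Q₂) z (eM c₀) = eM c₀)
    (hz3 : act (QM (n + 1) Q₂) z (fM c₀) = fM c₀)
    (hz2 : act (QM (n + 1) Q₂) z (fM c) = lam • fM c + nu • eM c + ιR w₃)
    (hz4 : act (QM (n + 1) Q₂) z (eM c) = mu • eM c + nu' • fM c + ιR w₄)
    (hspan : ∀ w : ι₂ → F, ∃ s t : F, w = s • w₃ + t • w₄) :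
    ∃ A B : ↥(Cfsg.isometryGroup F ⇑(QM (n + 1) Q₂)),
      A ∈ Cfsg.Omega F ⇑(QM (n + 1) Q₂) ∧ B ∈ Cfsg.Omega F ⇑(QM (n + 1) Q₂) ∧
      Cfsg.Omega F ⇑(QM (n + 1) Q₂) ≤ Subgroup.closure {A, B} := by
  set A := leviM Q₂ (n + 1) g₂ with hA
  set T := leviM Q₂ (n + 1) g₁ with hT'
  have hmem := mem_zpowers_mul_of_coprime T z hcomm _ _ hT hz hcop
  refine ⟨A, T * z, leviM_mem_omega _ (by omega) g₂,
    Subgroup.mul_mem _ (leviM_mem_omega _ (by omega) g₁) hzΩ, ?_⟩
  set H := Subgroup.closure ({A, T * z} :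
    Set ↥(Cfsg.isometryGroup F ⇑(QM (n + 1) Q₂))) with hH
  have hAH : A ∈ H := Subgroup.subset_closure (by simp)
  have hBH : T * z ∈ H := Subgroup.subset_closure (by simp)
  have hzp : Subgroup.zpowers (T * z) ≤ H := by
    rw [Subgroup.zpowers_le]; exact hBH
  have hTH : T ∈ H := hzp hmem.1
  have hzH : z ∈ H := hzp hmem.2
  have hL : ∀ s : Matrix.SpecialLinearGroup (Fin (n + 1)) F,
      leviM Q₂ (n + 1) s ∈ H := by
    have hle : Subgroup.closure ({g₁, g₂} : Set (Matrix.SpecialLinearGroup (Fin (n + 1)) F)) ≤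
        H.comap (leviM Q₂ (n + 1)) := by
      rw [Subgroup.closure_le]
      rintro s (rfl | rfl)
      · exact hTH
      · exact hAH
    rw [hgen] at hle
    intro s
    exact hle (Subgroup.mem_top s)
  apply omega_le_minus Q₂ (by omega) hnd H ?_ z hzH c₀ c hac lam nu mu nu' w₃ w₄ hnu hnu'
    hz1 hz3 hz2 hz4 hspan
  intro i j hij t
  rw [← leviM_transvection _ hij t]
  exact hL _

end Cfsg.Agent.Lib.H4.OG
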