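import Cfsg.Agent.Lib.H4.OG.OddBase

/-!
# `Ω_{2m+1}(q)`, `q` odd, `m ≥ 3`, is generated by two elements (helper4)
-/

set_option autoImplicit false
set_option linter.unusedSectionVars false

namespace Cfsg.Agent.Lib.H4.OG

open Matrix Cfsg.Agent.Lib.H13 Cfsg.Agent.Lib.H13.PlusLevi Cfsg.Agent.Lib.H13.OrthSum

variable {F : Type*} [Field F] [Fintype F]

theorem card7_odd (n : ℕ) (hn : 2 ≤ n) : 7 ≤ Fintype.card (K (n + 1) ⊕ Unit) := by
  rw [Fintype.card_sum, Fintype.card_sum, Fintype.card_fin, Fintype.card_unit]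
  omega

theorem two_gen_odd_large (h2 : (2 : F) ≠ 0) (hF : 3 < Fintype.card F) (n : ℕ) (hn : 2 ≤ n) :
    ∃ A B : ↥(Cfsg.isometryGroup F ⇑(QM (n + 1) (sqQF (F := F)))),
      A ∈ Cfsg.Omega F ⇑(QM (n + 1) (sqQF (F := F))) ∧
      B ∈ Cfsg.Omega F ⇑(QM (n + 1) (sqQF (F := F))) ∧
      Cfsg.Omega F ⇑(QM (n + 1) (sqQF (F := F))) ≤ Subgroup.closure {A, B} := by
  obtain ⟨κ, h, g, hκ0, hh, hgen⟩ := exists_gen_large hF n hn
  obtain ⟨p, hpp, hp0, hcop⟩ := char_facts (F := F)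
  have hnd := nondeg_QM_sq (F := F) h2 (n + 1)
  have hcard7 := card7_odd n hn
  obtain ⟨c, hc⟩ : ∃ c : Fin (n + 1), c.val = 2 := ⟨⟨2, by omega⟩, rfl⟩
  have h0c : (0 : Fin (n + 1)) ≠ c := by
    intro h'
    have := congrArg Fin.val h'
    rw [hc] at this
    simp at this
  have hα : sqQF (u0 : Unit → F) = 1 := sqQF_u0
  have hβ : QuadraticMap.polar (⇑(sqQF (F := F))) u0 u0 = 2 := by
    rw [polar_sqQF]; simp [u0]
  set T := leviM (sqQF (F := F)) (n + 1) h with hT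
  have hδ := torW_mul_inv n κ hκ0
  have hcfix : torW n κ c = 1 := torW_of_two_le n κ c (by omega)
  have hTe : act (QM (n + 1) sqQF) T (eM c) = eM c := by
    rw [eM, hT, leviM_ιL, leviSL_diag_fix_e h _ _ hh hδ c hcfix]
  have hTf : act (QM (n + 1) sqQF) T (fM c) = fM c := by
    rw [fM, hT, leviM_ιL, leviSL_diag_fix_f h _ _ hh hδ c hcfix]
  have hTR : ∀ w : Unit → F, act (QM (n + 1) sqQF) T (ιR w) = ιR w :=
    fun w => leviM_ιR _ _ w
  have hcX := commute_Xel sqQF T c u0 hTe (hTR u0)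
  have hcY := commute_Yel sqQF T c u0 hTf (hTR u0)
  have hcomm : Commute T (Xel sqQF c u0 * Yel sqQF c u0 * (Xel sqQF c u0)⁻¹) :=
    (hcX.mul_right hcY).mul_right hcX.inv_right
  have hTpow : T ^ (Fintype.card F - 1) = 1 := by
    rw [hT, ← map_pow, diag_pow_card_sub_one h _ hh (torW_ne_zero n κ hκ0), map_one]
  have hzΩ : Xel sqQF c u0 * Yel sqQF c u0 * (Xel sqQF c u0)⁻¹ ∈
      Cfsg.Omega F ⇑(QM (n + 1) (sqQF (F := F))) :=
    Subgroup.mul_mem _ (Subgroup.mul_mem _ (Xel_mem_omega _ hnd hcard7 h0c u0)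
      (Yel_mem_omega _ hnd hcard7 h0c u0)) (Subgroup.inv_mem _ (Xel_mem_omega _ hnd hcard7 h0c u0))
  refine two_gen_core' sqQF n hn hnd h g hgen _ hzΩ hcomm _ _ hTpow
    (z3_pow sqQF c u0 u0 p hp0) hcop 0 c h0c _ _ _ _ _ _ ?_ ?_
    (z3_fix_e sqQF h0c u0 u0) (z3_fix_f sqQF h0c u0 u0)
    (z3_f sqQF c u0 u0) (z3_e sqQF c u0 u0) ?_
  · rw [hα]; simp
  · rw [hα]; simp
  · intro w
    refine ⟨-(w ()) / 2, 0, ?_⟩
    funext i
    rw [hα, hβ]
    simp [u0]
    field_simp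
    ring

/-- the three-dimensional coordinate vector -/
def phi3 {k : ℕ} (c : Fin k) (p r s : F) : K k ⊕ Unit → F :=
  p • eM c + r • fM c + s • ιR u0

theorem phi3_congr {k : ℕ} (c : Fin k) {p r s p' r' s' : F} (h1 : p = p')
    (h2 : r = r') (h3 : s = s') :
    (phi3 c p r s : K k ⊕ Unit → F) = phi3 c p' r' s' := by
  rw [h1, h2, h3]

theorem eq_one_of_fix_phi3 {k : ℕ} (g : ↥(Cfsg.isometryGroup F ⇑(QM k (sqQF (F := F)))))
    (c : Fin k)
    (he : ∀ j, j ≠ c → act (QM k sqQF) g (eM j) = eM j)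
    (hf : ∀ j, j ≠ c → act (QM k sqQF) g (fM j) = fM j)
    (h3 : ∀ p r s : F, act (QM k sqQF) g (phi3 c p r s) = phi3 c p r s) :
    g = 1 := by
  apply eq_one_of_fix_all
  · intro j
    by_cases hj : j = c
    · have := h3 1 0 0
      unfold phi3 at this
      rw [one_smul, zero_smul, zero_smul, add_zero, add_zero] at this
      rw [hj]; exact this
    · exact he j hj
  · intro j
    by_cases hj : j = c
    · have := h3 0 1 0
      unfold phi3 at this
      rw [one_smul, zero_smul, zero_smul, zero_add, add_zero] at this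
      rw [hj]; exact this
    · exact hf j hj
  · intro w
    have := h3 0 0 (w ())
    unfold phi3 at this
    rw [zero_smul, zero_smul, zero_add, zero_add, ← ιR_smul, ← eq_smul_u0] at this
    exact this

/-- over the field with three elements, `X(u₀) Y(-u₀)` is an involution -/
theorem z2_sq_three {k : ℕ} (h3 : (3 : F) = 0) (c : Fin k) :
    (Xel (sqQF (F := F)) c u0 * Yel sqQF c (-u0)) ^ 2 = 1 := by
  set z := Xel (sqQF (F := F)) c u0 * Yel sqQF c (-u0) with hz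
  have hα : sqQF (u0 : Unit → F) = 1 := sqQF_u0
  have hα' : sqQF (-(u0 : Unit → F)) = 1 := by rw [QuadraticMap.map_neg, hα]
  have hβ : QuadraticMap.polar (⇑(sqQF (F := F))) u0 u0 = 2 := by
    rw [polar_sqQF]; simp [u0]
  have hβ' : QuadraticMap.polar (⇑(sqQF (F := F))) u0 (-u0) = -2 := by
    rw [QuadraticMap.polar_neg_right, hβ]
  have hβ'' : QuadraticMap.polar (⇑(sqQF (F := F))) (-u0) u0 = -2 := by
    rw [QuadraticMap.polar_neg_left, hβ]
  have hphi : ∀ p r s : F, act (QM k sqQF) z (phi3 c p r s) =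
      phi3 c (4 * p - r + 4 * s) (-p + r - 2 * s) (2 * p - r + 3 * s) := by
    intro p r s
    unfold phi3
    rw [hz, act_add, act_add, act_smul, act_smul, act_smul, z2_e, z2_f, z2_r, hα, hα', hβ, hβ',
      hβ'', ιR_sub, ιR_smul, ιR_neg]
    module
  apply eq_one_of_fix_phi3 _ c
  · intro j hj
    exact act_pow_fix _ _ _ (z2_fix_e sqQF hj u0 (-u0)) 2
  · intro j hj
    exact act_pow_fix _ _ _ (z2_fix_f sqQF hj u0 (-u0)) 2
  · intro p r s
    rw [pow_succ, pow_one, act_mul, hphi, hphi]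
    apply phi3_congr
    · linear_combination (8 * p - 3 * r + 10 * s) * h3
    · linear_combination (-3 * p + r - 4 * s) * h3
    · linear_combination (5 * p - 2 * r + 6 * s) * h3

theorem two_gen_odd_small (h2 : (2 : F) ≠ 0) (hF : Fintype.card F ≤ 3) (n : ℕ) (hn : 2 ≤ n) :
    ∃ A B : ↥(Cfsg.isometryGroup F ⇑(QM (n + 1) (sqQF (F := F)))),
      A ∈ Cfsg.Omega F ⇑(QM (n + 1) (sqQF (F := F))) ∧
      B ∈ Cfsg.Omega F ⇑(QM (n + 1) (sqQF (F := F))) ∧
      Cfsg.Omega F ⇑(QM (n + 1) (sqQF (F := F))) ≤ Subgroup.closure {A, B} := by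
  obtain ⟨w, hgen⟩ := exists_gen_small hF n hn
  have h01 := fin_zero_ne_one n (by omega)
  have hfr := frameM (F := F) (k := n + 1) (sqQF (F := F))
  have hnd := nondeg_QM_sq (F := F) h2 (n + 1)
  have hcard7 := card7_odd n hn
  have hcard0 : ((Fintype.card F : ℕ) : F) = 0 := FiniteField.cast_card_eq_zero F
  have hcard2 : 2 ≤ Fintype.card F := Fintype.one_lt_card
  have h3 : (3 : F) = 0 := by
    rcases Nat.lt_or_ge (Fintype.card F) 3 with h3 | h3
    · exfalso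
      have hc2 : Fintype.card F = 2 := by omega
      rw [hc2] at hcard0
      exact h2 (by exact_mod_cast hcard0)
    · have hc3 : Fintype.card F = 3 := by omega
      rw [hc3] at hcard0
      exact_mod_cast hcard0
  obtain ⟨c, hc⟩ : ∃ c : Fin (n + 1), c.val = 2 := ⟨⟨2, by omega⟩, rfl⟩
  have h0c : (0 : Fin (n + 1)) ≠ c := by
    intro h'
    have := congrArg Fin.val h'
    rw [hc] at this
    simp at this
  have hv1 : (1 : Fin (n + 1)).val = 1 := by
    rw [Fin.val_one']; exact Nat.mod_eq_of_lt (by omega)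
  have h1c : (1 : Fin (n + 1)) ≠ c := by
    intro h'
    have := congrArg Fin.val h'
    rw [hv1, hc] at this
    simp at this
  have hα : sqQF (u0 : Unit → F) = 1 := sqQF_u0
  have hα' : sqQF (-(u0 : Unit → F)) = 1 := by rw [QuadraticMap.map_neg, hα]
  set T := leviM (sqQF (F := F)) (n + 1)
    (Matrix.SpecialLinearGroup.transvection h01 (1 : F)) with hT
  have hTl : T = Tl (QM (n + 1) sqQF) (eM 0) ((1 : F) • fM 1) :=
    leviM_transvection _ h01 1
  have hTe : act (QM (n + 1) sqQF) T (eM c) = eM c := by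
    rw [hTl]; exact hfr.levi_fix_e _ h01 (Ne.symm h1c) 1
  have hTf : act (QM (n + 1) sqQF) T (fM c) = fM c := by
    rw [hTl]; exact hfr.levi_fix_f _ h01 (Ne.symm h0c) 1
  have hTR : ∀ w : Unit → F, act (QM (n + 1) sqQF) T (ιR w) = ιR w :=
    fun w => leviM_ιR _ _ w
  have hcX := commute_Xel sqQF T c u0 hTe (hTR u0)
  have hcY := commute_Yel sqQF T c (-u0) hTf (hTR (-u0))
  have hcomm : Commute T (Xel sqQF c u0 * Yel sqQF c (-u0)) := hcX.mul_right hcY
  have hTpow : T ^ 3 = 1 := by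
    rw [hTl, Tl_pow _ (hfr.Qe 0) (by rw [polar_smul_right', hfr.ef_ne 0 1 h01, mul_zero])]
    have : ((3 : ℕ) : F) = 0 := by exact_mod_cast h3
    rw [this, zero_smul, Tl_zero _ (hfr.Qe 0)]
  have hzΩ : Xel sqQF c u0 * Yel sqQF c (-u0) ∈
      Cfsg.Omega F ⇑(QM (n + 1) (sqQF (F := F))) :=
    Subgroup.mul_mem _ (Xel_mem_omega _ hnd hcard7 h0c u0) (Yel_mem_omega _ hnd hcard7 h0c (-u0))
  refine two_gen_core' sqQF n hn hnd _ w hgen _ hzΩ hcomm 3 2 hTpow (z2_sq_three h3 c)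
    (by norm_num) 0 c h0c _ _ _ _ _ _ ?_ ?_ (z2_fix_e sqQF h0c u0 (-u0))
    (z2_fix_f sqQF h0c u0 (-u0)) (z2_f sqQF c u0 (-u0)) (z2_e sqQF c u0 (-u0)) ?_
  · rw [hα]; simp
  · rw [hα']; simp
  · intro w'
    refine ⟨-(w' ()), 0, ?_⟩
    funext i
    simp [u0]

/-- `Ω_{2m+1}(q)` for `m ≥ 3` -/
theorem two_gen_odd_ge_three (h2 : (2 : F) ≠ 0) (n : ℕ) (hn : 2 ≤ n) :
    ∃ A B : ↥(Cfsg.isometryGroup F ⇑(QM (n + 1) (sqQF (F := F)))),
      A ∈ Cfsg.Omega F ⇑(QM (n + 1) (sqQF (F := F))) ∧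
      B ∈ Cfsg.Omega F ⇑(QM (n + 1) (sqQF (F := F))) ∧
      Cfsg.Omega F ⇑(QM (n + 1) (sqQF (F := F))) ≤ Subgroup.closure {A, B} := by
  rcases Nat.lt_or_ge 3 (Fintype.card F) with hF | hF
  · exact two_gen_odd_large h2 hF n hn
  · exact two_gen_odd_small h2 hF n hn

end Cfsg.Agent.Lib.H4.OG
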