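import Cfsg.Agent.Lib.H4.OG.OddGen2
import Cfsg.Agent.Lib.H4.OG.OddGen3

/-!
# `PΩ_{2m+1}(q)`, `q` odd, `m ≥ 2`, is generated by two elements (helper4)
-/

set_option autoImplicit false

namespace Cfsg.Agent.Lib.H4.OG

variable {F : Type*} [Field F] [Fintype F]

theorem two_gen_odd (hodd : Odd (Fintype.card F)) (m : ℕ) (hm : 2 ≤ m) :
    ∃ a b : Cfsg.POmega F (Cfsg.quadFormOdd m F),
      Subgroup.closure ({a, b} : Set (Cfsg.POmega F (Cfsg.quadFormOdd m F))) = ⊤ := by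
  have h2 := two_ne_zero_of_odd hodd
  apply two_gen_odd_of_QM m
  rcases Nat.lt_or_ge m 3 with h | h
  · have : m = 2 := by omega
    subst this
    exact two_gen_odd_two h2
  · obtain ⟨n, rfl⟩ : ∃ n, m = n + 1 := ⟨m - 1, by omega⟩
    exact two_gen_odd_ge_three h2 n (by omega)

end Cfsg.Agent.Lib.H4.OG
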