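import Cfsg.Agent.Lib.H4.OG.OddShort

/-!
# `Ω₅(q)`, `q` odd, is generated by two elements (helper4)

Generators: a Coxeter-type element `n` permuting the four short root groups cyclically, and the
product of a torus element with a short root element.
-/

set_option autoImplicit false
set_option linter.unusedSectionVars false
set_option linter.unusedSimpArgs false

namespace Cfsg.Agent.Lib.H4.OG

open Matrix Cfsg.Agent.Lib.H13 Cfsg.Agent.Lib.H13.PlusLevi Cfsg.Agent.Lib.H13.OrthSum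
open scoped commutatorElement

section general

variable {F : Type*} [Field F] {ι : Type} [Fintype ι] [DecidableEq ι]
variable (Q : QuadraticForm F (ι → F))

set_option quotPrecheck false in
local notation "B" => QuadraticMap.polar (⇑Q)

variable {κ : Type} {e f : κ → ι → F}

theorem Frame.levi_e (hfr : Frame Q e f) {i j : κ} (hij : i ≠ j) (t : F) :
    act Q (Tl Q (e i) (t • f j)) (e j) = e j + t • e i := by
  rw [act_Tl_of_sing Q (hfr.Qe i) (by rw [polar_smul_right', hfr.ef_ne i j hij, mul_zero])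
    (by rw [Q_smul', hfr.Qf, mul_zero]), polar_smul_left', hfr.fe_same, hfr.ee]
  simp

theorem Frame.levi_f (hfr : Frame Q e f) {i j : κ} (hij : i ≠ j) (t : F) :
    act Q (Tl Q (e i) (t • f j)) (f i) = f i - t • f j := by
  rw [act_Tl_of_sing Q (hfr.Qe i) (by rw [polar_smul_right', hfr.ef_ne i j hij, mul_zero])
    (by rw [Q_smul', hfr.Qf, mul_zero]), polar_smul_left', hfr.ff, hfr.ef_same]
  simp

theorem Frame.levi_r (hfr : Frame Q e f) {i j : κ} (hij : i ≠ j) (t : F) (r : ι → F)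
    (hre : ∀ i, B (e i) r = 0) (hrf : ∀ i, B (f i) r = 0) :
    act Q (Tl Q (e i) (t • f j)) r = r := by
  rw [act_Tl_of_sing Q (hfr.Qe i) (by rw [polar_smul_right', hfr.ef_ne i j hij, mul_zero])
    (by rw [Q_smul', hfr.Qf, mul_zero]), polar_smul_left', hrf, hre]
  simp

theorem Tl_neg_neg {u v : ι → F} (hu : Q u = 0) (huv : B u v = 0) :
    Tl Q (-u) (-v) = Tl Q u v := by
  have h1 : B u (-v) = 0 := by rw [QuadraticMap.polar_neg_right, huv, neg_zero]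
  rw [← neg_one_smul F u, Tl_smul_left Q (-1 : F) hu h1, neg_one_smul, neg_neg]

theorem act_pow_eigen (g : ↥(Cfsg.isometryGroup F ⇑Q)) (x : ι → F) (c : F)
    (h : act Q g x = c • x) (n : ℕ) : act Q (g ^ n) x = (c ^ n) • x := by
  induction n with
  | zero => rw [pow_zero, act_one, pow_zero, one_smul]
  | succ m ih => rw [pow_succ, act_mul, h, act_smul, ih, smul_smul, pow_succ, mul_comm]

end general

variable {F : Type*} [Field F]

local notation "Q5" => QM 2 (sqQF (F := F))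

/-- the long root elements -/
noncomputable def La (t : F) : ↥(Cfsg.isometryGroup F ⇑(QM 2 (sqQF (F := F)))) :=
  Tl (QM 2 sqQF) (eM 0) (t • fM 1)

noncomputable def Lc (s : F) : ↥(Cfsg.isometryGroup F ⇑(QM 2 (sqQF (F := F)))) :=
  Tl (QM 2 sqQF) (eM 1) (s • fM 0)

theorem h01 : (0 : Fin 2) ≠ 1 := by decide
theorem h10 : (1 : Fin 2) ≠ 0 := by decide

theorem La_e0 (t : F) : act Q5 (La t) (eM 0) = eM 0 :=
  (frameM sqQF).levi_fix_e _ h01 h01 t
theorem La_e1 (t : F) : act Q5 (La t) (eM 1) = eM 1 + t • eM 0 :=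
  (frameM sqQF).levi_e _ h01 t
theorem La_f0 (t : F) : act Q5 (La t) (fM 0) = fM 0 - t • fM 1 :=
  (frameM sqQF).levi_f _ h01 t
theorem La_f1 (t : F) : act Q5 (La t) (fM 1) = fM 1 :=
  (frameM sqQF).levi_fix_f _ h01 h10 t
theorem La_U (t : F) : act Q5 (La t) Uv = Uv :=
  (frameM sqQF).levi_r _ h01 t _ polar_eM_Uv polar_fM_Uv

theorem Lc_e1 (t : F) : act Q5 (Lc t) (eM 1) = eM 1 :=
  (frameM sqQF).levi_fix_e _ h10 h10 t
theorem Lc_e0 (t : F) : act Q5 (Lc t) (eM 0) = eM 0 + t • eM 1 :=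
  (frameM sqQF).levi_e _ h10 t
theorem Lc_f1 (t : F) : act Q5 (Lc t) (fM 1) = fM 1 - t • fM 0 :=
  (frameM sqQF).levi_f _ h10 t
theorem Lc_f0 (t : F) : act Q5 (Lc t) (fM 0) = fM 0 :=
  (frameM sqQF).levi_fix_f _ h10 h01 t
theorem Lc_U (t : F) : act Q5 (Lc t) Uv = Uv :=
  (frameM sqQF).levi_r _ h10 t _ polar_eM_Uv polar_fM_Uv

/-- Chevalley commutator formula: a long root element is a commutator of short root elements -/
theorem La_eq_comm (h2 : (2 : F) ≠ 0) (t : F) :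
    La t = ⁅(Xs 0 1 : ↥(Cfsg.isometryGroup F ⇑(QM 2 (sqQF (F := F))))), Ys 1 (-t / 2)⁆ := by
  have hfr := frameM (F := F) (k := 2) (sqQF (F := F))
  rw [commutatorElement_def, mul_assoc, mul_assoc, ← mul_assoc (Ys 1 (-t / 2)), Xs_inv, Xs_eq,
    Xs_eq, conj_Tl _ _ (Q_eM _ 0) (by rw [polar_smul_right', polar_eM_Uv, mul_zero]),
    Ys_e_ne h01, act_smul, Ys_U,
    Tl_mul _ (Q_eM _ 0) (by rw [polar_smul_right', polar_eM_Uv, mul_zero]) (by
      rw [polar_smul_right', polar_add_right', polar_smul_right', polar_eM_Uv,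
        hfr.ef_ne 0 1 h01]; ring)]
  unfold La
  congr 1
  have : (2 : F) * (-t / 2) = -t := by field_simp
  rw [this]
  module

theorem Lc_eq_comm (h2 : (2 : F) ≠ 0) (t : F) :
    Lc t = ⁅(Xs 1 1 : ↥(Cfsg.isometryGroup F ⇑(QM 2 (sqQF (F := F))))), Ys 0 (-t / 2)⁆ := by
  have hfr := frameM (F := F) (k := 2) (sqQF (F := F))
  rw [commutatorElement_def, mul_assoc, mul_assoc, ← mul_assoc (Ys 0 (-t / 2)), Xs_inv, Xs_eq,
    Xs_eq, conj_Tl _ _ (Q_eM _ 1) (by rw [polar_smul_right', polar_eM_Uv, mul_zero]),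
    Ys_e_ne h10, act_smul, Ys_U,
    Tl_mul _ (Q_eM _ 1) (by rw [polar_smul_right', polar_eM_Uv, mul_zero]) (by
      rw [polar_smul_right', polar_add_right', polar_smul_right', polar_eM_Uv,
        hfr.ef_ne 1 0 h10]; ring)]
  unfold Lc
  congr 1
  have : (2 : F) * (-t / 2) = -t := by field_simp
  rw [this]
  module

theorem La_mem_omega (h2 : (2 : F) ≠ 0) (t : F) :
    La t ∈ Cfsg.Omega F ⇑(QM 2 (sqQF (F := F))) := by
  rw [La_eq_comm h2]
  exact commutatorElement_mem_omega _ _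

theorem Lc_mem_omega (h2 : (2 : F) ≠ 0) (t : F) :
    Lc t ∈ Cfsg.Omega F ⇑(QM 2 (sqQF (F := F))) := by
  rw [Lc_eq_comm h2]
  exact commutatorElement_mem_omega _ _

/-- the Weyl element of the long root -/
noncomputable def Nb : ↥(Cfsg.isometryGroup F ⇑(QM 2 (sqQF (F := F)))) :=
  La 1 * Lc (-1) * La 1

theorem Nb_e0 : act Q5 (Nb : ↥(Cfsg.isometryGroup F ⇑Q5)) (eM 0) = -eM 1 := by
  unfold Nb
  simp only [act_mul, act_add, act_sub, act_smul, act_neg, La_e0, La_e1, La_f0, La_f1, La_U,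
    Lc_e0, Lc_e1, Lc_f0, Lc_f1, Lc_U]
  module

theorem Nb_e1 : act Q5 (Nb : ↥(Cfsg.isometryGroup F ⇑Q5)) (eM 1) = eM 0 := by
  unfold Nb
  simp only [act_mul, act_add, act_sub, act_smul, act_neg, La_e0, La_e1, La_f0, La_f1, La_U,
    Lc_e0, Lc_e1, Lc_f0, Lc_f1, Lc_U]
  module

theorem Nb_f0 : act Q5 (Nb : ↥(Cfsg.isometryGroup F ⇑Q5)) (fM 0) = -fM 1 := by
  unfold Nb
  simp only [act_mul, act_add, act_sub, act_smul, act_neg, La_e0, La_e1, La_f0, La_f1, La_U,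
    Lc_e0, Lc_e1, Lc_f0, Lc_f1, Lc_U]
  module

theorem Nb_f1 : act Q5 (Nb : ↥(Cfsg.isometryGroup F ⇑Q5)) (fM 1) = fM 0 := by
  unfold Nb
  simp only [act_mul, act_add, act_sub, act_smul, act_neg, La_e0, La_e1, La_f0, La_f1, La_U,
    Lc_e0, Lc_e1, Lc_f0, Lc_f1, Lc_U]
  module

theorem Nb_U : act Q5 (Nb : ↥(Cfsg.isometryGroup F ⇑Q5)) Uv = Uv := by
  unfold Nb
  simp only [act_mul, La_U, Lc_U]

/-- the Coxeter-type element -/
noncomputable def ncox : ↥(Cfsg.isometryGroup F ⇑(QM 2 (sqQF (F := F)))) :=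
  Nb * Ns 1 1

theorem ncox_e1 : act Q5 (ncox : ↥(Cfsg.isometryGroup F ⇑Q5)) (eM 1) = -fM 0 := by
  unfold ncox
  rw [act_mul, Ns_e 1 one_ne_zero, act_smul, Nb_f1]
  simp

theorem ncox_f1 : act Q5 (ncox : ↥(Cfsg.isometryGroup F ⇑Q5)) (fM 1) = -eM 0 := by
  unfold ncox
  rw [act_mul, Ns_f 1 one_ne_zero, act_smul, Nb_e1]
  simp

theorem ncox_e0 : act Q5 (ncox : ↥(Cfsg.isometryGroup F ⇑Q5)) (eM 0) = -eM 1 := by
  unfold ncox
  rw [act_mul, Ns_e_ne h01, Nb_e0]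

theorem ncox_f0 : act Q5 (ncox : ↥(Cfsg.isometryGroup F ⇑Q5)) (fM 0) = -fM 1 := by
  unfold ncox
  rw [act_mul, Ns_f_ne h01, Nb_f0]

theorem ncox_U : act Q5 (ncox : ↥(Cfsg.isometryGroup F ⇑Q5)) Uv = -Uv := by
  unfold ncox
  rw [act_mul, Ns_U 1 one_ne_zero, act_neg, Nb_U]

theorem ncox_mem_omega (h2 : (2 : F) ≠ 0) :
    (ncox : ↥(Cfsg.isometryGroup F ⇑Q5)) ∈ Cfsg.Omega F ⇑(QM 2 (sqQF (F := F))) :=
  Subgroup.mul_mem _ (Subgroup.mul_mem _ (Subgroup.mul_mem _ (La_mem_omega h2 1)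
    (Lc_mem_omega h2 (-1))) (La_mem_omega h2 1)) (Ns_mem_omega h2 1 1)

/-! ### conjugation formulas -/

theorem ncox_conj_X1 (t : F) : ncox * Xs 1 t * ncox⁻¹ = Ys 0 t := by
  have h0 : QuadraticMap.polar (⇑Q5) (fM 0) (t • Uv) = 0 := by
    rw [polar_smul_right', polar_fM_Uv, mul_zero]
  rw [Xs_eq, Ys_eq, conj_Tl _ _ (Q_eM _ 1) (by rw [polar_smul_right', polar_eM_Uv, mul_zero]),
    ncox_e1, act_smul, ncox_U, smul_neg, Tl_neg_neg _ (Q_fM _ 0) h0]

theorem ncox_conj_Y0 (t : F) : ncox * Ys 0 t * ncox⁻¹ = Ys 1 t := by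
  have h0 : QuadraticMap.polar (⇑Q5) (fM 1) (t • Uv) = 0 := by
    rw [polar_smul_right', polar_fM_Uv, mul_zero]
  rw [Ys_eq, Ys_eq, conj_Tl _ _ (Q_fM _ 0) (by rw [polar_smul_right', polar_fM_Uv, mul_zero]),
    ncox_f0, act_smul, ncox_U, smul_neg, Tl_neg_neg _ (Q_fM _ 1) h0]

theorem ncox_conj_Y1 (t : F) : ncox * Ys 1 t * ncox⁻¹ = Xs 0 t := by
  have h0 : QuadraticMap.polar (⇑Q5) (eM 0) (t • Uv) = 0 := by
    rw [polar_smul_right', polar_eM_Uv, mul_zero]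
  rw [Ys_eq, Xs_eq, conj_Tl _ _ (Q_fM _ 1) (by rw [polar_smul_right', polar_fM_Uv, mul_zero]),
    ncox_f1, act_smul, ncox_U, smul_neg, Tl_neg_neg _ (Q_eM _ 0) h0]

theorem ncox_conj_X0 (t : F) : ncox * Xs 0 t * ncox⁻¹ = Xs 1 t := by
  have h0 : QuadraticMap.polar (⇑Q5) (eM 1) (t • Uv) = 0 := by
    rw [polar_smul_right', polar_eM_Uv, mul_zero]
  rw [Xs_eq, Xs_eq, conj_Tl _ _ (Q_eM _ 0) (by rw [polar_smul_right', polar_eM_Uv, mul_zero]),
    ncox_e0, act_smul, ncox_U, smul_neg, Tl_neg_neg _ (Q_eM _ 1) h0]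

theorem Ts_conj_X0 {c : F} (hc : c ≠ 0) (t : F) :
    Ts 0 c * Xs 0 t * (Ts 0 c)⁻¹ = (Xs 0 (c * c * t) : ↥(Cfsg.isometryGroup F ⇑Q5)) := by
  have h0 : QuadraticMap.polar (⇑Q5) (eM 0) (t • Uv) = 0 := by
    rw [polar_smul_right', polar_eM_Uv, mul_zero]
  rw [Xs_eq, Xs_eq, conj_Tl _ _ (Q_eM _ 0) h0, Ts_e 0 hc, act_smul, Ts_U 0 hc,
    Tl_smul_left _ (c * c) (Q_eM _ 0) h0, smul_smul]

theorem Ts_pow [Fintype F] {c : F} (hc : c ≠ 0) :
    (Ts 0 c : ↥(Cfsg.isometryGroup F ⇑Q5)) ^ (Fintype.card F - 1) = 1 := by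
  have hcc : (c * c) ^ (Fintype.card F - 1) = 1 :=
    FiniteField.pow_card_sub_one_eq_one _ (mul_ne_zero hc hc)
  have hcc' : (c⁻¹ * c⁻¹) ^ (Fintype.card F - 1) = 1 :=
    FiniteField.pow_card_sub_one_eq_one _ (mul_ne_zero (inv_ne_zero hc) (inv_ne_zero hc))
  apply eq_one_of_fix_all
  · intro j
    fin_cases j
    · have := act_pow_eigen Q5 (Ts 0 c) (eM 0) _ (Ts_e 0 hc) (Fintype.card F - 1)
      rw [hcc, one_smul] at this
      exact this
    · exact act_pow_fix _ _ _ (Ts_e_ne h10 c) _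
  · intro j
    fin_cases j
    · have := act_pow_eigen Q5 (Ts 0 c) (fM 0) _ (Ts_f 0 hc) (Fintype.card F - 1)
      rw [hcc', one_smul] at this
      exact this
    · exact act_pow_fix _ _ _ (Ts_f_ne h10 c) _
  · intro w
    rw [ιR_eq_smul_Uv, act_smul, act_pow_fix _ _ _ (Ts_U 0 hc) _]

/-- `Ω₅(q)`, `q` odd, is generated by two elements -/
theorem two_gen_odd_two [Fintype F] (h2 : (2 : F) ≠ 0) :
    ∃ A B : ↥(Cfsg.isometryGroup F ⇑(QM 2 (sqQF (F := F)))),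
      A ∈ Cfsg.Omega F ⇑(QM 2 (sqQF (F := F))) ∧
      B ∈ Cfsg.Omega F ⇑(QM 2 (sqQF (F := F))) ∧
      Cfsg.Omega F ⇑(QM 2 (sqQF (F := F))) ≤ Subgroup.closure {A, B} := by
  classical
  obtain ⟨κ, hκ⟩ := IsCyclic.exists_generator (α := Fˣ)
  obtain ⟨p, hpp, hp0, hcop⟩ := char_facts (F := F)
  have hκ0 : (κ : F) ≠ 0 := κ.ne_zero
  set T : ↥(Cfsg.isometryGroup F ⇑Q5) := Ts 0 (κ : F) with hT
  set x : ↥(Cfsg.isometryGroup F ⇑Q5) := Xs 1 1 with hx
  have hcomm : Commute T x := by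
    rw [hx, Xs_eq]
    exact commute_Tl_of_fix _ T (Q_eM _ 1) (by rw [polar_smul_right', polar_eM_Uv, mul_zero])
      (Ts_e_ne h10 _) (by rw [act_smul, Ts_U 0 hκ0])
  have hmem := mem_zpowers_mul_of_coprime T x hcomm _ _ (Ts_pow hκ0) (Xs_pow 1 1 p hp0) hcop
  refine ⟨ncox, T * x, ncox_mem_omega h2,
    Subgroup.mul_mem _ (Ts_mem_omega h2 0 _) (Xs_mem_omega h2 1 1), ?_⟩
  set H := Subgroup.closure ({ncox, T * x} : Set ↥(Cfsg.isometryGroup F ⇑Q5)) with hH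
  have hnH : ncox ∈ H := Subgroup.subset_closure (by simp)
  have hBH : T * x ∈ H := Subgroup.subset_closure (by simp)
  have hzp : Subgroup.zpowers (T * x) ≤ H := by
    rw [Subgroup.zpowers_le]; exact hBH
  have hTH : T ∈ H := hzp hmem.1
  have hxH : x ∈ H := hzp hmem.2
  have hconj : ∀ g : ↥(Cfsg.isometryGroup F ⇑Q5), g ∈ H → ncox * g * ncox⁻¹ ∈ H :=
    fun g hg => H.mul_mem (H.mul_mem hnH hg) (H.inv_mem hnH)
  -- the four short root elements with parameter one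
  have hY0 : ∀ t : F, Xs 1 t ∈ H → Ys 0 t ∈ H := fun t ht => by
    rw [← ncox_conj_X1]; exact hconj _ ht
  have hY1 : ∀ t : F, Ys 0 t ∈ H → Ys 1 t ∈ H := fun t ht => by
    rw [← ncox_conj_Y0]; exact hconj _ ht
  have hX0 : ∀ t : F, Ys 1 t ∈ H → Xs 0 t ∈ H := fun t ht => by
    rw [← ncox_conj_Y1]; exact hconj _ ht
  have hX1 : ∀ t : F, Xs 0 t ∈ H → Xs 1 t ∈ H := fun t ht => by
    rw [← ncox_conj_X0]; exact hconj _ ht
  have h1 : Xs 0 (1 : F) ∈ H := hX0 1 (hY1 1 (hY0 1 hxH))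
  -- the additive group of parameters
  let S : AddSubgroup F :=
    { carrier := {t | Xs 0 t ∈ H}
      add_mem' := by
        intro s t hs ht
        show Xs 0 (s + t) ∈ H
        rw [← Xs_add]
        exact H.mul_mem hs ht
      zero_mem' := by
        show Xs 0 (0 : F) ∈ H
        rw [Xs_zero]
        exact H.one_mem
      neg_mem' := by
        intro t ht
        show Xs 0 (-t) ∈ H
        rw [← Xs_inv]
        exact H.inv_mem ht }
  have hS : ∀ t : F, t ∈ S ↔ Xs 0 t ∈ H := fun t => Iff.rfl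
  have hstep : ∀ t : F, t ∈ S → (κ : F) * (κ : F) * t ∈ S := by
    intro t ht
    rw [hS, ← Ts_conj_X0 hκ0]
    exact H.mul_mem (H.mul_mem hTH ht) (H.inv_mem hTH)
  have hpow : ∀ n : ℕ, ((κ : F) ^ n) * ((κ : F) ^ n) ∈ S := by
    intro n
    induction n with
    | zero => rw [pow_zero, one_mul]; exact h1
    | succ m ih =>
      have := hstep _ ih
      have e : (κ : F) * (κ : F) * ((κ : F) ^ m * (κ : F) ^ m) =
          (κ : F) ^ (m + 1) * (κ : F) ^ (m + 1) := by ring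
      rwa [e] at this
  have hsq : ∀ y : F, y * y ∈ S := by
    intro y
    by_cases hy : y = 0
    · rw [hy, mul_zero]; exact S.zero_mem
    · have hu : Units.mk0 y hy ∈ Submonoid.powers κ :=
        mem_powers_iff_mem_zpowers.mpr (hκ _)
      obtain ⟨n, hn⟩ := hu
      have hy' : y = (κ : F) ^ n := by
        have := congrArg (fun u : Fˣ => (u : F)) hn
        simpa using this.symm
      rw [hy']
      exact hpow n
  have hall : ∀ t : F, t ∈ S := by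
    intro t
    have e : t = ((t + 1) / 2) * ((t + 1) / 2) - ((t - 1) / 2) * ((t - 1) / 2) := by
      field_simp
      ring
    rw [e]
    exact S.sub_mem (hsq _) (hsq _)
  have hX0' : ∀ t : F, Xs 0 t ∈ H := fun t => (hS t).1 (hall t)
  have hX1' : ∀ t : F, Xs 1 t ∈ H := fun t => hX1 t (hX0' t)
  have hY0' : ∀ t : F, Ys 0 t ∈ H := fun t => hY0 t (hX1' t)
  have hY1' : ∀ t : F, Ys 1 t ∈ H := fun t => hY1 t (hY0' t)
  apply omega_le_of_short h2 (le_refl 2) H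
  · intro j t
    fin_cases j
    · exact hX0' t
    · exact hX1' t
  · intro j t
    fin_cases j
    · exact hY0' t
    · exact hY1' t

end Cfsg.Agent.Lib.H4.OG
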