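import Cfsg.Agent.Lib.H4.OG.OddBase

/-!
# Short root elements of `O(H^k ⊥ ⟨1⟩)` in odd characteristic (helper4)

The elements `Xs j t = T_{e_j, t u}`, `Ys j t = T_{f_j, t u}` (`u` the anisotropic unit vector),
their membership in `Ω` (valid in every dimension), the Weyl-type elements `Ns j t`, and the
theorem that the short root elements generate (a group containing) `Ω`.
-/

set_option autoImplicit false
set_option linter.unusedSectionVars false
set_option linter.unusedSimpArgs false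

namespace Cfsg.Agent.Lib.H4.OG

open Matrix Cfsg.Agent.Lib.H13 Cfsg.Agent.Lib.H13.PlusLevi Cfsg.Agent.Lib.H13.OrthSum
open scoped commutatorElement

variable {F : Type*} [Field F] {k : ℕ}

/-- the anisotropic unit vector -/
def Uv : K k ⊕ Unit → F := ιR u0

theorem ιR_eq_smul_Uv (w : Unit → F) : (ιR w : K k ⊕ Unit → F) = w () • Uv := by
  unfold Uv
  rw [← ιR_smul, ← eq_smul_u0]

theorem Q_Uv : QM k (sqQF (F := F)) Uv = 1 := by
  unfold Uv
  rw [Q_ιR, sqQF_u0]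

theorem polar_eM_Uv (i : Fin k) :
    QuadraticMap.polar (⇑(QM k (sqQF (F := F)))) (eM i) Uv = 0 := polar_eM_ιR _ i u0

theorem polar_fM_Uv (i : Fin k) :
    QuadraticMap.polar (⇑(QM k (sqQF (F := F)))) (fM i) Uv = 0 := polar_fM_ιR _ i u0

/-- the short root elements -/
noncomputable def Xs (j : Fin k) (t : F) : ↥(Cfsg.isometryGroup F ⇑(QM k (sqQF (F := F)))) :=
  Xel sqQF j (t • u0)

noncomputable def Ys (j : Fin k) (t : F) : ↥(Cfsg.isometryGroup F ⇑(QM k (sqQF (F := F)))) :=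
  Yel sqQF j (t • u0)

theorem Xs_eq (j : Fin k) (t : F) : Xs j t = Tl (QM k (sqQF (F := F))) (eM j) (t • Uv) := by
  unfold Xs Xel Uv
  rw [ιR_smul]

theorem Ys_eq (j : Fin k) (t : F) : Ys j t = Tl (QM k (sqQF (F := F))) (fM j) (t • Uv) := by
  unfold Ys Yel Uv
  rw [ιR_smul]

theorem Xs_e (j i : Fin k) (t : F) : act (QM k sqQF) (Xs j t) (eM i) = eM i := Xel_e _ j i _

theorem Xs_f_ne {j i : Fin k} (hij : i ≠ j) (t : F) :
    act (QM k sqQF) (Xs j t) (fM i) = fM i := Xel_f_ne _ hij _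

theorem Xs_f (j : Fin k) (t : F) :
    act (QM k sqQF) (Xs j t) (fM j) = fM j - t • Uv - (t * t) • eM j := by
  unfold Xs Uv
  rw [Xel_f, sqQF_smul_u0, ιR_smul]

theorem Xs_U (j : Fin k) (t : F) :
    act (QM k sqQF) (Xs j t) Uv = Uv + (2 * t) • eM j := by
  unfold Xs Uv
  rw [Xel_r]
  have : QuadraticMap.polar (⇑(sqQF (F := F))) (t • u0) u0 = 2 * t := by
    have := polar_u0 t (1 : F)
    rwa [one_smul, mul_one] at this
  rw [this]

theorem Ys_f (j i : Fin k) (t : F) : act (QM k sqQF) (Ys j t) (fM i) = fM i := Yel_f _ j i _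

theorem Ys_e_ne {j i : Fin k} (hij : i ≠ j) (t : F) :
    act (QM k sqQF) (Ys j t) (eM i) = eM i := Yel_e_ne _ hij _

theorem Ys_e (j : Fin k) (t : F) :
    act (QM k sqQF) (Ys j t) (eM j) = eM j - t • Uv - (t * t) • fM j := by
  unfold Ys Uv
  rw [Yel_e, sqQF_smul_u0, ιR_smul]

theorem Ys_U (j : Fin k) (t : F) :
    act (QM k sqQF) (Ys j t) Uv = Uv + (2 * t) • fM j := by
  unfold Ys Uv
  rw [Yel_r]
  have : QuadraticMap.polar (⇑(sqQF (F := F))) (t • u0) u0 = 2 * t := by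
    have := polar_u0 t (1 : F)
    rwa [one_smul, mul_one] at this
  rw [this]

theorem Xs_add (j : Fin k) (s t : F) : Xs j s * Xs j t = Xs j (s + t) := by
  rw [Xs_eq, Xs_eq, Xs_eq, Tl_mul _ (Q_eM _ j) (by rw [polar_smul_right', polar_eM_Uv, mul_zero])
    (by rw [polar_smul_right', polar_eM_Uv, mul_zero]), add_smul]

theorem Xs_inv (j : Fin k) (t : F) : (Xs j t)⁻¹ = Xs j (-t) := by
  rw [Xs_eq, Xs_eq, Tl_inv _ (Q_eM _ j) (by rw [polar_smul_right', polar_eM_Uv, mul_zero]),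
    neg_smul]

theorem Xs_zero (j : Fin k) : Xs j (0 : F) = 1 := by
  rw [Xs_eq, zero_smul, Tl_zero _ (Q_eM _ j)]

theorem Ys_add (j : Fin k) (s t : F) : Ys j s * Ys j t = Ys j (s + t) := by
  rw [Ys_eq, Ys_eq, Ys_eq, Tl_mul _ (Q_fM _ j) (by rw [polar_smul_right', polar_fM_Uv, mul_zero])
    (by rw [polar_smul_right', polar_fM_Uv, mul_zero]), add_smul]

theorem Ys_inv (j : Fin k) (t : F) : (Ys j t)⁻¹ = Ys j (-t) := by
  rw [Ys_eq, Ys_eq, Tl_inv _ (Q_fM _ j) (by rw [polar_smul_right', polar_fM_Uv, mul_zero]),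
    neg_smul]

theorem Xs_pow (j : Fin k) (t : F) (p : ℕ) (hp : ((p : ℕ) : F) = 0) : Xs j t ^ p = 1 := by
  rw [Xs_eq, Tl_pow _ (Q_eM _ j) (by rw [polar_smul_right', polar_eM_Uv, mul_zero]), hp, zero_smul,
    Tl_zero _ (Q_eM _ j)]

/-! ### the isometry negating the hyperbolic part -/

/-- the linear equivalence negating the hyperbolic part -/
noncomputable def negLin : (K k ⊕ Unit → F) ≃ₗ[F] (K k ⊕ Unit → F) :=
  LinearEquiv.piCongrRight (fun s : K k ⊕ Unit =>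
    Sum.elim (fun _ => LinearEquiv.neg F) (fun _ => LinearEquiv.refl F F) s)

theorem negLin_inl (x : K k ⊕ Unit → F) (s : K k) : negLin x (Sum.inl s) = -x (Sum.inl s) := rfl

theorem negLin_inr (x : K k ⊕ Unit → F) (s : Unit) : negLin x (Sum.inr s) = x (Sum.inr s) := rfl

theorem negLin_Q (x : K k ⊕ Unit → F) : QM k (sqQF (F := F)) (negLin x) = QM k sqQF x := by
  rw [QM_apply, QM_apply]
  have h1 : (negLin x) ∘ Sum.inl = -(x ∘ Sum.inl) := by
    funext s; rfl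
  have h2 : (negLin x) ∘ Sum.inr = x ∘ Sum.inr := by
    funext s; rfl
  rw [h1, h2, QuadraticMap.map_neg]

/-- the isometry negating the hyperbolic part -/
noncomputable def hneg : ↥(Cfsg.isometryGroup F ⇑(QM k (sqQF (F := F)))) :=
  ofEquiv _ negLin negLin_Q

theorem hneg_eM (j : Fin k) : act (QM k (sqQF (F := F))) hneg (eM j) = -eM j := by
  unfold hneg
  rw [act_ofEquiv]
  funext s
  rcases s with s | s
  · rw [negLin_inl]; rfl
  · rw [negLin_inr]; simp [eM, ιL]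

theorem hneg_fM (j : Fin k) : act (QM k (sqQF (F := F))) hneg (fM j) = -fM j := by
  unfold hneg
  rw [act_ofEquiv]
  funext s
  rcases s with s | s
  · rw [negLin_inl]; rfl
  · rw [negLin_inr]; simp [fM, ιL]

theorem hneg_Uv : act (QM k (sqQF (F := F))) hneg (Uv : K k ⊕ Unit → F) = Uv := by
  unfold hneg
  rw [act_ofEquiv]
  funext s
  rcases s with s | s
  · rw [negLin_inl]; simp [Uv, ιR]
  · rw [negLin_inr]

theorem commutatorElement_mem_omega {G : Type*} [Group G] (g h : G) :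
    ⁅g, h⁆ ∈ commutator G := by
  rw [commutator_def]
  exact Subgroup.commutator_mem_commutator (Subgroup.mem_top g) (Subgroup.mem_top h)

theorem hneg_conj_Xs (j : Fin k) (r : F) :
    hneg * Xs j r * hneg⁻¹ = Xs j (-r) := by
  rw [Xs_eq, Xs_eq, conj_Tl _ hneg (Q_eM _ j) (by rw [polar_smul_right', polar_eM_Uv, mul_zero]),
    hneg_eM, act_smul, hneg_Uv, ← neg_one_smul F (eM j),
    Tl_smul_left _ (-1 : F) (Q_eM _ j) (by rw [polar_smul_right', polar_eM_Uv, mul_zero]),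
    smul_smul]
  congr 2
  ring

theorem hneg_conj_Ys (j : Fin k) (r : F) :
    hneg * Ys j r * hneg⁻¹ = Ys j (-r) := by
  rw [Ys_eq, Ys_eq, conj_Tl _ hneg (Q_fM _ j) (by rw [polar_smul_right', polar_fM_Uv, mul_zero]),
    hneg_fM, act_smul, hneg_Uv, ← neg_one_smul F (fM j),
    Tl_smul_left _ (-1 : F) (Q_fM _ j) (by rw [polar_smul_right', polar_fM_Uv, mul_zero]),
    smul_smul]
  congr 2
  ring

/-- short root elements lie in `Ω` (odd characteristic, any dimension) -/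
theorem Xs_mem_omega (h2 : (2 : F) ≠ 0) (j : Fin k) (t : F) :
    Xs j t ∈ Cfsg.Omega F ⇑(QM k (sqQF (F := F))) := by
  have h : ⁅(hneg : ↥(Cfsg.isometryGroup F ⇑(QM k (sqQF (F := F))))), Xs j (-t / 2)⁆ = Xs j t := by
    rw [commutatorElement_def, hneg_conj_Xs, Xs_inv, Xs_add]
    congr 1
    field_simp
    ring
  rw [← h]
  exact commutatorElement_mem_omega _ _

theorem Ys_mem_omega (h2 : (2 : F) ≠ 0) (j : Fin k) (t : F) :
    Ys j t ∈ Cfsg.Omega F ⇑(QM k (sqQF (F := F))) := by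
  have h : ⁅(hneg : ↥(Cfsg.isometryGroup F ⇑(QM k (sqQF (F := F))))), Ys j (-t / 2)⁆ = Ys j t := by
    rw [commutatorElement_def, hneg_conj_Ys, Ys_inv, Ys_add]
    congr 1
    field_simp
    ring
  rw [← h]
  exact commutatorElement_mem_omega _ _

/-! ### the Weyl-type elements -/

theorem XYX_e (j : Fin k) (s t : F) :
    act (QM k sqQF) (Xs j t * Ys j s * Xs j t) (eM j) =
      ((1 - s * t) ^ 2) • eM j + (-(s * s)) • fM j + (-s * (1 - s * t)) • Uv := by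
  simp only [act_mul, act_add, act_sub, act_smul, Xs_e, Xs_f, Xs_U, Ys_e, Ys_f, Ys_U]
  module

theorem XYX_f (j : Fin k) (s t : F) :
    act (QM k sqQF) (Xs j t * Ys j s * Xs j t) (fM j) =
      ((1 - s * t) ^ 2) • fM j + (-t * (1 - s * t) ^ 2 - t * (1 - s * t)) • Uv +
        (-t ^ 2 * (1 - s * t) ^ 2 - 2 * t ^ 2 * (1 - s * t) - t ^ 2) • eM j := by
  simp only [act_mul, act_add, act_sub, act_smul, Xs_e, Xs_f, Xs_U, Ys_e, Ys_f, Ys_U]
  module

theorem XYX_U (j : Fin k) (s t : F) :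
    act (QM k sqQF) (Xs j t * Ys j s * Xs j t) Uv =
      ((1 - 2 * s * t) - t * (2 * s - 2 * t * s ^ 2)) • Uv +
        (2 * t * (1 - 2 * s * t) + 2 * t - t ^ 2 * (2 * s - 2 * t * s ^ 2)) • eM j +
        (2 * s - 2 * t * s ^ 2) • fM j := by
  simp only [act_mul, act_add, act_sub, act_smul, Xs_e, Xs_f, Xs_U, Ys_e, Ys_f, Ys_U]
  module

/-- the Weyl-type element attached to the short root `e_j` -/
noncomputable def Ns (j : Fin k) (t : F) : ↥(Cfsg.isometryGroup F ⇑(QM k (sqQF (F := F)))) :=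
  Xs j t * Ys j t⁻¹ * Xs j t

theorem Ns_e (j : Fin k) {t : F} (ht : t ≠ 0) :
    act (QM k sqQF) (Ns j t) (eM j) = (-(t⁻¹ * t⁻¹)) • fM j := by
  unfold Ns
  rw [XYX_e, inv_mul_cancel₀ ht]
  simp

theorem Ns_f (j : Fin k) {t : F} (ht : t ≠ 0) :
    act (QM k sqQF) (Ns j t) (fM j) = (-(t * t)) • eM j := by
  unfold Ns
  rw [XYX_f, inv_mul_cancel₀ ht]
  simp
  ring_nf

theorem Ns_U (j : Fin k) {t : F} (ht : t ≠ 0) :
    act (QM k sqQF) (Ns j t) Uv = -Uv := by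
  unfold Ns
  rw [XYX_U]
  have e1 : (1 - 2 * t⁻¹ * t) - t * (2 * t⁻¹ - 2 * t * t⁻¹ ^ 2) = -1 := by
    field_simp
    ring
  have e2 : 2 * t * (1 - 2 * t⁻¹ * t) + 2 * t - t ^ 2 * (2 * t⁻¹ - 2 * t * t⁻¹ ^ 2) = 0 := by
    field_simp
    ring
  have e3 : 2 * t⁻¹ - 2 * t * t⁻¹ ^ 2 = 0 := by
    field_simp
    ring
  rw [e1, e2, e3]
  simp

theorem Ns_e_ne {j i : Fin k} (hij : i ≠ j) (t : F) :
    act (QM k sqQF) (Ns j t) (eM i) = eM i := by
  unfold Ns
  rw [act_mul, act_mul, Xs_e, Ys_e_ne hij, Xs_e]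

theorem Ns_f_ne {j i : Fin k} (hij : i ≠ j) (t : F) :
    act (QM k sqQF) (Ns j t) (fM i) = fM i := by
  unfold Ns
  rw [act_mul, act_mul, Xs_f_ne hij, Ys_f, Xs_f_ne hij]

theorem Ns_mem_omega (h2 : (2 : F) ≠ 0) (j : Fin k) (t : F) :
    Ns j t ∈ Cfsg.Omega F ⇑(QM k (sqQF (F := F))) :=
  Subgroup.mul_mem _ (Subgroup.mul_mem _ (Xs_mem_omega h2 j t) (Ys_mem_omega h2 j _))
    (Xs_mem_omega h2 j t)

/-- the torus element scaling `e_j` by `t²` -/
noncomputable def Ts (j : Fin k) (t : F) : ↥(Cfsg.isometryGroup F ⇑(QM k (sqQF (F := F)))) :=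
  Ns j t * Ns j 1

theorem Ts_e (j : Fin k) {t : F} (ht : t ≠ 0) :
    act (QM k sqQF) (Ts j t) (eM j) = (t * t) • eM j := by
  unfold Ts
  rw [act_mul, Ns_e j one_ne_zero, act_smul, Ns_f j ht, smul_smul]
  congr 1
  simp

theorem Ts_f (j : Fin k) {t : F} (ht : t ≠ 0) :
    act (QM k sqQF) (Ts j t) (fM j) = (t⁻¹ * t⁻¹) • fM j := by
  unfold Ts
  rw [act_mul, Ns_f j one_ne_zero, act_smul, Ns_e j ht, smul_smul]
  congr 1
  simp

theorem Ts_U (j : Fin k) {t : F} (ht : t ≠ 0) :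
    act (QM k sqQF) (Ts j t) Uv = Uv := by
  unfold Ts
  rw [act_mul, Ns_U j one_ne_zero, act_neg, Ns_U j ht, neg_neg]

theorem Ts_e_ne {j i : Fin k} (hij : i ≠ j) (t : F) :
    act (QM k sqQF) (Ts j t) (eM i) = eM i := by
  unfold Ts
  rw [act_mul, Ns_e_ne hij, Ns_e_ne hij]

theorem Ts_f_ne {j i : Fin k} (hij : i ≠ j) (t : F) :
    act (QM k sqQF) (Ts j t) (fM i) = fM i := by
  unfold Ts
  rw [act_mul, Ns_f_ne hij, Ns_f_ne hij]

theorem Ts_mem_omega (h2 : (2 : F) ≠ 0) (j : Fin k) (t : F) :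
    Ts j t ∈ Cfsg.Omega F ⇑(QM k (sqQF (F := F))) :=
  Subgroup.mul_mem _ (Ns_mem_omega h2 j t) (Ns_mem_omega h2 j 1)

/-! ### the short root elements generate -/

theorem omega_le_of_short [Fintype F] (h2 : (2 : F) ≠ 0) (hk : 2 ≤ k)
    (H : Subgroup ↥(Cfsg.isometryGroup F ⇑(QM k (sqQF (F := F)))))
    (hX : ∀ (j : Fin k) (t : F), Xs j t ∈ H) (hY : ∀ (j : Fin k) (t : F), Ys j t ∈ H) :
    commutator ↥(Cfsg.isometryGroup F ⇑(QM k (sqQF (F := F)))) ≤ H := by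
  have hfr := frameM (F := F) (k := k) (sqQF (F := F))
  have hnd := nondeg_QM_sq (F := F) h2 k
  obtain ⟨a, -⟩ : ∃ a : Fin k, a.val = 0 := ⟨⟨0, by omega⟩, rfl⟩
  -- the `e`-side
  have hUe : (Uv : K k ⊕ Unit → F) ∈ rootSub (QM k sqQF) H (eM a) (hfr.Qe a) := by
    refine ⟨polar_eM_Uv a, fun t => ?_⟩
    rw [← Xs_eq]
    exact hX a t
  have hEe : ∀ j, j ≠ a → (eM j : K k ⊕ Unit → F) ∈ rootSub (QM k sqQF) H (eM a) (hfr.Qe a) := by
    intro j hj
    have h1 := rootSub_act _ H _ (hfr.Qe a) (Xs j 1) (hX j 1) (Xs_e j a 1) _ hUe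
    rw [Xs_U] at h1
    have h3 := Submodule.sub_mem _ h1 hUe
    rw [add_sub_cancel_left] at h3
    have h4 := Submodule.smul_mem _ (2 * 1 : F)⁻¹ h3
    rwa [smul_smul, inv_mul_cancel₀ (by simpa using h2), one_smul] at h4
  have hEf : ∀ j, j ≠ a → (fM j : K k ⊕ Unit → F) ∈ rootSub (QM k sqQF) H (eM a) (hfr.Qe a) := by
    intro j hj
    have h1 := rootSub_act _ H _ (hfr.Qe a) (Ys j 1) (hY j 1) (Ys_e_ne (Ne.symm hj) 1) _ hUe
    rw [Ys_U] at h1
    have h3 := Submodule.sub_mem _ h1 hUe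
    rw [add_sub_cancel_left] at h3
    have h4 := Submodule.smul_mem _ (2 * 1 : F)⁻¹ h3
    rwa [smul_smul, inv_mul_cancel₀ (by simpa using h2), one_smul] at h4
  have hER : ∀ w : Unit → F,
      (ιR w : K k ⊕ Unit → F) ∈ rootSub (QM k sqQF) H (eM a) (hfr.Qe a) := by
    intro w
    rw [ιR_eq_smul_Uv]
    exact Submodule.smul_mem _ _ hUe
  -- the `f`-side
  have hUf : (Uv : K k ⊕ Unit → F) ∈ rootSub (QM k sqQF) H (fM a) (hfr.Qf a) := by
    refine ⟨polar_fM_Uv a, fun t => ?_⟩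
    rw [← Ys_eq]
    exact hY a t
  have hFe : ∀ j, j ≠ a → (eM j : K k ⊕ Unit → F) ∈ rootSub (QM k sqQF) H (fM a) (hfr.Qf a) := by
    intro j hj
    have h1 := rootSub_act _ H _ (hfr.Qf a) (Xs j 1) (hX j 1) (Xs_f_ne (Ne.symm hj) 1) _ hUf
    rw [Xs_U] at h1
    have h3 := Submodule.sub_mem _ h1 hUf
    rw [add_sub_cancel_left] at h3
    have h4 := Submodule.smul_mem _ (2 * 1 : F)⁻¹ h3
    rwa [smul_smul, inv_mul_cancel₀ (by simpa using h2), one_smul] at h4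
  have hFf : ∀ j, j ≠ a → (fM j : K k ⊕ Unit → F) ∈ rootSub (QM k sqQF) H (fM a) (hfr.Qf a) := by
    intro j hj
    have h1 := rootSub_act _ H _ (hfr.Qf a) (Ys j 1) (hY j 1) (Ys_f j a 1) _ hUf
    rw [Ys_U] at h1
    have h3 := Submodule.sub_mem _ h1 hUf
    rw [add_sub_cancel_left] at h3
    have h4 := Submodule.smul_mem _ (2 * 1 : F)⁻¹ h3
    rwa [smul_smul, inv_mul_cancel₀ (by simpa using h2), one_smul] at h4
  have hFR : ∀ w : Unit → F,
      (ιR w : K k ⊕ Unit → F) ∈ rootSub (QM k sqQF) H (fM a) (hfr.Qf a) := by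
    intro w
    rw [ιR_eq_smul_Uv]
    exact Submodule.smul_mem _ _ hUf
  -- the two root groups
  have hE : ∀ (v : K k ⊕ Unit → F) (h1 : QuadraticMap.polar (⇑(QM k sqQF)) (eM a) v = 0),
      QuadraticMap.polar (⇑(QM k (sqQF (F := F)))) (fM a) v = 0 →
      Tel (QM k sqQF) (eM a) v (Q_eM sqQF a) h1 ∈ H := by
    intro v h1 h2'
    rw [← Tl_eq]
    rw [polar_eM] at h1
    rw [polar_fM] at h2'
    exact Tl_mem_of_mem_rootSub _ H _ (hfr.Qe a) v (mem_of_frame_mem _ a hEe hEf hER v h2' h1)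
  have hF : ∀ (v : K k ⊕ Unit → F) (h1 : QuadraticMap.polar (⇑(QM k sqQF)) (fM a) v = 0),
      QuadraticMap.polar (⇑(QM k (sqQF (F := F)))) (eM a) v = 0 →
      Tel (QM k sqQF) (fM a) v (Q_fM sqQF a) h1 ∈ H := by
    intro v h1 h2'
    rw [← Tl_eq]
    rw [polar_fM] at h1
    rw [polar_eM] at h2'
    exact Tl_mem_of_mem_rootSub _ H _ (hfr.Qf a) v (mem_of_frame_mem _ a hFe hFf hFR v h1 h2')
  have hzne : QM k (sqQF (F := F)) Uv ≠ 0 := by
    rw [Q_Uv]; exact one_ne_zero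
  have hall := Tel_mem_of_rootGroups (QM k sqQF) (eM a) (fM a) H (Q_eM sqQF a) (Q_fM sqQF a)
    (hfr.ef_same a) hE hF Uv (polar_eM_Uv a) (polar_fM_Uv a) hzne hnd
  refine le_trans (commutator_le_closure_TelSet (QM k sqQF) hnd ?_) ?_
  · rw [Fintype.card_sum, Fintype.card_sum, Fintype.card_fin, Fintype.card_unit]
    omega
  · rw [Subgroup.closure_le]
    rintro g ⟨u, v, hu, huv, rfl⟩
    exact hall u v hu huv

end Cfsg.Agent.Lib.H4.OG
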