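import Cfsg.Agent.Lib.H4.OG.RootEl
import Cfsg.Agent.Lib.H13.PlusLevi

/-!
# The standard hyperbolic frame of the plus form, and the Levi root elements (helper4)
-/

set_option autoImplicit false
set_option linter.unusedSectionVars false

namespace Cfsg.Agent.Lib.H4.OG

open Matrix Cfsg.Agent.Lib.H13 Cfsg.Agent.Lib.H13.PlusLevi

variable {F : Type*} [Field F] {m : ℕ}

/-- the standard basis vector `e_i` -/
def eP (i : Fin m) : K m → F := Pi.single (Sum.inl i) 1

/-- the standard basis vector `f_i` -/
def fP (i : Fin m) : K m → F := Pi.single (Sum.inr i) 1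

theorem polar_plus (u v : K m → F) :
    QuadraticMap.polar (⇑(plusQF F m)) u v =
      ∑ i : Fin m, (u (.inl i) * v (.inr i) + v (.inl i) * u (.inr i)) := by
  rw [Cfsg.Agent.S0287.coe_plusQF]
  exact polar_quadFormPlus_formula m u v

theorem polar_eP (i : Fin m) (x : K m → F) :
    QuadraticMap.polar (⇑(plusQF F m)) (eP i) x = x (Sum.inr i) := by
  rw [polar_plus, Finset.sum_eq_single i]
  · simp [eP]
  · intro b _ hb
    simp [eP, hb]
  · intro h; exact absurd (Finset.mem_univ i) h

theorem polar_fP (i : Fin m) (x : K m → F) :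
    QuadraticMap.polar (⇑(plusQF F m)) (fP i) x = x (Sum.inl i) := by
  rw [polar_plus, Finset.sum_eq_single i]
  · simp [fP]
  · intro b _ hb
    simp [fP, hb]
  · intro h; exact absurd (Finset.mem_univ i) h

theorem Q_eP (i : Fin m) : plusQF F m (eP i) = 0 := by
  rw [plusQF_apply]
  unfold Cfsg.quadFormPlus
  apply Finset.sum_eq_zero
  intro j _
  simp [eP]

theorem Q_fP (i : Fin m) : plusQF F m (fP i) = 0 := by
  rw [plusQF_apply]
  unfold Cfsg.quadFormPlus
  apply Finset.sum_eq_zero
  intro j _
  simp [fP]

/-- the standard frame -/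
theorem frameP : Frame (plusQF F m) (eP (F := F) (m := m)) fP where
  Qe := Q_eP
  Qf := Q_fP
  ef_same i := by rw [polar_eP]; simp [fP]
  ef_ne i j hij := by rw [polar_eP]; simp [fP, hij]
  ee i j := by rw [polar_eP]; simp [eP]
  ff i j := by rw [polar_fP]; simp [fP]

/-- the action of a Levi element -/
theorem act_levi (A : GL (Fin m) F) (x : K m → F) :
    act (plusQF F m) (levi A) x =
      Sum.elim ((A : Matrix (Fin m) (Fin m) F) *ᵥ (x ∘ Sum.inl))
        (((A⁻¹ : GL (Fin m) F) : Matrix (Fin m) (Fin m) F)ᵀ *ᵥ (x ∘ Sum.inr)) := by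
  unfold act
  rw [levi_val, leviM, fromBlocks_mulVec]
  simp

/-- inverse of an elementary transvection -/
theorem transvection_inv {i j : Fin m} (hij : i ≠ j) (t : F) :
    (Matrix.SpecialLinearGroup.transvection hij t)⁻¹ =
      Matrix.SpecialLinearGroup.transvection hij (-t) := by
  rw [inv_eq_iff_mul_eq_one]
  apply Subtype.ext
  show Matrix.transvection i j t * Matrix.transvection i j (-t) = 1
  rw [Matrix.transvection_mul_transvection_same i j hij, add_neg_cancel, Matrix.transvection_zero]

/-- the Levi image of an elementary transvection is a root element -/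
theorem levi_transvection {i j : Fin m} (hij : i ≠ j) (t : F) :
    levi (Matrix.SpecialLinearGroup.toGL (Matrix.SpecialLinearGroup.transvection hij t)) =
      Tl (plusQF F m) (eP i) (t • fP j) := by
  have hfr := frameP (F := F) (m := m)
  apply act_ext
  intro x
  have h1 : QuadraticMap.polar (⇑(plusQF F m)) (eP i) (t • fP j) = 0 := by
    rw [polar_smul_right', hfr.ef_ne i j hij, mul_zero]
  rw [act_Tl_of_sing _ (hfr.Qe i) h1 (by rw [Q_smul', hfr.Qf, mul_zero]), polar_smul_left',
    polar_fP, polar_eP, act_levi]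
  have h2 : ((Matrix.SpecialLinearGroup.toGL (Matrix.SpecialLinearGroup.transvection hij t) :
      GL (Fin m) F) : Matrix (Fin m) (Fin m) F) = Matrix.transvection i j t := rfl
  have h3 : (((Matrix.SpecialLinearGroup.toGL (Matrix.SpecialLinearGroup.transvection hij t))⁻¹ :
      GL (Fin m) F) : Matrix (Fin m) (Fin m) F) = Matrix.transvection i j (-t) := by
    rw [← map_inv, transvection_inv]
    rfl
  rw [h2, h3, Matrix.transvection, Matrix.transvection, Matrix.transpose_add, Matrix.transpose_one,
    Matrix.transpose_single, Matrix.add_mulVec, Matrix.add_mulVec, Matrix.one_mulVec,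
    Matrix.one_mulVec, Matrix.single_mulVec_eq, Matrix.single_mulVec_eq]
  funext k
  rcases k with k | k
  · simp only [Sum.elim_inl, Pi.add_apply, Pi.sub_apply, Pi.smul_apply, Function.comp_apply,
      smul_eq_mul, eP, fP, Pi.single_apply]
    simp
  · simp only [Sum.elim_inr, Pi.add_apply, Pi.sub_apply, Pi.smul_apply, Function.comp_apply,
      smul_eq_mul, eP, fP, Pi.single_apply]
    by_cases hk : k = j
    · subst hk
      simp
      ring
    · simp [hk]

end Cfsg.Agent.Lib.H4.OG
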