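import Cfsg.Agent.S2402
import Cfsg.Agent.S2403
import Cfsg.Agent.S0248

/-!
# Two generators of `SL_{n+1}(K)`, packaged for the orthogonal-group applications (helper4)
-/

set_option autoImplicit false
set_option linter.unusedSectionVars false

namespace Cfsg.Agent.Lib.H4.OG

open Matrix
open scoped commutatorElement

section group

variable {G : Type*} [Group G]

theorem commElem_mul_central_left (a b z : G) (hz : z ∈ Subgroup.center G) :
    ⁅a * z, b⁆ = ⁅a, b⁆ := by
  have h1 : z * b = b * z := ((Subgroup.mem_center_iff.mp hz) b).symm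
  rw [commutatorElement_def, commutatorElement_def, _root_.mul_inv_rev]
  calc a * z * b * (z⁻¹ * a⁻¹) * b⁻¹ = a * (z * b * z⁻¹) * a⁻¹ * b⁻¹ := by group
    _ = a * b * a⁻¹ * b⁻¹ := by rw [h1, mul_inv_cancel_right]

theorem commElem_mul_central_right (a b z : G) (hz : z ∈ Subgroup.center G) :
    ⁅a, b * z⁆ = ⁅a, b⁆ := by
  have h1 : z * a⁻¹ = a⁻¹ * z := ((Subgroup.mem_center_iff.mp hz) a⁻¹).symm
  rw [commutatorElement_def, commutatorElement_def, _root_.mul_inv_rev]
  calc a * (b * z) * a⁻¹ * (z⁻¹ * b⁻¹) = a * b * (z * a⁻¹ * z⁻¹) * b⁻¹ := by group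
    _ = a * b * a⁻¹ * b⁻¹ := by rw [h1, mul_inv_cancel_right]

/-- in a perfect group, a subgroup which together with the centre generates everything is
everything -/
theorem eq_top_of_sup_center_eq_top (H : Subgroup G)
    (hperf : commutator G = ⊤) (h : H ⊔ Subgroup.center G = ⊤) : H = ⊤ := by
  rw [eq_top_iff, ← hperf, commutator_def, Subgroup.commutator_le]
  intro g₁ _ g₂ _
  have hg₁ : g₁ ∈ H ⊔ Subgroup.center G := by rw [h]; trivial
  have hg₂ : g₂ ∈ H ⊔ Subgroup.center G := by rw [h]; trivial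
  rw [← SetLike.mem_coe, Subgroup.mul_normal, Set.mem_mul] at hg₁ hg₂
  obtain ⟨a₁, ha₁, z₁, hz₁, rfl⟩ := hg₁
  obtain ⟨a₂, ha₂, z₂, hz₂, rfl⟩ := hg₂
  rw [commElem_mul_central_left _ _ _ hz₁, commElem_mul_central_right _ _ _ hz₂]
  exact Subgroup.commutator_mem_commutator ha₁ ha₂ |> fun h' => by
    have : ⁅H, H⁆ ≤ H := Subgroup.commutator_le_self H
    exact this h'

/-- two commuting elements of coprime orders lie in the cyclic group generated by their product -/
theorem mem_zpowers_mul_of_coprime (g y : G) (hc : Commute g y) (a b : ℕ)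
    (hga : g ^ a = 1) (hyb : y ^ b = 1) (hab : Nat.Coprime a b) :
    g ∈ Subgroup.zpowers (g * y) ∧ y ∈ Subgroup.zpowers (g * y) := by
  have h1 : (g * y) ^ a = y ^ a := by rw [hc.mul_pow, hga, one_mul]
  have h2 : y ∈ Subgroup.zpowers (g * y) := by
    have h3 : y ^ a ∈ Subgroup.zpowers (g * y) := by
      rw [← h1]
      exact Subgroup.pow_mem _ (Subgroup.mem_zpowers _) a
    have h4 : y = (y ^ a) ^ (Nat.gcdA a b) := by
      have h5 := Nat.gcd_eq_gcd_ab a b
      rw [hab.gcd_eq_one] at h5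
      calc y = y ^ (1 : ℤ) := (zpow_one y).symm
        _ = y ^ ((a : ℤ) * Nat.gcdA a b + (b : ℤ) * Nat.gcdB a b) := by
            rw [← h5]; norm_num
        _ = (y ^ a) ^ (Nat.gcdA a b) * (y ^ b) ^ (Nat.gcdB a b) := by
            rw [_root_.zpow_add, _root_.zpow_mul, _root_.zpow_mul, zpow_natCast, zpow_natCast]
        _ = (y ^ a) ^ (Nat.gcdA a b) := by rw [hyb, _root_.one_zpow, mul_one]
    have h6 := Subgroup.zpow_mem _ h3 (Nat.gcdA a b)
    rwa [← h4] at h6
  refine ⟨?_, h2⟩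
  have h7 : (g * y) * y⁻¹ ∈ Subgroup.zpowers (g * y) :=
    mul_mem (Subgroup.mem_zpowers _) (inv_mem h2)
  rwa [mul_inv_cancel_right] at h7

/-- two generators of a subgroup give two generators of its quotient by its centre -/
theorem two_gen_quot (N : Subgroup G) (a b : G) (ha : a ∈ N) (hb : b ∈ N)
    (h : N ≤ Subgroup.closure {a, b}) :
    ∃ x y : ↥N ⧸ Subgroup.center ↥N, Subgroup.closure ({x, y} : Set (↥N ⧸ Subgroup.center ↥N)) = ⊤ := by
  have h1 : Subgroup.closure ({⟨a, ha⟩, ⟨b, hb⟩} : Set ↥N) = ⊤ := by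
    rw [eq_top_iff]
    intro g _
    have hg : (g : G) ∈ Subgroup.closure {a, b} := h g.2
    have h2 : Subgroup.closure ({a, b} : Set G) =
        (Subgroup.closure ({⟨a, ha⟩, ⟨b, hb⟩} : Set ↥N)).map N.subtype := by
      rw [MonoidHom.map_closure, Set.image_pair]
      rfl
    rw [h2] at hg
    obtain ⟨g', hg', hgg'⟩ := hg
    have : g' = g := Subtype.ext hgg'
    rw [← this]
    exact hg'
  refine ⟨QuotientGroup.mk' _ ⟨a, ha⟩, QuotientGroup.mk' _ ⟨b, hb⟩, ?_⟩
  rw [← Set.image_pair, ← MonoidHom.map_closure, h1,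
    Subgroup.map_top_of_surjective _ (QuotientGroup.mk'_surjective _)]

end group

section SL

variable {K : Type*} [Field K] [Fintype K]

/-- determinant of a monomial matrix -/
theorem det_monoMat {ι : Type*} [Fintype ι] [DecidableEq ι] (σ : Equiv.Perm ι) (ε : ι → K) :
    (Cfsg.Agent.Lib.H12.monoMat σ ε).det = (∏ i, ε i) * ((Equiv.Perm.sign σ : ℤ) : K) := by
  have h : Cfsg.Agent.Lib.H12.monoMat σ ε = Matrix.diagonal ε * σ.permMatrix K := by
    ext i j
    rw [Matrix.diagonal_mul, Cfsg.Agent.Lib.H12.monoMat_apply]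
    show _ = ε i * (Equiv.toPEquiv σ).toMatrix i j
    rw [PEquiv.toMatrix_apply, Equiv.toPEquiv_apply]
    by_cases hj : j = σ i
    · subst hj; simp
    · have : ¬ σ i = j := fun h => hj h.symm
      simp [hj, this]
  rw [h, Matrix.det_mul, Matrix.det_diagonal, Matrix.det_permutation]

theorem det_cycMat (n : ℕ) :
    (Matrix.of (fun i j : Fin (n + 1) =>
      if j.val = i.val + 1 then (1 : K) else if i.val = n ∧ j.val = 0 then (-1) ^ n else 0)).det
      = 1 := by
  rw [Cfsg.Agent.Lib.H12.cycMat_eq, det_monoMat]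
  have h1 : Equiv.addRight (1 : Fin (n + 1)) = finRotate (n + 1) := by
    ext i
    rw [finRotate_apply]
    rfl
  have h2 : ∏ i, Cfsg.Agent.Lib.H12.cycSign K n i = (-1) ^ n := by
    unfold Cfsg.Agent.Lib.H12.cycSign
    rw [Finset.prod_eq_single (Fin.last n)]
    · simp
    · intro b _ hb
      have : ¬ b.val = n := fun h => hb (Fin.ext h)
      simp [this]
    · intro h; exact absurd (Finset.mem_univ _) h
  rw [h1, h2, sign_finRotate]
  simp only [add_tsub_cancel_right, Units.val_pow_eq_pow_val, Units.val_neg, Units.val_one,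
    Int.cast_pow, Int.cast_neg, Int.cast_one]
  rw [← mul_pow]
  simp

theorem fin_zero_ne_one (n : ℕ) (hn : 1 ≤ n) : (0 : Fin (n + 1)) ≠ 1 := by
  intro h
  have := congrArg Fin.val h
  rw [Fin.val_zero, Fin.val_one'] at this
  rw [Nat.mod_eq_of_lt (by omega)] at this
  omega

/-- the torus weights `(k, k⁻¹, 1, …, 1)` -/
def torW (n : ℕ) (k : K) : Fin (n + 1) → K :=
  fun i => if i.val = 0 then k else if i.val = 1 then k⁻¹ else 1

theorem prod_torW (n : ℕ) (hn : 1 ≤ n) (k : K) (hk : k ≠ 0) : ∏ i, torW n k i = 1 := by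
  have h01 := fin_zero_ne_one n hn
  have hv1 : (1 : Fin (n + 1)).val = 1 := by
    rw [Fin.val_one']; exact Nat.mod_eq_of_lt (by omega)
  have h : ∀ i : Fin (n + 1), torW n k i =
      (if i = 0 then k else 1) * (if i = 1 then k⁻¹ else 1) := by
    intro i
    unfold torW
    by_cases h0 : i = 0
    · subst h0
      simp [h01]
    · have h0' : ¬ i.val = 0 := fun h => h0 (Fin.ext h)
      by_cases h1 : i = 1
      · subst h1
        rw [if_neg h0', if_pos hv1, if_neg h0, if_pos rfl, one_mul]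
      · have h1' : ¬ i.val = 1 := fun h => h1 (Fin.ext (by rw [h, hv1]))
        simp [h0, h1, h0', h1']
  rw [Finset.prod_congr rfl (fun i _ => h i), Finset.prod_mul_distrib,
    Finset.prod_ite_eq', Finset.prod_ite_eq']
  simp [hk]

/-- generators in the large-field case -/
theorem exists_gen_large (hK : 3 < Fintype.card K) (n : ℕ) (hn : 2 ≤ n) :
    ∃ (k : K) (h g : Matrix.SpecialLinearGroup (Fin (n + 1)) K), k ≠ 0 ∧
      (h : Matrix (Fin (n + 1)) (Fin (n + 1)) K) = Matrix.diagonal (torW n k) ∧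
      Subgroup.closure ({h, g} : Set (Matrix.SpecialLinearGroup (Fin (n + 1)) K)) = ⊤ := by
  classical
  obtain ⟨k, hk⟩ := IsCyclic.exists_generator (α := Kˣ)
  have h01 := fin_zero_ne_one (n := n) (by omega)
  have hdet : (Matrix.diagonal (torW n (k : K))).det = 1 := by
    rw [Matrix.det_diagonal, prod_torW n (by omega) _ k.ne_zero]
  obtain ⟨h, hh⟩ : ∃ h : Matrix.SpecialLinearGroup (Fin (n + 1)) K,
      (h : Matrix (Fin (n + 1)) (Fin (n + 1)) K) = Matrix.diagonal (torW n (k : K)) :=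
    ⟨⟨_, hdet⟩, rfl⟩
  obtain ⟨w, hw⟩ : ∃ w : Matrix.SpecialLinearGroup (Fin (n + 1)) K,
      (w : Matrix (Fin (n + 1)) (Fin (n + 1)) K) = Matrix.of (fun i j : Fin (n + 1) =>
      if j.val = i.val + 1 then (1 : K) else if i.val = n ∧ j.val = 0 then (-1) ^ n else 0) :=
    ⟨⟨_, det_cycMat n⟩, rfl⟩
  refine ⟨(k : K), h, Matrix.SpecialLinearGroup.transvection h01 1 * w, k.ne_zero, hh, ?_⟩
  apply eq_top_of_sup_center_eq_top _ (Cfsg.Agent.S0248.result (n + 1) (by omega))
  apply Cfsg.Agent.S2402.result hK n (by omega) k hk h _ w _ rfl hw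
  rw [hh]
  congr 1
  funext i
  unfold torW
  simp

/-- generators in the small-field case -/
theorem exists_gen_small (hK : Fintype.card K ≤ 3) (n : ℕ) (hn : 2 ≤ n) :
    ∃ (w : Matrix.SpecialLinearGroup (Fin (n + 1)) K),
      Subgroup.closure ({Matrix.SpecialLinearGroup.transvection
        (fin_zero_ne_one n (by omega)) (1 : K), w} :
          Set (Matrix.SpecialLinearGroup (Fin (n + 1)) K)) = ⊤ := by
  classical
  obtain ⟨w, hw⟩ : ∃ w : Matrix.SpecialLinearGroup (Fin (n + 1)) K,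
      (w : Matrix (Fin (n + 1)) (Fin (n + 1)) K) = Matrix.of (fun i j : Fin (n + 1) =>
      if j.val = i.val + 1 then (1 : K) else if i.val = n ∧ j.val = 0 then (-1) ^ n else 0) :=
    ⟨⟨_, det_cycMat n⟩, rfl⟩
  refine ⟨w, ?_⟩
  apply eq_top_of_sup_center_eq_top _ (Cfsg.Agent.S0248.result (n + 1) (by omega))
  exact Cfsg.Agent.S2403.result hK n (by omega) _ w rfl hw

end SL

end Cfsg.Agent.Lib.H4.OG
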