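import Cfsg.Agent.Lib.H4.OG.PlusKey
import Cfsg.Agent.Lib.H4.OG.FrameEl
import Cfsg.Agent.Lib.H4.OG.SLGens

/-!
# `Ω⁺_{2m}(q)`, `m ≥ 4`, is generated by two elements (helper4)
-/

set_option autoImplicit false
set_option linter.unusedSectionVars false

namespace Cfsg.Agent.Lib.H4.OG

open Matrix Cfsg.Agent.Lib.H13 Cfsg.Agent.Lib.H13.PlusLevi

variable {F : Type*} [Field F] [Fintype F]

/-- the Levi map on `SL_m` -/
noncomputable def leviSL (m : ℕ) :
    Matrix.SpecialLinearGroup (Fin m) F →* ↥(Cfsg.isometryGroup F ⇑(plusQF F m)) :=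
  (levi (F := F) (m := m)).comp Matrix.SpecialLinearGroup.toGL

theorem leviSL_mem_omega {m : ℕ} (hm : 3 ≤ m) (s : Matrix.SpecialLinearGroup (Fin m) F) :
    leviSL m s ∈ Cfsg.Omega F ⇑(plusQF F m) :=
  levi_mem_of_det_one (by omega) (Or.inr (by omega)) _ (Matrix.SpecialLinearGroup.coeToGL_det s)

theorem leviSL_transvection {m : ℕ} {i j : Fin m} (hij : i ≠ j) (t : F) :
    leviSL m (Matrix.SpecialLinearGroup.transvection hij t) =
      Tl (plusQF F m) (eP i) (t • fP j) :=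
  levi_transvection hij t

theorem act_leviSL_diag {m : ℕ} (h : Matrix.SpecialLinearGroup (Fin m) F) (δ δ' : Fin m → F)
    (hh : (h : Matrix (Fin m) (Fin m) F) = Matrix.diagonal δ) (hδ : ∀ i, δ i * δ' i = 1)
    (x : K m → F) :
    act (plusQF F m) (leviSL m h) x =
      fun k => Sum.elim (fun i => δ i * x (Sum.inl i)) (fun i => δ' i * x (Sum.inr i)) k := by
  unfold leviSL
  rw [MonoidHom.comp_apply, act_levi]
  have h1 : ((Matrix.SpecialLinearGroup.toGL h : GL (Fin m) F) : Matrix (Fin m) (Fin m) F) =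
      Matrix.diagonal δ := hh
  have h2 : (((Matrix.SpecialLinearGroup.toGL h)⁻¹ : GL (Fin m) F) : Matrix (Fin m) (Fin m) F) =
      Matrix.diagonal δ' := by
    rw [Matrix.coe_units_inv, h1]
    apply Matrix.inv_eq_right_inv
    rw [Matrix.diagonal_mul_diagonal]
    rw [show (fun i => δ i * δ' i) = fun _ => (1 : F) from funext hδ]
    exact Matrix.diagonal_one
  rw [h1, h2, Matrix.diagonal_transpose]
  funext k
  rcases k with i | i
  · simp [Matrix.mulVec_diagonal]
  · simp [Matrix.mulVec_diagonal]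

theorem leviSL_diag_fix_e {m : ℕ} (h : Matrix.SpecialLinearGroup (Fin m) F) (δ δ' : Fin m → F)
    (hh : (h : Matrix (Fin m) (Fin m) F) = Matrix.diagonal δ) (hδ : ∀ i, δ i * δ' i = 1)
    (j : Fin m) (hj : δ j = 1) : act (plusQF F m) (leviSL m h) (eP j) = eP j := by
  rw [act_leviSL_diag h δ δ' hh hδ]
  funext k
  rcases k with i | i
  · by_cases hi : i = j
    · subst hi
      simp [eP, hj]
    · simp [eP, hi]
  · simp [eP]

theorem leviSL_diag_fix_f {m : ℕ} (h : Matrix.SpecialLinearGroup (Fin m) F) (δ δ' : Fin m → F)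
    (hh : (h : Matrix (Fin m) (Fin m) F) = Matrix.diagonal δ) (hδ : ∀ i, δ i * δ' i = 1)
    (j : Fin m) (hj : δ j = 1) : act (plusQF F m) (leviSL m h) (fP j) = fP j := by
  have hj' : δ' j = 1 := by
    have := hδ j
    rwa [hj, one_mul] at this
  rw [act_leviSL_diag h δ δ' hh hδ]
  funext k
  rcases k with i | i
  · simp [fP]
  · by_cases hi : i = j
    · subst hi
      simp [fP, hj']
    · simp [fP, hi]

theorem torW_mul_inv (n : ℕ) (k : F) (hk : k ≠ 0) (i : Fin (n + 1)) :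
    torW n k i * torW n k⁻¹ i = 1 := by
  unfold torW
  split_ifs
  · exact mul_inv_cancel₀ hk
  · rw [inv_inv]; exact inv_mul_cancel₀ hk
  · exact one_mul 1

theorem torW_ne_zero (n : ℕ) (k : F) (hk : k ≠ 0) (i : Fin (n + 1)) : torW n k i ≠ 0 := by
  intro h
  have := torW_mul_inv n k hk i
  rw [h, zero_mul] at this
  exact zero_ne_one this

theorem torW_of_two_le (n : ℕ) (k : F) (i : Fin (n + 1)) (hi : 2 ≤ i.val) : torW n k i = 1 := by
  unfold torW
  rw [if_neg (by omega), if_neg (by omega)]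

theorem diag_pow_card_sub_one {m : ℕ} (h : Matrix.SpecialLinearGroup (Fin m) F) (δ : Fin m → F)
    (hh : (h : Matrix (Fin m) (Fin m) F) = Matrix.diagonal δ) (hδ : ∀ i, δ i ≠ 0) :
    h ^ (Fintype.card F - 1) = 1 := by
  apply Subtype.ext
  rw [Matrix.SpecialLinearGroup.coe_pow, hh, Matrix.diagonal_pow,
    Matrix.SpecialLinearGroup.coe_one]
  rw [show δ ^ (Fintype.card F - 1) = fun _ => (1 : F) from
    funext (fun i => by rw [Pi.pow_apply]; exact FiniteField.pow_card_sub_one_eq_one _ (hδ i))]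
  exact Matrix.diagonal_one

theorem char_facts : ∃ p : ℕ, p.Prime ∧ ((p : ℕ) : F) = 0 ∧ Nat.Coprime (Fintype.card F - 1) p := by
  obtain ⟨p, hp⟩ := CharP.exists F
  have hpp : p.Prime := CharP.char_is_prime F p
  have : Fact p.Prime := ⟨hpp⟩
  obtain ⟨n, _, hcard⟩ := FiniteField.card F p
  refine ⟨p, hpp, CharP.cast_eq_zero F p, ?_⟩
  rw [Nat.coprime_comm, Nat.Prime.coprime_iff_not_dvd hpp]
  intro hdvd
  have h1 : p ∣ Fintype.card F := by
    rw [hcard]
    exact dvd_pow_self p n.ne_zero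
  have h2 : 1 ≤ Fintype.card F := Fintype.card_pos
  have h3 : p ∣ 1 := by
    have := Nat.dvd_sub h1 hdvd
    rwa [Nat.sub_sub_self h2] at this
  exact hpp.one_lt.ne' (Nat.dvd_one.mp h3)

/-- generation of `Ω⁺` from the Levi subgroup and a mixing element -/
theorem omega_le_closure {n : ℕ} (hn : 3 ≤ n)
    (H : Subgroup ↥(Cfsg.isometryGroup F ⇑(plusQF F (n + 1))))
    (hL : ∀ s : Matrix.SpecialLinearGroup (Fin (n + 1)) F, leviSL (n + 1) s ∈ H)
    (z : ↥(Cfsg.isometryGroup F ⇑(plusQF F (n + 1)))) (hz : z ∈ H) (a c d : Fin (n + 1))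
    (hac : a ≠ c) (had : a ≠ d) (α β γ δ : F) (hβ : β ≠ 0) (hδ : δ ≠ 0)
    (hz1 : act (plusQF F (n + 1)) z (eP a) = eP a)
    (hz2 : act (plusQF F (n + 1)) z (fP c) = α • fP c + β • eP d)
    (hz3 : act (plusQF F (n + 1)) z (fP a) = fP a)
    (hz4 : act (plusQF F (n + 1)) z (eP c) = γ • eP c + δ • fP d) :
    commutator ↥(Cfsg.isometryGroup F ⇑(plusQF F (n + 1))) ≤ H := by
  apply omega_le_plus (by omega) H ?_ z hz a c d hac had α β γ δ hβ hδ hz1 hz2 hz3 hz4
  intro i j hij t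
  rw [← leviSL_transvection hij t]
  exact hL _

/-- the indices `2` and `3` -/
def i2 (n : ℕ) (hn : 3 ≤ n) : Fin (n + 1) := ⟨2, by omega⟩
def i3 (n : ℕ) (hn : 3 ≤ n) : Fin (n + 1) := ⟨3, by omega⟩

theorem two_gen_large (hF : 3 < Fintype.card F) (n : ℕ) (hn : 3 ≤ n) :
    ∃ a b : ↥(Cfsg.isometryGroup F ⇑(plusQF F (n + 1))),
      a ∈ Cfsg.Omega F ⇑(plusQF F (n + 1)) ∧ b ∈ Cfsg.Omega F ⇑(plusQF F (n + 1)) ∧
      Cfsg.Omega F ⇑(plusQF F (n + 1)) ≤ Subgroup.closure {a, b} := by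
  obtain ⟨k, h, g, hk0, hh, hgen⟩ := exists_gen_large hF n (by omega)
  obtain ⟨p, hpp, hp0, hcop⟩ := char_facts (F := F)
  have hfr := frameP (F := F) (m := n + 1)
  have hnd := Cfsg.Agent.S0287.nondeg (F := F) (n + 1)
  set c := i2 n hn with hc
  set d := i3 n hn with hd
  have hcd : c ≠ d := by
    intro h'
    have := congrArg Fin.val h'
    simp [hc, hd, i2, i3] at this
  have h0c : (0 : Fin (n + 1)) ≠ c := by
    intro h'
    have := congrArg Fin.val h'
    simp [hc, i2] at this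
  have h0d : (0 : Fin (n + 1)) ≠ d := by
    intro h'
    have := congrArg Fin.val h'
    simp [hd, i3] at this
  set y := yel (plusQF F (n + 1)) (eP (F := F) (m := n + 1)) fP c d with hy
  set A := leviSL (n + 1) g with hA
  set T := leviSL (n + 1) h with hT
  have hδ := torW_mul_inv n k hk0
  have hcfix : torW n k c = 1 := torW_of_two_le n k c (by simp [hc, i2])
  have hdfix : torW n k d = 1 := torW_of_two_le n k d (by simp [hd, i3])
  have hcomm : Commute T y :=
    hfr.yel_comm _ hcd T (leviSL_diag_fix_e h _ _ hh hδ c hcfix)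
      (leviSL_diag_fix_e h _ _ hh hδ d hdfix) (leviSL_diag_fix_f h _ _ hh hδ c hcfix)
      (leviSL_diag_fix_f h _ _ hh hδ d hdfix)
  have hTpow : T ^ (Fintype.card F - 1) = 1 := by
    rw [hT, ← map_pow, diag_pow_card_sub_one h _ hh (torW_ne_zero n k hk0), map_one]
  have hypow : y ^ p = 1 := hfr.yel_pow _ hcd p hp0
  have hmem := mem_zpowers_mul_of_coprime T y hcomm _ _ hTpow hypow hcop
  have hyΩ : y ∈ Cfsg.Omega F ⇑(plusQF F (n + 1)) := by
    rw [hy, yel, Tl_eq _ (hfr.Q_yu _ hcd) (hfr.B_yuv _ hcd)]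
    apply Tel_mem_commutator_of_sing _ hnd _ _ _ _ _ (hfr.Q_yv _ hcd)
    rw [Fintype.card_sum, Fintype.card_fin]
    omega
  refine ⟨A, T * y, leviSL_mem_omega (by omega) g,
    Subgroup.mul_mem _ (leviSL_mem_omega (by omega) h) hyΩ, ?_⟩
  set H := Subgroup.closure ({A, T * y} : Set ↥(Cfsg.isometryGroup F ⇑(plusQF F (n + 1))))
    with hH
  have hAH : A ∈ H := Subgroup.subset_closure (by simp)
  have hBH : T * y ∈ H := Subgroup.subset_closure (by simp)
  have hzp : Subgroup.zpowers (T * y) ≤ H := by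
    rw [Subgroup.zpowers_le]; exact hBH
  have hTH : T ∈ H := hzp hmem.1
  have hyH : y ∈ H := hzp hmem.2
  have hL : ∀ s : Matrix.SpecialLinearGroup (Fin (n + 1)) F, leviSL (n + 1) s ∈ H := by
    have hle : Subgroup.closure ({h, g} : Set (Matrix.SpecialLinearGroup (Fin (n + 1)) F)) ≤
        H.comap (leviSL (n + 1)) := by
      rw [Subgroup.closure_le]
      rintro s (rfl | rfl)
      · exact hTH
      · exact hAH
    rw [hgen] at hle
    intro s
    exact hle (Subgroup.mem_top s)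
  exact omega_le_closure hn H hL y hyH 0 c d h0c h0d 0 (-1) 2 (-1) (by simp) (by simp)
    (hfr.yel_fix_e _ hcd h0c h0d) (hfr.yel_fc _ hcd) (hfr.yel_fix_f _ hcd h0c h0d)
    (hfr.yel_ec _ hcd)

theorem two_gen_small (hF : Fintype.card F ≤ 3) (n : ℕ) (hn : 3 ≤ n) :
    ∃ a b : ↥(Cfsg.isometryGroup F ⇑(plusQF F (n + 1))),
      a ∈ Cfsg.Omega F ⇑(plusQF F (n + 1)) ∧ b ∈ Cfsg.Omega F ⇑(plusQF F (n + 1)) ∧
      Cfsg.Omega F ⇑(plusQF F (n + 1)) ≤ Subgroup.closure {a, b} := by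
  obtain ⟨w, hgen⟩ := exists_gen_small hF n (by omega)
  have h01 := fin_zero_ne_one n (by omega)
  have hfr := frameP (F := F) (m := n + 1)
  have hnd := Cfsg.Agent.S0287.nondeg (F := F) (n + 1)
  have hcard7 : 7 ≤ Fintype.card (K (n + 1)) := by
    rw [Fintype.card_sum, Fintype.card_fin]
    omega
  set c := i2 n hn with hc
  set d := i3 n hn with hd
  have hcd : c ≠ d := by
    intro h'
    have := congrArg Fin.val h'
    simp [hc, hd, i2, i3] at this
  have h0c : (0 : Fin (n + 1)) ≠ c := by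
    intro h'
    have := congrArg Fin.val h'
    simp [hc, i2] at this
  have h0d : (0 : Fin (n + 1)) ≠ d := by
    intro h'
    have := congrArg Fin.val h'
    simp [hd, i3] at this
  have hv1 : (1 : Fin (n + 1)).val = 1 := by
    rw [Fin.val_one']; exact Nat.mod_eq_of_lt (by omega)
  have h1c : (1 : Fin (n + 1)) ≠ c := by
    intro h'
    have := congrArg Fin.val h'
    rw [hv1] at this
    simp [hc, i2] at this
  have h1d : (1 : Fin (n + 1)) ≠ d := by
    intro h'
    have := congrArg Fin.val h'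
    rw [hv1] at this
    simp [hd, i3] at this
  set z := zel (plusQF F (n + 1)) (eP (F := F) (m := n + 1)) fP c d with hz
  set A := leviSL (n + 1) w with hA
  set T := leviSL (n + 1) (Matrix.SpecialLinearGroup.transvection h01 (1 : F)) with hT
  have hTl : T = Tl (plusQF F (n + 1)) (eP 0) ((1 : F) • fP 1) := leviSL_transvection h01 1
  have hcomm : Commute T z := by
    rw [hTl]
    exact hfr.zel_comm _ hcd _ (hfr.levi_fix_e _ h01 (Ne.symm h1c) 1)
      (hfr.levi_fix_e _ h01 (Ne.symm h1d) 1) (hfr.levi_fix_f _ h01 (Ne.symm h0c) 1)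
      (hfr.levi_fix_f _ h01 (Ne.symm h0d) 1)
  have hTpow : ∀ q : ℕ, ((q : ℕ) : F) = 0 → T ^ q = 1 := by
    intro q hq
    rw [hTl, Tl_pow _ (hfr.Qe 0) (by rw [polar_smul_right', hfr.ef_ne 0 1 h01, mul_zero]), hq,
      zero_smul, Tl_zero _ (hfr.Qe 0)]
  have hcard0 : ((Fintype.card F : ℕ) : F) = 0 := FiniteField.cast_card_eq_zero F
  have hcard2 : 2 ≤ Fintype.card F := Fintype.one_lt_card
  have hmem : T ∈ Subgroup.zpowers (T * z) ∧ z ∈ Subgroup.zpowers (T * z) := by
    rcases Nat.lt_or_ge (Fintype.card F) 3 with h3 | h3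
    · have h2 : Fintype.card F = 2 := by omega
      rw [h2] at hcard0
      have h2' : (2 : F) = 0 := by exact_mod_cast hcard0
      exact mem_zpowers_mul_of_coprime T z hcomm 2 3 (hTpow 2 hcard0)
        (hfr.zel_pow_three _ hcd h2') (by norm_num)
    · have h3' : Fintype.card F = 3 := by omega
      rw [h3'] at hcard0
      have h3'' : (3 : F) = 0 := by exact_mod_cast hcard0
      exact mem_zpowers_mul_of_coprime T z hcomm 3 4 (hTpow 3 hcard0)
        (hfr.zel_pow_four _ hcd h3'') (by norm_num)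
  have hzΩ : z ∈ Cfsg.Omega F ⇑(plusQF F (n + 1)) := by
    rw [hz, zel]
    apply Subgroup.mul_mem
    · rw [Tl_eq _ (hfr.Qe c) (hfr.ee c d)]
      exact Tel_mem_commutator_of_sing _ hnd hcard7 _ _ _ _ (hfr.Qe d)
    · rw [Tl_eq _ (hfr.Qf d) (hfr.ff d c)]
      exact Tel_mem_commutator_of_sing _ hnd hcard7 _ _ _ _ (hfr.Qf c)
  refine ⟨A, T * z, leviSL_mem_omega (by omega) w,
    Subgroup.mul_mem _ (leviSL_mem_omega (by omega) _) hzΩ, ?_⟩
  set H := Subgroup.closure ({A, T * z} : Set ↥(Cfsg.isometryGroup F ⇑(plusQF F (n + 1))))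
    with hH
  have hAH : A ∈ H := Subgroup.subset_closure (by simp)
  have hBH : T * z ∈ H := Subgroup.subset_closure (by simp)
  have hzp : Subgroup.zpowers (T * z) ≤ H := by
    rw [Subgroup.zpowers_le]; exact hBH
  have hTH : T ∈ H := hzp hmem.1
  have hzH : z ∈ H := hzp hmem.2
  have hL : ∀ s : Matrix.SpecialLinearGroup (Fin (n + 1)) F, leviSL (n + 1) s ∈ H := by
    have hle : Subgroup.closure ({Matrix.SpecialLinearGroup.transvection h01 (1 : F), w} :
        Set (Matrix.SpecialLinearGroup (Fin (n + 1)) F)) ≤ H.comap (leviSL (n + 1)) := by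
      rw [Subgroup.closure_le]
      rintro s (rfl | rfl)
      · exact hTH
      · exact hAH
    rw [hgen] at hle
    intro s
    exact hle (Subgroup.mem_top s)
  exact omega_le_closure hn H hL z hzH 0 c d h0c h0d 1 (-1) 2 1 (by simp) (by simp)
    (hfr.zel_fix_e _ hcd h0c h0d) (hfr.zel_fc _ hcd) (hfr.zel_fix_f _ hcd h0c h0d)
    (hfr.zel_ec _ hcd)

/-- `PΩ⁺_{2m}(q)`, `m ≥ 4`, is generated by two elements -/
theorem two_gen_plus (m : ℕ) (hm : 4 ≤ m) :
    ∃ a b : Cfsg.POmega F ⇑(plusQF F m),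
      Subgroup.closure ({a, b} : Set (Cfsg.POmega F ⇑(plusQF F m))) = ⊤ := by
  obtain ⟨n, rfl⟩ : ∃ n, m = n + 1 := ⟨m - 1, by omega⟩
  have hn : 3 ≤ n := by omega
  rcases Nat.lt_or_ge 3 (Fintype.card F) with hF | hF
  · obtain ⟨a, b, ha, hb, hle⟩ := two_gen_large hF n hn
    exact two_gen_quot (Cfsg.Omega F ⇑(plusQF F (n + 1))) a b ha hb hle
  · obtain ⟨a, b, ha, hb, hle⟩ := two_gen_small hF n hn
    exact two_gen_quot (Cfsg.Omega F ⇑(plusQF F (n + 1))) a b ha hb hle

end Cfsg.Agent.Lib.H4.OG
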