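import Cfsg.Agent.Lib.H4.OG.Siegel
import Cfsg.Agent.Lib.H11.OmegaAll

/-!
# Siegel elements and `Ω` on an arbitrary index type (helper4)

Transfer of helper11's results (`Ω ≤ ⟨Siegel elements⟩` and `Siegel elements ⊆ Ω`, both for forms
on `Fin n`) to a form on an arbitrary finite index type, in terms of the elements `Tel`.
-/

set_option autoImplicit false
set_option linter.unusedSectionVars false

namespace Cfsg.Agent.Lib.H4.OG

open Matrix

variable {F : Type*} [Field F] {ι : Type} [Fintype ι] [DecidableEq ι]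
variable (Q : QuadraticForm F (ι → F))

set_option quotPrecheck false in
local notation "B" => QuadraticMap.polar (⇑Q)

/-- the set of all Siegel elements -/
def TelSet : Set ↥(Cfsg.isometryGroup F ⇑Q) :=
  {g | ∃ (u v : ι → F) (hu : Q u = 0) (huv : B u v = 0), g = Tel Q u v hu huv}

section reindex

variable {κ : Type} [Fintype κ] [DecidableEq κ] (e : ι ≃ κ)

/-- the reindexed form -/
noncomputable abbrev trQ : QuadraticForm F (κ → F) := Cfsg.Agent.Lib.H11.IsoReindex.trQF e Q

/-- the transport isomorphism, typed with the reindexed quadratic form -/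
noncomputable def isoTr : ↥(Cfsg.isometryGroup F ⇑Q) ≃* ↥(Cfsg.isometryGroup F ⇑(trQ Q e)) :=
  Cfsg.Agent.Lib.H11.IsoReindex.isoEquiv e ⇑Q

theorem trQ_apply (x : κ → F) : trQ Q e x = Q (x ∘ e) := rfl

theorem polar_trQ (x y : κ → F) :
    QuadraticMap.polar (⇑(trQ Q e)) x y = B (x ∘ e) (y ∘ e) := rfl

theorem act_isoTr (g : ↥(Cfsg.isometryGroup F ⇑Q)) (y : κ → F) :
    act (trQ Q e) (isoTr Q e g) y = (act Q g (y ∘ e)) ∘ e.symm := by
  unfold act
  exact Cfsg.Agent.Lib.H11.IsoReindex.glReindex_mulVec e g.1 y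

theorem act_isoTr_symm (s : ↥(Cfsg.isometryGroup F ⇑(trQ Q e))) (x : ι → F) :
    act Q ((isoTr Q e).symm s) x = (act (trQ Q e) s (x ∘ e.symm)) ∘ e := by
  have h := act_isoTr Q e ((isoTr Q e).symm s) (x ∘ e.symm)
  rw [MulEquiv.apply_symm_apply] at h
  rw [h]
  have h1 : (x ∘ e.symm) ∘ e = x := by funext i; simp
  rw [h1]
  funext i
  simp

end reindex

section main

variable [Fintype F]

/-- a Siegel element `T_{u,v}` with `u, v` singular lies in `Ω` (dimension at least 7) -/
theorem Tel_mem_commutator_of_sing (hQ : (QuadraticMap.polarBilin Q).Nondegenerate)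
    (hcard : 7 ≤ Fintype.card ι) (u v : ι → F) (hu : Q u = 0) (huv : B u v = 0) (hv : Q v = 0) :
    Tel Q u v hu huv ∈ commutator ↥(Cfsg.isometryGroup F ⇑Q) := by
  set e := Fintype.equivFin ι with he
  have hnd' := Cfsg.Agent.Lib.H11.IsoReindex.nondeg_trQF e Q hQ
  rw [← Cfsg.Agent.Lib.H11.IsoReindex.mem_commutator_iff (isoTr Q e)]
  apply Cfsg.Agent.Lib.H11.SiegelGen.gensS_subset_commutator (trQ Q e) hnd' hcard
  have e1 : (u ∘ e.symm) ∘ e = u := by funext i; simp
  have e2 : (v ∘ e.symm) ∘ e = v := by funext i; simp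
  refine ⟨u ∘ e.symm, v ∘ e.symm, -1, ?_, ?_, ?_, ?_⟩
  · rw [trQ_apply, e1, hu]
  · rw [trQ_apply, e2, hv]
  · rw [polar_trQ, e1, e2, huv]
  · apply Matrix.toLin'.injective
    apply LinearMap.ext
    intro y
    rw [Matrix.toLin'_apply, Matrix.toLin'_apply, Cfsg.Agent.Lib.H4.siegelMatrix_mulVec]
    have h := act_isoTr Q e (Tel Q u v hu huv) y
    unfold act at h
    rw [h]
    have h2 := act_Tel_of_sing Q u v hu huv hv (y ∘ e)
    unfold act at h2
    rw [h2, polar_trQ, polar_trQ, e1, e2]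
    funext i
    simp only [Function.comp_apply, Pi.add_apply, Pi.sub_apply, Pi.smul_apply, smul_eq_mul,
      Equiv.apply_symm_apply]
    ring

/-- `Ω` is contained in the subgroup generated by the Siegel elements (dimension at least 5) -/
theorem commutator_le_closure_TelSet (hQ : (QuadraticMap.polarBilin Q).Nondegenerate)
    (hcard : 5 ≤ Fintype.card ι) :
    commutator ↥(Cfsg.isometryGroup F ⇑Q) ≤ Subgroup.closure (TelSet Q) := by
  set e := Fintype.equivFin ι with he
  have hnd' := Cfsg.Agent.Lib.H11.IsoReindex.nondeg_trQF e Q hQ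
  have hgen := Cfsg.Agent.Lib.H11.OmegaAll.rGen_tr Q hQ hcard
  have hle := Cfsg.Agent.Lib.H11.SiegelGen.commutator_le_S_of_rGen (trQ Q e) hnd' hgen hcard
  intro g hg
  have h1 : isoTr Q e g ∈ Cfsg.Agent.Lib.H11.SiegelGen.S (trQ Q e) :=
    hle ((Cfsg.Agent.Lib.H11.IsoReindex.mem_commutator_iff (isoTr Q e) g).2 hg)
  -- pull back the closure
  have h2 : ∀ s ∈ Cfsg.Agent.Lib.H11.SiegelGen.S (trQ Q e),
      (isoTr Q e).symm s ∈ Subgroup.closure (TelSet Q) := by
    intro s hs
    unfold Cfsg.Agent.Lib.H11.SiegelGen.S at hs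
    induction hs using Subgroup.closure_induction with
    | mem s hs =>
      apply Subgroup.subset_closure
      obtain ⟨u', v', c, hu', hv', huv', hs⟩ := hs
      have hu : Q (u' ∘ e) = 0 := hu'
      have hv : Q (v' ∘ e) = 0 := hv'
      have huv : B (u' ∘ e) (v' ∘ e) = 0 := huv'
      refine ⟨u' ∘ e, (-c) • (v' ∘ e), hu, by rw [polar_smul_right', huv, mul_zero], ?_⟩
      apply act_ext
      intro x
      rw [act_isoTr_symm, act_Tel_of_sing Q _ _ hu _ (by rw [Q_smul', hv, mul_zero])]
      unfold act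
      rw [hs, Cfsg.Agent.Lib.H4.siegelMatrix_mulVec, polar_trQ, polar_trQ]
      have e1 : (x ∘ e.symm) ∘ e = x := by funext i; simp
      rw [e1, polar_smul_left']
      funext i
      simp only [Function.comp_apply, Pi.add_apply, Pi.sub_apply, Pi.smul_apply, smul_eq_mul,
        Equiv.symm_apply_apply]
      ring
    | one => rw [map_one]; exact one_mem _
    | mul a b _ _ ha hb => rw [map_mul]; exact mul_mem ha hb
    | inv a _ ha => rw [map_inv]; exact inv_mem ha
  have h3 := h2 _ h1
  rwa [MulEquiv.symm_apply_apply] at h3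

end main

end Cfsg.Agent.Lib.H4.OG
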