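import Cfsg.Agent.Lib.H4.OG.PlusFrame
import Cfsg.Agent.Lib.H4.OG.Finish
import Cfsg.Agent.Lib.H4.OG.Transfer

/-!
# A subgroup of `O⁺_{2m}(F)` containing the Levi root elements and a mixing element contains `Ω`
(helper4)
-/

set_option autoImplicit false
set_option linter.unusedSectionVars false

namespace Cfsg.Agent.Lib.H4.OG

open Matrix Cfsg.Agent.Lib.H13 Cfsg.Agent.Lib.H13.PlusLevi

variable {F : Type*} [Field F] {m : ℕ}

theorem exists_third_fin (hm : 3 ≤ m) (a b : Fin m) : ∃ c, c ≠ a ∧ c ≠ b := by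
  by_contra hcon
  push Not at hcon
  have h1 : (Finset.univ : Finset (Fin m)) ⊆ {a, b} := by
    intro x _
    by_cases hx : x = a
    · simp [hx]
    · simp [hcon x hx]
  have h2 := Finset.card_le_card h1
  rw [Finset.card_univ, Fintype.card_fin] at h2
  have h3 : ({a, b} : Finset (Fin m)).card ≤ 2 := Finset.card_le_two
  omega

theorem Tl_smul_self_zero (Q : QuadraticForm F (K m → F)) {u v : K m → F} (hu : Q u = 0)
    (H : Subgroup ↥(Cfsg.isometryGroup F ⇑Q)) : Tl Q u ((0 : F) • v) ∈ H := by
  rw [zero_smul, Tl_zero Q hu]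
  exact H.one_mem

theorem omega_le_plus [Fintype F] (hm : 3 ≤ m)
    (H : Subgroup ↥(Cfsg.isometryGroup F ⇑(plusQF F m)))
    (hX : ∀ i j : Fin m, i ≠ j → ∀ t : F, Tl (plusQF F m) (eP i) (t • fP j) ∈ H)
    (z : ↥(Cfsg.isometryGroup F ⇑(plusQF F m))) (hz : z ∈ H) (a c d : Fin m)
    (hac : a ≠ c) (had : a ≠ d) (α β γ δ : F) (hβ : β ≠ 0) (hδ : δ ≠ 0)
    (hz1 : act (plusQF F m) z (eP a) = eP a)
    (hz2 : act (plusQF F m) z (fP c) = α • fP c + β • eP d)
    (hz3 : act (plusQF F m) z (fP a) = fP a)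
    (hz4 : act (plusQF F m) z (eP c) = γ • eP c + δ • fP d) :
    commutator ↥(Cfsg.isometryGroup F ⇑(plusQF F m)) ≤ H := by
  have hfr := frameP (F := F) (m := m)
  have hthird := exists_third_fin hm
  -- all `e`-root elements
  have h0 : Tl (plusQF F m) (eP a) (β • eP d) ∈ H := by
    have := hfr.extract _ H z hz a c d hac α β hz1 hz2 (hX a c hac) 1
    rwa [one_mul] at this
  have PE := hfr.root_all _ H hthird hX a d had β hβ h0
  -- the Levi elements for the swapped frame
  have hX' : ∀ i j : Fin m, i ≠ j → ∀ t : F, Tl (plusQF F m) (fP i) (t • eP j) ∈ H := by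
    intro i j hij t
    have := hX j i (Ne.symm hij) (-t)
    rwa [hfr.levi_symm _ j i (Ne.symm hij), neg_neg] at this
  have h0' : Tl (plusQF F m) (fP a) (δ • fP d) ∈ H := by
    have := hfr.swap.extract _ H z hz a c d hac γ δ hz3 hz4 (hX' a c hac) 1
    rwa [one_mul] at this
  have PF := hfr.swap.root_all _ H hthird hX' a d had δ hδ h0'
  -- the two root groups
  have hE : ∀ (v : K m → F) (h1 : QuadraticMap.polar (⇑(plusQF F m)) (eP a) v = 0),
      QuadraticMap.polar (⇑(plusQF F m)) (fP a) v = 0 →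
      Tel (plusQF F m) (eP a) v (Q_eP a) h1 ∈ H := by
    intro v h1 h2
    rw [polar_eP] at h1
    rw [polar_fP] at h2
    rw [← Tl_eq]
    have key := Tl_sum_mem (plusQF F m) H (Q_eP a) Finset.univ
      (fun k : K m => (Pi.single k (v k) : K m → F)) ?_ ?_
    · rw [Finset.univ_sum_single] at key
      exact key.2
    · intro k _
      rw [single_eq_smul, polar_smul_right']
      rcases k with j | j
      · show v (Sum.inl j) * QuadraticMap.polar (⇑(plusQF F m)) (eP a) (eP j) = 0
        rw [hfr.ee, mul_zero]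
      · show v (Sum.inr j) * QuadraticMap.polar (⇑(plusQF F m)) (eP a) (fP j) = 0
        by_cases hj : j = a
        · rw [hj, h1, zero_mul]
        · rw [hfr.ef_ne a j (Ne.symm hj), mul_zero]
    · intro k _
      rw [single_eq_smul]
      rcases k with j | j
      · show Tl (plusQF F m) (eP a) (v (Sum.inl j) • eP j) ∈ H
        by_cases hj : j = a
        · rw [hj, h2]
          exact Tl_smul_self_zero _ (Q_eP a) H
        · exact PE a j (Ne.symm hj) _
      · show Tl (plusQF F m) (eP a) (v (Sum.inr j) • fP j) ∈ H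
        by_cases hj : j = a
        · rw [hj, h1]
          exact Tl_smul_self_zero _ (Q_eP a) H
        · exact hX a j (Ne.symm hj) _
  have hF : ∀ (v : K m → F) (h1 : QuadraticMap.polar (⇑(plusQF F m)) (fP a) v = 0),
      QuadraticMap.polar (⇑(plusQF F m)) (eP a) v = 0 →
      Tel (plusQF F m) (fP a) v (Q_fP a) h1 ∈ H := by
    intro v h1 h2
    rw [polar_fP] at h1
    rw [polar_eP] at h2
    rw [← Tl_eq]
    have key := Tl_sum_mem (plusQF F m) H (Q_fP a) Finset.univ
      (fun k : K m => (Pi.single k (v k) : K m → F)) ?_ ?_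
    · rw [Finset.univ_sum_single] at key
      exact key.2
    · intro k _
      rw [single_eq_smul, polar_smul_right']
      rcases k with j | j
      · show v (Sum.inl j) * QuadraticMap.polar (⇑(plusQF F m)) (fP a) (eP j) = 0
        by_cases hj : j = a
        · rw [hj, h1, zero_mul]
        · rw [hfr.fe_ne _ a j (Ne.symm hj), mul_zero]
      · show v (Sum.inr j) * QuadraticMap.polar (⇑(plusQF F m)) (fP a) (fP j) = 0
        rw [hfr.ff, mul_zero]
    · intro k _
      rw [single_eq_smul]
      rcases k with j | j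
      · show Tl (plusQF F m) (fP a) (v (Sum.inl j) • eP j) ∈ H
        by_cases hj : j = a
        · rw [hj, h1]
          exact Tl_smul_self_zero _ (Q_fP a) H
        · exact hX' a j (Ne.symm hj) _
      · show Tl (plusQF F m) (fP a) (v (Sum.inr j) • fP j) ∈ H
        by_cases hj : j = a
        · rw [hj, h2]
          exact Tl_smul_self_zero _ (Q_fP a) H
        · exact PF a j (Ne.symm hj) _
  -- the nonsingular vector
  have hz1' : QuadraticMap.polar (⇑(plusQF F m)) (eP a) (eP c + fP c) = 0 := by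
    rw [polar_add_right', hfr.ee, hfr.ef_ne a c hac, add_zero]
  have hz2' : QuadraticMap.polar (⇑(plusQF F m)) (fP a) (eP c + fP c) = 0 := by
    rw [polar_add_right', hfr.ff, hfr.fe_ne _ a c hac, add_zero]
  have hzne : plusQF F m (eP c + fP c) ≠ 0 := by
    rw [Q_add', hfr.Qe, hfr.Qf, hfr.ef_same]
    simp
  have hnd := Cfsg.Agent.S0287.nondeg (F := F) m
  have hall := Tel_mem_of_rootGroups (plusQF F m) (eP a) (fP a) H (Q_eP a) (Q_fP a)
    (hfr.ef_same a) hE hF (eP c + fP c) hz1' hz2' hzne hnd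
  refine le_trans (commutator_le_closure_TelSet (plusQF F m) hnd ?_) ?_
  · rw [Fintype.card_sum, Fintype.card_fin]
    omega
  · rw [Subgroup.closure_le]
    rintro g ⟨u, v, hu, huv, rfl⟩
    exact hall u v hu huv

end Cfsg.Agent.Lib.H4.OG
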