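import Cfsg.Agent.Lib.H4.OG.Siegel

/-!
# Root elements relative to a hyperbolic frame (helper4)

`Tl Q u v` is the total version of `Tel`.  For a family of mutually orthogonal hyperbolic pairs
`(e i, f i)` and a subgroup `H` containing the "Levi" root elements `T_{e_i, t f_j}` (`i ≠ j`),
one nontrivial root element `T_{e_a, t e_b}` in `H` forces all of them to be in `H`.
-/

set_option autoImplicit false
set_option linter.unusedSectionVars false

namespace Cfsg.Agent.Lib.H4.OG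

open Matrix

variable {F : Type*} [Field F] {ι : Type} [Fintype ι] [DecidableEq ι]
variable (Q : QuadraticForm F (ι → F))

set_option quotPrecheck false in
local notation "B" => QuadraticMap.polar (⇑Q)

open Classical in
/-- total version of `Tel` -/
noncomputable def Tl (u v : ι → F) : ↥(Cfsg.isometryGroup F ⇑Q) :=
  if h : Q u = 0 ∧ B u v = 0 then Tel Q u v h.1 h.2 else 1

theorem Tl_eq {u v : ι → F} (hu : Q u = 0) (huv : B u v = 0) : Tl Q u v = Tel Q u v hu huv := by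
  unfold Tl
  rw [dif_pos ⟨hu, huv⟩]

theorem act_Tl {u v : ι → F} (hu : Q u = 0) (huv : B u v = 0) (x : ι → F) :
    act Q (Tl Q u v) x = x + (B v x) • u - (B u x) • v - (Q v * B u x) • u := by
  rw [Tl_eq Q hu huv, act_Tel]

theorem act_Tl_of_sing {u v : ι → F} (hu : Q u = 0) (huv : B u v = 0) (hv : Q v = 0) (x : ι → F) :
    act Q (Tl Q u v) x = x + (B v x) • u - (B u x) • v := by
  rw [Tl_eq Q hu huv, act_Tel_of_sing Q u v hu huv hv]

theorem Tl_mul {u v w : ι → F} (hu : Q u = 0) (huv : B u v = 0) (huw : B u w = 0) :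
    Tl Q u v * Tl Q u w = Tl Q u (v + w) := by
  rw [Tl_eq Q hu huv, Tl_eq Q hu huw, Tel_mul]
  exact (Tl_eq Q hu _).symm

theorem Tl_zero {u : ι → F} (hu : Q u = 0) : Tl Q u 0 = 1 := by
  rw [Tl_eq Q hu (QuadraticMap.polar_zero_right _ u), Tel_zero]

theorem Tl_inv {u v : ι → F} (hu : Q u = 0) (huv : B u v = 0) : (Tl Q u v)⁻¹ = Tl Q u (-v) := by
  rw [Tl_eq Q hu huv, Tel_inv]
  exact (Tl_eq Q hu _).symm

theorem conj_Tl (g : ↥(Cfsg.isometryGroup F ⇑Q)) {u v : ι → F} (hu : Q u = 0) (huv : B u v = 0) :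
    g * Tl Q u v * g⁻¹ = Tl Q (act Q g u) (act Q g v) := by
  rw [Tl_eq Q hu huv, conj_Tel]
  exact (Tl_eq Q _ _).symm

theorem Tl_smul_left (c : F) {u v : ι → F} (hu : Q u = 0) (huv : B u v = 0) :
    Tl Q (c • u) v = Tl Q u (c • v) := by
  rw [Tl_eq Q (u := c • u) (by rw [Q_smul', hu, mul_zero]) (by rw [polar_smul_left', huv, mul_zero]),
    Tel_smul_left Q c u v hu huv]
  exact (Tl_eq Q hu _).symm

theorem Tl_symm {u v : ι → F} (hu : Q u = 0) (huv : B u v = 0) (hv : Q v = 0) :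
    Tl Q u v = Tl Q v (-u) := by
  rw [Tl_eq Q hu huv, Tel_symm Q u v hu huv hv]
  exact (Tl_eq Q hv _).symm

theorem Tl_add_left {u u' v : ι → F} (hu : Q u = 0) (hu' : Q u' = 0) (hv : Q v = 0)
    (huu' : B u u' = 0) (huv : B u v = 0) (hu'v : B u' v = 0) :
    Tl Q (u + u') v = Tl Q u v * Tl Q u' v := by
  rw [Tl_eq Q hu huv, Tl_eq Q hu' hu'v, ← Tel_add_left Q u u' v hu hu' hv huu' huv hu'v]
  exact Tl_eq Q _ _

theorem Tl_pow {u v : ι → F} (hu : Q u = 0) (huv : B u v = 0) (n : ℕ) :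
    (Tl Q u v) ^ n = Tl Q u ((n : F) • v) := by
  induction n with
  | zero => rw [pow_zero, Nat.cast_zero, zero_smul, Tl_zero Q hu]
  | succ k ih =>
    rw [pow_succ, ih, Tl_mul Q hu (by rw [polar_smul_right', huv, mul_zero]) huv, Nat.cast_succ,
      add_smul, one_smul]

/-- a product formula for sums in the second argument -/
theorem Tl_sum_mem (H : Subgroup ↥(Cfsg.isometryGroup F ⇑Q)) {u : ι → F} (hu : Q u = 0)
    {α : Type*} (s : Finset α) (w : α → ι → F) (h : ∀ k ∈ s, B u (w k) = 0)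
    (hm : ∀ k ∈ s, Tl Q u (w k) ∈ H) :
    B u (∑ k ∈ s, w k) = 0 ∧ Tl Q u (∑ k ∈ s, w k) ∈ H := by
  classical
  induction s using Finset.induction_on with
  | empty =>
    rw [Finset.sum_empty, Tl_zero Q hu]
    exact ⟨QuadraticMap.polar_zero_right _ u, H.one_mem⟩
  | insert a s ha ih =>
    have h1 := ih (fun k hk => h k (Finset.mem_insert_of_mem hk))
      (fun k hk => hm k (Finset.mem_insert_of_mem hk))
    have h2 := h a (Finset.mem_insert_self a s)
    have h3 := hm a (Finset.mem_insert_self a s)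
    rw [Finset.sum_insert ha]
    refine ⟨by rw [polar_add_right', h2, h1.1, add_zero], ?_⟩
    rw [← Tl_mul Q hu h2 h1.1]
    exact H.mul_mem h3 h1.2

/-! ### Hyperbolic frames -/

/-- a family of mutually orthogonal hyperbolic pairs -/
structure Frame {κ : Type} (e f : κ → ι → F) : Prop where
  Qe : ∀ i, Q (e i) = 0
  Qf : ∀ i, Q (f i) = 0
  ef_same : ∀ i, B (e i) (f i) = 1
  ef_ne : ∀ i j, i ≠ j → B (e i) (f j) = 0
  ee : ∀ i j, B (e i) (e j) = 0
  ff : ∀ i j, B (f i) (f j) = 0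

variable {κ : Type} {e f : κ → ι → F}

theorem Frame.swap (hfr : Frame Q e f) : Frame Q f e where
  Qe := hfr.Qf
  Qf := hfr.Qe
  ef_same i := by rw [polar_comm' Q]; exact hfr.ef_same i
  ef_ne i j hij := by rw [polar_comm' Q]; exact hfr.ef_ne j i (Ne.symm hij)
  ee := hfr.ff
  ff := hfr.ee

theorem Frame.fe_ne (hfr : Frame Q e f) (i j : κ) (hij : i ≠ j) : B (f i) (e j) = 0 := by
  rw [polar_comm' Q]; exact hfr.ef_ne j i (Ne.symm hij)

theorem Frame.fe_same (hfr : Frame Q e f) (i : κ) : B (f i) (e i) = 1 := by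
  rw [polar_comm' Q]; exact hfr.ef_same i

/-- the Levi root elements in terms of the swapped frame -/
theorem Frame.levi_symm (hfr : Frame Q e f) (i j : κ) (hij : i ≠ j) (t : F) :
    Tl Q (e i) (t • f j) = Tl Q (f j) ((-t) • e i) := by
  have h1 : B (e i) (t • f j) = 0 := by rw [polar_smul_right', hfr.ef_ne i j hij, mul_zero]
  rw [Tl_symm Q (hfr.Qe i) h1 (by rw [Q_smul', hfr.Qf, mul_zero]),
    Tl_smul_left Q t (hfr.Qf j) (by
      rw [QuadraticMap.polar_neg_right, hfr.fe_ne Q j i (Ne.symm hij), neg_zero]),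
    smul_neg, neg_smul]

/-- symmetry of the `e`-root elements -/
theorem Frame.root_symm (hfr : Frame Q e f) (i j : κ) (t : F) :
    Tl Q (e i) (t • e j) = Tl Q (e j) ((-t) • e i) := by
  have h1 : B (e i) (t • e j) = 0 := by rw [polar_smul_right', hfr.ee, mul_zero]
  rw [Tl_symm Q (hfr.Qe i) h1 (by rw [Q_smul', hfr.Qe, mul_zero]),
    Tl_smul_left Q t (hfr.Qe j) (by
      rw [QuadraticMap.polar_neg_right, hfr.ee, neg_zero]),
    smul_neg, neg_smul]

/-- propagation step -/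
theorem Frame.step (hfr : Frame Q e f) (H : Subgroup ↥(Cfsg.isometryGroup F ⇑Q))
    (a b i : κ) (hab : a ≠ b) (hia : i ≠ a) (_hib : i ≠ b) (t s : F)
    (h1 : Tl Q (e a) (t • e b) ∈ H) (h2 : Tl Q (e i) (s • f a) ∈ H) :
    Tl Q (e i) ((s * t) • e b) ∈ H := by
  have hu : Q (e i) = 0 := hfr.Qe i
  have huv : B (e i) (s • f a) = 0 := by rw [polar_smul_right', hfr.ef_ne i a hia, mul_zero]
  have hv : Q (s • f a) = 0 := by rw [Q_smul', hfr.Qf, mul_zero]
  have hga : act Q (Tl Q (e i) (s • f a)) (e a) = e a + s • e i := by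
    rw [act_Tl_of_sing Q hu huv hv, polar_smul_left', hfr.fe_same, hfr.ee, zero_smul, sub_zero,
      mul_one]
  have hgb : act Q (Tl Q (e i) (s • f a)) (t • e b) = t • e b := by
    rw [act_smul, act_Tl_of_sing Q hu huv hv, polar_smul_left', hfr.fe_ne Q a b hab, hfr.ee,
      zero_smul, sub_zero, mul_zero, zero_smul, add_zero]
  have hab' : B (e a) (t • e b) = 0 := by rw [polar_smul_right', hfr.ee, mul_zero]
  have hconj := conj_Tl Q (Tl Q (e i) (s • f a)) (hfr.Qe a) hab'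
  rw [hga, hgb, Tl_add_left Q (hfr.Qe a) (by rw [Q_smul', hfr.Qe, mul_zero])
    (by rw [Q_smul', hfr.Qe, mul_zero]) (by rw [polar_smul_right', hfr.ee, mul_zero]) hab'
    (by rw [polar_smul_left', polar_smul_right', hfr.ee, mul_zero, mul_zero]),
    Tl_smul_left Q s (hfr.Qe i) (by rw [polar_smul_right', hfr.ee, mul_zero]), smul_smul] at hconj
  have h3 : Tl Q (e i) ((s * t) • e b) =
      (Tl Q (e a) (t • e b))⁻¹ * (Tl Q (e i) (s • f a) * Tl Q (e a) (t • e b) *
        (Tl Q (e i) (s • f a))⁻¹) := by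
    rw [hconj, inv_mul_cancel_left]
  rw [h3]
  exact H.mul_mem (H.inv_mem h1) (H.mul_mem (H.mul_mem h2 h1) (H.inv_mem h2))

/-- extraction of a root element from an element `z` which fixes `e a` and maps `f c` to
`α f c + β e d` -/
theorem Frame.extract (hfr : Frame Q e f) (H : Subgroup ↥(Cfsg.isometryGroup F ⇑Q))
    (z : ↥(Cfsg.isometryGroup F ⇑Q)) (hz : z ∈ H) (a c d : κ) (hac : a ≠ c) (α β : F)
    (hz1 : act Q z (e a) = e a) (hz2 : act Q z (f c) = α • f c + β • e d)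
    (hX : ∀ t : F, Tl Q (e a) (t • f c) ∈ H) (t : F) :
    Tl Q (e a) ((t * β) • e d) ∈ H := by
  have h1 : B (e a) (t • f c) = 0 := by rw [polar_smul_right', hfr.ef_ne a c hac, mul_zero]
  have hconj := conj_Tl Q z (hfr.Qe a) h1
  have h2 : B (e a) ((t * α) • f c) = 0 := by rw [polar_smul_right', hfr.ef_ne a c hac, mul_zero]
  have h3 : B (e a) ((t * β) • e d) = 0 := by rw [polar_smul_right', hfr.ee, mul_zero]
  have h4 : t • (α • f c + β • e d) = (t * α) • f c + (t * β) • e d := by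
    rw [smul_add, smul_smul, smul_smul]
  rw [act_smul, hz1, hz2, h4, ← Tl_mul Q (hfr.Qe a) h2 h3] at hconj
  have h5 : Tl Q (e a) ((t * β) • e d) =
      (Tl Q (e a) ((t * α) • f c))⁻¹ * (z * Tl Q (e a) (t • f c) * z⁻¹) := by
    rw [hconj, inv_mul_cancel_left]
  rw [h5]
  exact H.mul_mem (H.inv_mem (hX _)) (H.mul_mem (H.mul_mem hz (hX t)) (H.inv_mem hz))

/-- one nontrivial `e`-root element together with the Levi root elements gives all `e`-root
elements -/
theorem Frame.root_all (hfr : Frame Q e f) (H : Subgroup ↥(Cfsg.isometryGroup F ⇑Q))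
    (hthird : ∀ a b : κ, ∃ c, c ≠ a ∧ c ≠ b)
    (hX : ∀ i j, i ≠ j → ∀ t : F, Tl Q (e i) (t • f j) ∈ H)
    (a b : κ) (hab : a ≠ b) (t₀ : F) (ht₀ : t₀ ≠ 0) (h0 : Tl Q (e a) (t₀ • e b) ∈ H) :
    ∀ i j, i ≠ j → ∀ t : F, Tl Q (e i) (t • e j) ∈ H := by
  classical
  have sym : ∀ i j, (∀ t : F, Tl Q (e i) (t • e j) ∈ H) → ∀ t : F, Tl Q (e j) (t • e i) ∈ H := by
    intro i j h t
    have := h (-t)
    rwa [hfr.root_symm Q i j (-t), neg_neg] at this
  have stepA : ∀ (a b i : κ) (t : F), a ≠ b → i ≠ a → i ≠ b → t ≠ 0 → Tl Q (e a) (t • e b) ∈ H →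
      ∀ t' : F, Tl Q (e i) (t' • e b) ∈ H := by
    intro a b i t hab hia hib ht h t'
    have := hfr.step Q H a b i hab hia hib t (t' / t) h (hX i a hia _)
    rwa [div_mul_cancel₀ t' ht] at this
  have star1 : ∀ a b : κ, a ≠ b → (∀ t : F, Tl Q (e a) (t • e b) ∈ H) → ∀ j, j ≠ a →
      ∀ t : F, Tl Q (e a) (t • e j) ∈ H := by
    intro a b hab h j hja
    by_cases hjb : j = b
    · rw [hjb]; exact h
    · apply sym j a
      exact stepA b a j 1 (Ne.symm hab) hjb hja one_ne_zero (sym a b h 1)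
  have star2 : ∀ a b : κ, a ≠ b → (∀ t : F, Tl Q (e a) (t • e b) ∈ H) → ∀ i, i ≠ b →
      ∀ t : F, Tl Q (e i) (t • e b) ∈ H := by
    intro a b hab h i hib
    by_cases hia : i = a
    · rw [hia]; exact h
    · exact stepA a b i 1 hab hia hib one_ne_zero (h 1)
  obtain ⟨c, hca, hcb⟩ := hthird a b
  have hcb' : ∀ t, Tl Q (e c) (t • e b) ∈ H := stepA a b c t₀ hab hca hcb ht₀ h0
  intro i j hij
  by_cases hib : i = b
  · subst hib
    exact star1 i c (Ne.symm hcb) (sym c i hcb') j (Ne.symm hij)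
  · exact star1 i b hib (star2 c b hcb hcb' i hib) j (Ne.symm hij)

end Cfsg.Agent.Lib.H4.OG
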