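import Mathlib
import Cfsg.Prelude.Def_Classical
import Cfsg.Agent.Lib.H4.Orth

/-!
# General Siegel elements of an orthogonal group (helper4)

For a quadratic form `Q` on `ι → F`, a singular vector `u` and a vector `v` orthogonal to `u`
(not necessarily singular), `Tel Q u v hu huv` is the isometry
`x ↦ x + B(v,x) u - B(u,x) v - Q(v) B(u,x) u`.  For fixed `u` these form an abelian group
(`Tel_mul`), they are permuted by conjugation (`conj_Tel`), and for singular `v` they are the
Siegel transformations of the prelude (`Tel_val_of_sing`).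
-/

set_option autoImplicit false
set_option linter.unusedSectionVars false

namespace Cfsg.Agent.Lib.H4.OG

open Matrix

variable {F : Type*} [Field F] {ι : Type} [Fintype ι] [DecidableEq ι]
variable (Q : QuadraticForm F (ι → F))

set_option quotPrecheck false in
local notation "B" => QuadraticMap.polar (⇑Q)

/-- membership in the isometry group -/
theorem mem_iso_iff (g : GL ι F) :
    g ∈ Cfsg.isometryGroup F ⇑Q ↔ ∀ x, Q ((g : Matrix ι ι F) *ᵥ x) = Q x := by
  constructor
  · intro h x; exact h x 0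
  · intro h x _; exact h x

/-- the action on vectors -/
def act (g : ↥(Cfsg.isometryGroup F ⇑Q)) (x : ι → F) : ι → F :=
  ((g : GL ι F) : Matrix ι ι F) *ᵥ x

theorem act_mul (g h : ↥(Cfsg.isometryGroup F ⇑Q)) (x : ι → F) :
    act Q (g * h) x = act Q g (act Q h x) := by
  unfold act
  rw [Subgroup.coe_mul, Units.val_mul, Matrix.mulVec_mulVec]

theorem act_one (x : ι → F) : act Q 1 x = x := by
  unfold act
  rw [Subgroup.coe_one, Units.val_one, Matrix.one_mulVec]

theorem act_inv_act (g : ↥(Cfsg.isometryGroup F ⇑Q)) (x : ι → F) :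
    act Q g⁻¹ (act Q g x) = x := by
  rw [← act_mul, inv_mul_cancel, act_one]

theorem act_act_inv (g : ↥(Cfsg.isometryGroup F ⇑Q)) (x : ι → F) :
    act Q g (act Q g⁻¹ x) = x := by
  rw [← act_mul, mul_inv_cancel, act_one]

theorem act_add (g : ↥(Cfsg.isometryGroup F ⇑Q)) (x y : ι → F) :
    act Q g (x + y) = act Q g x + act Q g y := by
  unfold act; rw [Matrix.mulVec_add]

theorem act_sub (g : ↥(Cfsg.isometryGroup F ⇑Q)) (x y : ι → F) :
    act Q g (x - y) = act Q g x - act Q g y := by
  unfold act; rw [Matrix.mulVec_sub]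

theorem act_neg (g : ↥(Cfsg.isometryGroup F ⇑Q)) (x : ι → F) :
    act Q g (-x) = -act Q g x := by
  unfold act; rw [Matrix.mulVec_neg]

theorem act_smul (g : ↥(Cfsg.isometryGroup F ⇑Q)) (c : F) (x : ι → F) :
    act Q g (c • x) = c • act Q g x := by
  unfold act; rw [Matrix.mulVec_smul]

theorem act_zero (g : ↥(Cfsg.isometryGroup F ⇑Q)) : act Q g 0 = 0 := by
  unfold act; rw [Matrix.mulVec_zero]

theorem Q_act (g : ↥(Cfsg.isometryGroup F ⇑Q)) (x : ι → F) : Q (act Q g x) = Q x :=
  (mem_iso_iff Q g.1).1 g.2 x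

theorem polar_act (g : ↥(Cfsg.isometryGroup F ⇑Q)) (x y : ι → F) :
    B (act Q g x) (act Q g y) = B x y := by
  unfold QuadraticMap.polar
  rw [← act_add, Q_act, Q_act, Q_act]

theorem polar_act_left (g : ↥(Cfsg.isometryGroup F ⇑Q)) (x y : ι → F) :
    B (act Q g x) y = B x (act Q g⁻¹ y) := by
  conv_lhs => rw [← act_act_inv Q g y]
  rw [polar_act]

theorem act_ext {g h : ↥(Cfsg.isometryGroup F ⇑Q)} (H : ∀ x, act Q g x = act Q h x) : g = h := by
  apply Subtype.ext
  apply Units.ext
  apply Matrix.toLin'.injective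
  apply LinearMap.ext
  intro x
  rw [Matrix.toLin'_apply, Matrix.toLin'_apply]
  exact H x

/-- the isometry attached to a linear equivalence preserving `Q` -/
noncomputable def ofEquiv (g : (ι → F) ≃ₗ[F] (ι → F)) (hg : ∀ x, Q (g x) = Q x) :
    ↥(Cfsg.isometryGroup F ⇑Q) :=
  ⟨⟨LinearMap.toMatrix' g.toLinearMap, LinearMap.toMatrix' g.symm.toLinearMap,
      by rw [← LinearMap.toMatrix'_comp]; simp,
      by rw [← LinearMap.toMatrix'_comp]; simp⟩,
    (mem_iso_iff Q _).2 (fun x => by
      show Q (LinearMap.toMatrix' g.toLinearMap *ᵥ x) = Q x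
      rw [← Matrix.toLin'_apply, Matrix.toLin'_toMatrix']
      exact hg x)⟩

theorem act_ofEquiv (g : (ι → F) ≃ₗ[F] (ι → F)) (hg : ∀ x, Q (g x) = Q x) (x : ι → F) :
    act Q (ofEquiv Q g hg) x = g x := by
  show LinearMap.toMatrix' g.toLinearMap *ᵥ x = g x
  rw [← Matrix.toLin'_apply, Matrix.toLin'_toMatrix']
  rfl

/-! ### The Siegel maps -/

/-- the Siegel map as a function -/
def Tfun (u v : ι → F) (x : ι → F) : ι → F :=
  x + (B v x) • u - (B u x) • v - (Q v * B u x) • u

theorem polar_add_right' (x y z : ι → F) : B x (y + z) = B x y + B x z :=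
  QuadraticMap.polar_add_right Q x y z

theorem polar_smul_right' (c : F) (x y : ι → F) : B x (c • y) = c * B x y := by
  rw [QuadraticMap.polar_smul_right, smul_eq_mul]

theorem polar_add_left' (x y z : ι → F) : B (x + y) z = B x z + B y z :=
  QuadraticMap.polar_add_left Q x y z

theorem polar_smul_left' (c : F) (x y : ι → F) : B (c • x) y = c * B x y := by
  rw [QuadraticMap.polar_smul_left, smul_eq_mul]

theorem polar_sub_right' (x y z : ι → F) : B x (y - z) = B x y - B x z := by
  rw [sub_eq_add_neg, polar_add_right', QuadraticMap.polar_neg_right]; ring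

theorem polar_sub_left' (x y z : ι → F) : B (x - y) z = B x z - B y z := by
  rw [sub_eq_add_neg, polar_add_left', QuadraticMap.polar_neg_left]; ring

theorem polar_comm' (x y : ι → F) : B x y = B y x := QuadraticMap.polar_comm _ x y

theorem polar_self_of_sing {u : ι → F} (hu : Q u = 0) : B u u = 0 := by
  rw [Cfsg.Agent.Lib.H4.polar_self, hu, mul_zero]

theorem Q_add' (x y : ι → F) : Q (x + y) = Q x + Q y + B x y := by
  unfold QuadraticMap.polar; ring

theorem Q_sub' (x y : ι → F) : Q (x - y) = Q x + Q y - B x y := by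
  rw [sub_eq_add_neg, Q_add', QuadraticMap.map_neg, QuadraticMap.polar_neg_right]; ring

theorem Q_smul' (c : F) (x : ι → F) : Q (c • x) = c * c * Q x := by
  rw [QuadraticMap.map_smul, smul_eq_mul]

theorem Tfun_add (u v x y : ι → F) : Tfun Q u v (x + y) = Tfun Q u v x + Tfun Q u v y := by
  unfold Tfun
  rw [polar_add_right', polar_add_right']
  ext i
  simp only [Pi.add_apply, Pi.sub_apply, Pi.smul_apply, smul_eq_mul]
  ring

theorem Tfun_smul (u v : ι → F) (c : F) (x : ι → F) : Tfun Q u v (c • x) = c • Tfun Q u v x := by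
  unfold Tfun
  rw [polar_smul_right', polar_smul_right']
  ext i
  simp only [Pi.add_apply, Pi.sub_apply, Pi.smul_apply, smul_eq_mul]
  ring

theorem polar_u_Tfun {u v : ι → F} (hu : Q u = 0) (huv : B u v = 0) (x : ι → F) :
    B u (Tfun Q u v x) = B u x := by
  unfold Tfun
  rw [polar_sub_right', polar_sub_right', polar_add_right', polar_smul_right', polar_smul_right',
    polar_smul_right', polar_self_of_sing Q hu, huv]
  ring

theorem Tfun_comp {u v w : ι → F} (hu : Q u = 0) (huv : B u v = 0) (huw : B u w = 0) (x : ι → F) :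
    Tfun Q u v (Tfun Q u w x) = Tfun Q u (v + w) x := by
  have h1 := polar_u_Tfun Q hu huw x
  have h2 : B v (Tfun Q u w x) = B v x - B u x * B v w := by
    unfold Tfun
    rw [polar_sub_right', polar_sub_right', polar_add_right', polar_smul_right',
      polar_smul_right', polar_smul_right', polar_comm' Q v u, huv]
    ring
  have h3 : Tfun Q u v (Tfun Q u w x) =
      Tfun Q u w x + (B v (Tfun Q u w x)) • u - (B u (Tfun Q u w x)) • v
        - (Q v * B u (Tfun Q u w x)) • u := rfl
  rw [h3, h1, h2]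
  unfold Tfun
  rw [Q_add', polar_add_left']
  ext i
  simp only [Pi.add_apply, Pi.sub_apply, Pi.smul_apply, smul_eq_mul]
  ring

theorem Tfun_zero (u x : ι → F) : Tfun Q u 0 x = x := by
  unfold Tfun
  rw [QuadraticMap.polar_zero_left, QuadraticMap.map_zero]
  simp

theorem Q_Tfun {u v : ι → F} (hu : Q u = 0) (huv : B u v = 0) (x : ι → F) :
    Q (Tfun Q u v x) = Q x := by
  have e : Tfun Q u v x = x + ((B v x - Q v * B u x) • u - (B u x) • v) := by
    unfold Tfun
    ext i
    simp only [Pi.add_apply, Pi.sub_apply, Pi.smul_apply, smul_eq_mul]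
    ring
  rw [e, Q_add', Q_sub', Q_smul', Q_smul', hu, polar_smul_left', polar_smul_right', huv,
    polar_sub_right', polar_smul_right', polar_smul_right', polar_comm' Q x u, polar_comm' Q x v]
  ring

/-- the Siegel map as a linear equivalence -/
noncomputable def Tequiv (u v : ι → F) (hu : Q u = 0) (huv : B u v = 0) : (ι → F) ≃ₗ[F] (ι → F) where
  toFun := Tfun Q u v
  map_add' := Tfun_add Q u v
  map_smul' c x := by rw [Tfun_smul]; rfl
  invFun := Tfun Q u (-v)
  left_inv x := by
    have h : B u (-v) = 0 := by rw [QuadraticMap.polar_neg_right, huv, neg_zero]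
    rw [Tfun_comp Q hu h huv, neg_add_cancel, Tfun_zero]
  right_inv x := by
    have h : B u (-v) = 0 := by rw [QuadraticMap.polar_neg_right, huv, neg_zero]
    rw [Tfun_comp Q hu huv h, add_neg_cancel, Tfun_zero]

/-- the Siegel element `T_{u,v}` -/
noncomputable def Tel (u v : ι → F) (hu : Q u = 0) (huv : B u v = 0) :
    ↥(Cfsg.isometryGroup F ⇑Q) :=
  ofEquiv Q (Tequiv Q u v hu huv) (fun x => Q_Tfun Q hu huv x)

theorem act_Tel (u v : ι → F) (hu : Q u = 0) (huv : B u v = 0) (x : ι → F) :
    act Q (Tel Q u v hu huv) x = x + (B v x) • u - (B u x) • v - (Q v * B u x) • u := by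
  exact (act_ofEquiv Q (Tequiv Q u v hu huv) _ x).trans rfl

theorem act_Tel' (u v : ι → F) (hu : Q u = 0) (huv : B u v = 0) (x : ι → F) :
    act Q (Tel Q u v hu huv) x = Tfun Q u v x := act_Tel Q u v hu huv x

theorem Tel_mul (u v w : ι → F) (hu : Q u = 0) (huv : B u v = 0) (huw : B u w = 0) :
    Tel Q u v hu huv * Tel Q u w hu huw =
      Tel Q u (v + w) hu (by rw [polar_add_right', huv, huw, add_zero]) := by
  apply act_ext
  intro x
  rw [act_mul, act_Tel', act_Tel', act_Tel', Tfun_comp Q hu huv huw]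

theorem Tel_congr {u u' v v' : ι → F} (hu : Q u = 0) (huv : B u v = 0) (h1 : u = u') (h2 : v = v') :
    Tel Q u v hu huv = Tel Q u' v' (h1 ▸ hu) (h1 ▸ h2 ▸ huv) := by
  subst h1; subst h2; rfl

theorem Tel_zero (u : ι → F) (hu : Q u = 0) :
    Tel Q u 0 hu (QuadraticMap.polar_zero_right _ u) = 1 := by
  apply act_ext
  intro x
  rw [act_Tel', Tfun_zero, act_one]

theorem Tel_inv (u v : ι → F) (hu : Q u = 0) (huv : B u v = 0) :
    (Tel Q u v hu huv)⁻¹ =
      Tel Q u (-v) hu (by rw [QuadraticMap.polar_neg_right, huv, neg_zero]) := by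
  rw [inv_eq_iff_mul_eq_one, Tel_mul]
  rw [Tel_congr Q hu _ rfl (add_neg_cancel v)]
  exact Tel_zero Q u hu

theorem Tel_comm (u v w : ι → F) (hu : Q u = 0) (huv : B u v = 0) (huw : B u w = 0) :
    Tel Q u v hu huv * Tel Q u w hu huw = Tel Q u w hu huw * Tel Q u v hu huv := by
  rw [Tel_mul, Tel_mul]
  exact Tel_congr Q hu _ rfl (add_comm v w)

/-- conjugation -/
theorem conj_Tel (g : ↥(Cfsg.isometryGroup F ⇑Q)) (u v : ι → F) (hu : Q u = 0) (huv : B u v = 0) :
    g * Tel Q u v hu huv * g⁻¹ =
      Tel Q (act Q g u) (act Q g v) (by rw [Q_act, hu]) (by rw [polar_act, huv]) := by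
  apply act_ext
  intro x
  rw [act_mul, act_mul, act_Tel, act_Tel, act_sub, act_sub, act_add, act_smul, act_smul, act_smul,
    act_act_inv, Q_act, polar_act_left Q g u, polar_act_left Q g v]

/-- scaling -/
theorem Tel_smul_left (c : F) (u v : ι → F) (hu : Q u = 0) (huv : B u v = 0) :
    Tel Q (c • u) v (by rw [Q_smul', hu, mul_zero]) (by rw [polar_smul_left', huv, mul_zero]) =
      Tel Q u (c • v) hu (by rw [polar_smul_right', huv, mul_zero]) := by
  apply act_ext
  intro x
  rw [act_Tel, act_Tel, polar_smul_left', polar_smul_left', Q_smul']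
  ext i
  simp only [Pi.add_apply, Pi.sub_apply, Pi.smul_apply, smul_eq_mul]
  ring

/-- `T_{u,v}` only depends on `v` modulo `u` -/
theorem Tel_add_smul (a : F) (u v : ι → F) (hu : Q u = 0) (huv : B u v = 0) :
    Tel Q u (v + a • u) hu
      (by rw [polar_add_right', polar_smul_right', huv, polar_self_of_sing Q hu]; ring) =
      Tel Q u v hu huv := by
  apply act_ext
  intro x
  rw [act_Tel, act_Tel, polar_add_left', polar_smul_left', Q_add', Q_smul', hu,
    polar_smul_right', polar_comm' Q v u, huv]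
  ext i
  simp only [Pi.add_apply, Pi.sub_apply, Pi.smul_apply, smul_eq_mul]
  ring

/-- for singular `v`, `T_{u,v}` is the Siegel transformation of the prelude with parameter `-1` -/
theorem act_Tel_of_sing (u v : ι → F) (hu : Q u = 0) (huv : B u v = 0) (hv : Q v = 0) (x : ι → F) :
    act Q (Tel Q u v hu huv) x = x + (B v x) • u - (B u x) • v := by
  rw [act_Tel, hv, zero_mul, zero_smul, sub_zero]

/-- symmetry for singular pairs -/
theorem Tel_symm (u v : ι → F) (hu : Q u = 0) (huv : B u v = 0) (hv : Q v = 0) :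
    Tel Q u v hu huv =
      Tel Q v (-u) hv (by rw [QuadraticMap.polar_neg_right, polar_comm' Q v u, huv, neg_zero]) := by
  apply act_ext
  intro x
  rw [act_Tel_of_sing Q u v hu huv hv, act_Tel_of_sing Q v (-u) hv _
    (by rw [QuadraticMap.map_neg, hu]), QuadraticMap.polar_neg_left]
  ext i
  simp only [Pi.add_apply, Pi.sub_apply, Pi.smul_apply, smul_eq_mul, Pi.neg_apply]
  ring

/-- additivity in the first argument, for singular pairs -/
theorem Tel_add_left (u u' v : ι → F) (hu : Q u = 0) (hu' : Q u' = 0) (hv : Q v = 0)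
    (huu' : B u u' = 0) (huv : B u v = 0) (hu'v : B u' v = 0) :
    Tel Q (u + u') v (by rw [Q_add', hu, hu', huu']; ring)
        (by rw [polar_add_left', huv, hu'v, add_zero]) =
      Tel Q u v hu huv * Tel Q u' v hu' hu'v := by
  apply act_ext
  intro x
  have hQ : Q (u + u') = 0 := by rw [Q_add', hu, hu', huu']; ring
  rw [act_mul, act_Tel_of_sing Q (u + u') v hQ _ hv, act_Tel_of_sing Q u v hu huv hv,
    act_Tel_of_sing Q u' v hu' hu'v hv]
  rw [polar_add_left', polar_sub_right', polar_sub_right', polar_add_right', polar_add_right',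
    polar_smul_right', polar_smul_right', polar_smul_right', polar_smul_right',
    polar_self_of_sing Q hv, huu', polar_comm' Q v u', hu'v, huv]
  ext i
  simp only [Pi.add_apply, Pi.sub_apply, Pi.smul_apply, smul_eq_mul]
  ring

/-- the matrix of a Siegel transformation of the prelude is a `Tel` -/
theorem eq_Tel_of_val {g : ↥(Cfsg.isometryGroup F ⇑Q)} {u v : ι → F} {c : F}
    (hu : Q u = 0) (hv : Q v = 0) (huv : B u v = 0)
    (hg : ((g : GL ι F) : Matrix ι ι F) = Cfsg.siegelMatrix (⇑Q) u v c) :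
    g = Tel Q u ((-c) • v) hu (by rw [polar_smul_right', huv, mul_zero]) := by
  apply act_ext
  intro x
  rw [act_Tel_of_sing Q u _ hu _ (by rw [Q_smul', hv, mul_zero])]
  show ((g : GL ι F) : Matrix ι ι F) *ᵥ x = _
  rw [hg, Cfsg.Agent.Lib.H4.siegelMatrix_mulVec, polar_smul_left']
  ext i
  simp only [Pi.add_apply, Pi.sub_apply, Pi.smul_apply, smul_eq_mul]
  ring

/-- conversely, `Tel` with singular `v` has a Siegel matrix -/
theorem Tel_val_of_sing (u v : ι → F) (hu : Q u = 0) (huv : B u v = 0) (hv : Q v = 0) :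
    (((Tel Q u v hu huv : ↥(Cfsg.isometryGroup F ⇑Q)) : GL ι F) : Matrix ι ι F) =
      Cfsg.siegelMatrix (⇑Q) u v (-1) := by
  apply Matrix.toLin'.injective
  apply LinearMap.ext
  intro x
  rw [Matrix.toLin'_apply, Matrix.toLin'_apply, Cfsg.Agent.Lib.H4.siegelMatrix_mulVec]
  have := act_Tel_of_sing Q u v hu huv hv x
  unfold act at this
  rw [this]
  ext i
  simp only [Pi.add_apply, Pi.sub_apply, Pi.smul_apply, smul_eq_mul]
  ring

end Cfsg.Agent.Lib.H4.OG
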