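import Cfsg.Agent.Lib.H4.OG.PlusGen
import Cfsg.Agent.Lib.H13.OrthSum

/-!
# The orthogonal sum of a hyperbolic form and a second form (helper4)

`QM k Q₂ = plusQF F k ⊥ Q₂` on the index type `K k ⊕ ι₂`, its standard hyperbolic frame
`eM i, fM i`, the embedding `ιR` of the second summand, and the Levi map `leviM` on `SL_k`.
-/

set_option autoImplicit false
set_option linter.unusedSectionVars false

namespace Cfsg.Agent.Lib.H4.OG

open Matrix Cfsg.Agent.Lib.H13 Cfsg.Agent.Lib.H13.PlusLevi Cfsg.Agent.Lib.H13.OrthSum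

variable {F : Type*} [Field F] {k : ℕ} {ι₂ : Type} [Fintype ι₂] [DecidableEq ι₂]

/-- the sum form -/
noncomputable abbrev QM (k : ℕ) (Q₂ : QuadraticForm F (ι₂ → F)) :
    QuadraticForm F (K k ⊕ ι₂ → F) := sumQF (plusQF F k) Q₂

/-- embedding of the hyperbolic summand -/
def ιL (u : K k → F) : K k ⊕ ι₂ → F := Sum.elim u 0

/-- embedding of the second summand -/
def ιR (w : ι₂ → F) : K k ⊕ ι₂ → F := Sum.elim 0 w

/-- the frame vectors -/
def eM (i : Fin k) : K k ⊕ ι₂ → F := ιL (eP i)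

def fM (i : Fin k) : K k ⊕ ι₂ → F := ιL (fP i)

theorem ιL_inl (u : K k → F) : (ιL u : K k ⊕ ι₂ → F) ∘ Sum.inl = u := rfl
theorem ιL_inr (u : K k → F) : (ιL u : K k ⊕ ι₂ → F) ∘ Sum.inr = 0 := rfl
theorem ιR_inl (w : ι₂ → F) : (ιR w : K k ⊕ ι₂ → F) ∘ Sum.inl = 0 := rfl
theorem ιR_inr (w : ι₂ → F) : (ιR w : K k ⊕ ι₂ → F) ∘ Sum.inr = w := rfl

theorem ιR_add (w w' : ι₂ → F) : (ιR (w + w') : K k ⊕ ι₂ → F) = ιR w + ιR w' := by
  funext s; rcases s with s | s <;> simp [ιR]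

theorem ιR_smul (c : F) (w : ι₂ → F) : (ιR (c • w) : K k ⊕ ι₂ → F) = c • ιR w := by
  funext s; rcases s with s | s <;> simp [ιR]

theorem ιR_neg (w : ι₂ → F) : (ιR (-w) : K k ⊕ ι₂ → F) = -ιR w := by
  funext s; rcases s with s | s <;> simp [ιR]

theorem ιR_zero : (ιR (0 : ι₂ → F) : K k ⊕ ι₂ → F) = 0 := by
  funext s; rcases s with s | s <;> simp [ιR]

theorem ιL_add (u u' : K k → F) : (ιL (u + u') : K k ⊕ ι₂ → F) = ιL u + ιL u' := by
  funext s; rcases s with s | s <;> simp [ιL]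

theorem ιL_smul (c : F) (u : K k → F) : (ιL (c • u) : K k ⊕ ι₂ → F) = c • ιL u := by
  funext s; rcases s with s | s <;> simp [ιL]

theorem decomp (x : K k ⊕ ι₂ → F) : x = ιL (x ∘ Sum.inl) + ιR (x ∘ Sum.inr) := by
  funext s; rcases s with s | s <;> simp [ιL, ιR]

variable (Q₂ : QuadraticForm F (ι₂ → F))

theorem polar_QM (u v : K k ⊕ ι₂ → F) :
    QuadraticMap.polar (⇑(QM k Q₂)) u v =
      QuadraticMap.polar (⇑(plusQF F k)) (u ∘ Sum.inl) (v ∘ Sum.inl) +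
      QuadraticMap.polar (⇑Q₂) (u ∘ Sum.inr) (v ∘ Sum.inr) := polar_sumQF _ _ u v

theorem QM_apply (v : K k ⊕ ι₂ → F) :
    QM k Q₂ v = plusQF F k (v ∘ Sum.inl) + Q₂ (v ∘ Sum.inr) := rfl

theorem polar_eM (i : Fin k) (x : K k ⊕ ι₂ → F) :
    QuadraticMap.polar (⇑(QM k Q₂)) (eM i) x = x (Sum.inl (Sum.inr i)) := by
  rw [polar_QM, eM, ιL_inl, ιL_inr, QuadraticMap.polar_zero_left, add_zero, polar_eP]
  rfl

theorem polar_fM (i : Fin k) (x : K k ⊕ ι₂ → F) :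
    QuadraticMap.polar (⇑(QM k Q₂)) (fM i) x = x (Sum.inl (Sum.inl i)) := by
  rw [polar_QM, fM, ιL_inl, ιL_inr, QuadraticMap.polar_zero_left, add_zero, polar_fP]
  rfl

theorem polar_ιR (w : ι₂ → F) (x : K k ⊕ ι₂ → F) :
    QuadraticMap.polar (⇑(QM k Q₂)) (ιR w) x = QuadraticMap.polar (⇑Q₂) w (x ∘ Sum.inr) := by
  rw [polar_QM, ιR_inl, ιR_inr, QuadraticMap.polar_zero_left, zero_add]

theorem polar_ιR_ιR (w w' : ι₂ → F) :
    QuadraticMap.polar (⇑(QM k Q₂)) (ιR w : K k ⊕ ι₂ → F) (ιR w') =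
      QuadraticMap.polar (⇑Q₂) w w' := by
  rw [polar_ιR, ιR_inr]

theorem polar_eM_ιR (i : Fin k) (w : ι₂ → F) :
    QuadraticMap.polar (⇑(QM k Q₂)) (eM i) (ιR w) = 0 := by
  rw [polar_eM]; rfl

theorem polar_fM_ιR (i : Fin k) (w : ι₂ → F) :
    QuadraticMap.polar (⇑(QM k Q₂)) (fM i) (ιR w) = 0 := by
  rw [polar_fM]; rfl

theorem polar_ιR_eM (i : Fin k) (w : ι₂ → F) :
    QuadraticMap.polar (⇑(QM k Q₂)) (ιR w) (eM i) = 0 := by
  rw [polar_comm', polar_eM_ιR]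

theorem polar_ιR_fM (i : Fin k) (w : ι₂ → F) :
    QuadraticMap.polar (⇑(QM k Q₂)) (ιR w) (fM i) = 0 := by
  rw [polar_comm', polar_fM_ιR]

theorem Q_ιR (w : ι₂ → F) : QM k Q₂ (ιR w) = Q₂ w := by
  rw [QM_apply, ιR_inl, ιR_inr, map_zero, zero_add]

theorem Q_ιL (u : K k → F) : QM k Q₂ (ιL u) = plusQF F k u := by
  rw [QM_apply, ιL_inl, ιL_inr, map_zero, add_zero]

theorem Q_eM (i : Fin k) : QM k Q₂ (eM i) = 0 := by
  rw [eM, Q_ιL, Q_eP]

theorem Q_fM (i : Fin k) : QM k Q₂ (fM i) = 0 := by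
  rw [fM, Q_ιL, Q_fP]

/-- the standard frame -/
theorem frameM : Frame (QM k Q₂) (eM (F := F) (k := k) (ι₂ := ι₂)) fM where
  Qe := Q_eM Q₂
  Qf := Q_fM Q₂
  ef_same i := by rw [polar_eM]; simp [fM, ιL, fP]
  ef_ne i j hij := by rw [polar_eM]; simp [fM, ιL, fP, hij]
  ee i j := by rw [polar_eM]; simp [eM, ιL, eP]
  ff i j := by rw [polar_fM]; simp [fM, ιL, fP]

/-- the Levi map on `SL_k` -/
noncomputable def leviM (k : ℕ) : Matrix.SpecialLinearGroup (Fin k) F →*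
    ↥(Cfsg.isometryGroup F ⇑(QM k Q₂)) :=
  (blkIso (plusQF F k) Q₂).comp
    ((MonoidHom.inl ↥(Cfsg.isometryGroup F ⇑(plusQF F k)) ↥(Cfsg.isometryGroup F ⇑Q₂)).comp
      (leviSL k))

theorem act_leviM (s : Matrix.SpecialLinearGroup (Fin k) F) (x : K k ⊕ ι₂ → F) :
    act (QM k Q₂) (leviM Q₂ k s) x =
      Sum.elim (act (plusQF F k) (leviSL k s) (x ∘ Sum.inl)) (x ∘ Sum.inr) := by
  unfold act leviM
  rw [MonoidHom.comp_apply, MonoidHom.comp_apply, blkIso_val, fromBlocks_diag_mulVec]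
  simp

theorem leviM_ιR (s : Matrix.SpecialLinearGroup (Fin k) F) (w : ι₂ → F) :
    act (QM k Q₂) (leviM Q₂ k s) (ιR w) = ιR w := by
  rw [act_leviM, ιR_inl, ιR_inr, act_zero]
  rfl

theorem leviM_ιL (s : Matrix.SpecialLinearGroup (Fin k) F) (u : K k → F) :
    act (QM k Q₂) (leviM Q₂ k s) (ιL u) = ιL (act (plusQF F k) (leviSL k s) u) := by
  rw [act_leviM, ιL_inl, ιL_inr]
  rfl

theorem leviM_transvection [Fintype F] {i j : Fin k} (hij : i ≠ j) (t : F) :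
    leviM Q₂ k (Matrix.SpecialLinearGroup.transvection hij t) =
      Tl (QM k Q₂) (eM i) (t • fM j) := by
  have hfr := frameM (F := F) (k := k) Q₂
  have hfrP := frameP (F := F) (m := k)
  apply act_ext
  intro x
  have h1 : QuadraticMap.polar (⇑(QM k Q₂)) (eM i) (t • fM j) = 0 := by
    rw [polar_smul_right', hfr.ef_ne i j hij, mul_zero]
  have h1' : QuadraticMap.polar (⇑(plusQF F k)) (eP i) (t • fP j) = 0 := by
    rw [polar_smul_right', hfrP.ef_ne i j hij, mul_zero]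
  rw [act_Tl_of_sing _ (hfr.Qe i) h1 (by rw [Q_smul', hfr.Qf, mul_zero]), polar_smul_left',
    polar_fM, polar_eM, act_leviM, leviSL_transvection hij t,
    act_Tl_of_sing _ (hfrP.Qe i) h1' (by rw [Q_smul', hfrP.Qf, mul_zero]), polar_smul_left',
    polar_fP, polar_eP]
  funext s
  rcases s with s | s
  · simp [eM, fM, ιL]
  · simp [eM, fM, ιL]

theorem leviM_mem_omega [Fintype F] (hk : 3 ≤ k) (s : Matrix.SpecialLinearGroup (Fin k) F) :
    leviM Q₂ k s ∈ Cfsg.Omega F ⇑(QM k Q₂) := by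
  have h1 : leviSL k s ∈ commutator ↥(Cfsg.isometryGroup F ⇑(plusQF F k)) :=
    leviSL_mem_omega hk s
  set φ : ↥(Cfsg.isometryGroup F ⇑(plusQF F k)) →* ↥(Cfsg.isometryGroup F ⇑(QM k Q₂)) :=
    (blkIso (plusQF F k) Q₂).comp
      (MonoidHom.inl ↥(Cfsg.isometryGroup F ⇑(plusQF F k)) ↥(Cfsg.isometryGroup F ⇑Q₂)) with hφ
  have h2 : φ (leviSL k s) ∈ (commutator ↥(Cfsg.isometryGroup F ⇑(plusQF F k))).map φ :=
    Subgroup.mem_map_of_mem φ h1
  rw [commutator_def, Subgroup.map_commutator] at h2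
  exact Subgroup.commutator_mono le_top le_top h2

end Cfsg.Agent.Lib.H4.OG
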